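import Cfsg.Agent.H98.TensEven.Prod

/-!
Elements fixing the columns of an anisotropic vector in a small overgroup, when the first factor has odd and
the second even dimension.
-/

set_option autoImplicit false
set_option linter.unusedSectionVars false

namespace H98.TE

open H43 H98.TO

variable {F : Type*} [Field F] [Finite F]
  {L : Type*} [AddCommGroup L] [Module F L] [FiniteDimensional F L]
  {S : Type*} [AddCommGroup S] [Module F S] [FiniteDimensional F S]
  {V : Type*} [AddCommGroup V] [Module F V] [FiniteDimensional F V]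

namespace OS

/-- The vectors whose columns are fixed pointwise. -/
def fixL (d : OS F L S V) (g : orthGroup d.Q) : Submodule F L where
  carrier := {x | ∀ e, g.1 (d.t x e) = d.t x e}
  zero_mem' e := by simp
  add_mem' hx hy e := by rw [map_add, LinearMap.add_apply, map_add, hx, hy]
  smul_mem' r x hx e := by rw [map_smul, LinearMap.smul_apply, map_smul, hx]

variable {d : OS F L S V} {H : Subgroup (orthGroup d.Q)}

theorem mem_fixL {g : orthGroup d.Q} {x : L} : x ∈ d.fixL g ↔ ∀ e, g.1 (d.t x e) = d.t x e := Iff.rfl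

theorem fixL_mul {g h : orthGroup d.Q} {x : L} (hg : x ∈ d.fixL g) (hh : x ∈ d.fixL h) : x ∈ d.fixL (g * h) :=
  fun e => by rw [orth_mul_apply, hh, hg]

theorem fixL_inv {g : orthGroup d.Q} {x : L} (hg : x ∈ d.fixL g) : x ∈ d.fixL g⁻¹ :=
  fun e => by conv_lhs => rw [← hg e, orth_inv_apply_self]

theorem fixL_liftL {α : orthGroup d.QL} {x : L} (h : α.1 x = x) : x ∈ d.fixL (d.liftL α) :=
  fun e => by rw [d.liftL_t, h]

theorem liftL_inj {α β : orthGroup d.QL} (h : d.liftL α = d.liftL β) : α = β := by
  obtain ⟨e₁, e₂, he₁, -⟩ := exists_bS_one (d := d)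
  refine orth_ext fun x => d.t_left_ne he₁ ?_
  rw [← d.liftL_t, h, d.liftL_t]

theorem TS_pos_neg {α : orthGroup d.QL} {v : V} (h1 : v ∈ d.TS (pos α)) (h2 : v ∈ d.TS (neg α)) : v = 0 := by
  have h := (liftL_pos h1).symm.trans (liftL_neg h2)
  have : (2 : F) • v = 0 := by rw [two_smul]; exact eq_neg_iff_add_eq_zero.1 h
  exact (smul_eq_zero.1 this).resolve_left d.two

theorem finrank_sup_line_le (R : Submodule F L) (x : L) :
    Module.finrank F (R ⊔ F ∙ x : Submodule F L) ≤ Module.finrank F R + 1 := by
  refine (Submodule.finrank_add_le_finrank_add_finrank _ _).trans (Nat.add_le_add le_rfl ?_)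
  exact (finrank_span_le_card _).trans (by simp)

theorem fix_sing (hH : d.Over H) (hS : d.Small H) {g : orthGroup d.Q} (hg : g ∈ H) {u : L} (hu : d.QL u = 0)
    (hu0 : u ≠ 0) (h : u ∈ d.fixL g) : d.IsT g :=
  stab hH hS hu hu0 hg fun e => by rw [h e]; exact d.t_mem_W u e

/-- An element carrying the columns of a small subspace into those of another. -/
theorem map_block (hH : d.Over H) (hS : d.Small H) {h : orthGroup d.Q} (hh : h ∈ H) {R R' : Submodule F L}
    (hd : Module.finrank F R' + 3 ≤ Module.finrank F L) (hR : ∀ x ∈ H, R ≤ d.fixL x → d.IsT x)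
    (hmap : ∀ y ∈ R, ∀ e, h.1 (d.t y e) ∈ d.TS R') : d.IsT h := by
  have h0 := finrank_orth_add d.ndL R'
  obtain ⟨u, hum, hu0, hu⟩ := exists_singular_in (Q := d.QL) ((polB d.QL).orthogonal R') (by omega)
  obtain ⟨w, ⟨hwm, hwu'⟩, hwn⟩ : ∃ w ∈ (polB d.QL).orthogonal R' ⊓ (polB d.QL).orthogonal (F ∙ u),
      w ∉ F ∙ u := by
    by_contra hcon
    push Not at hcon
    have h1 := Submodule.finrank_mono hcon
    have h2 := Submodule.finrank_sup_add_finrank_inf_eq ((polB d.QL).orthogonal R')
      ((polB d.QL).orthogonal (F ∙ u))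
    have h3 := Submodule.finrank_le ((polB d.QL).orthogonal R' ⊔ (polB d.QL).orthogonal (F ∙ u))
    have h4 := finrank_orth_singleton d.ndL hu0
    rw [finrank_span_singleton hu0] at h1
    omega
  have huw : polB d.QL u w = 0 := mem_orth_singleton.1 hwu'
  have hfix : ∀ v ∈ d.TS R', (d.sg u w).1 v = v := fun v hv =>
    fix_TS (fun x hx e => by rw [d.sg_t hu huw, hum x hx, hwm x hx]; simp) hv
  have hx : h⁻¹ * d.sg u w * h ∈ H := mul_mem (mul_mem (inv_mem hh) (hH.sg_mem hu huw)) hh
  have hT := hR _ hx fun y hy e => by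
    rw [orth_mul_apply, orth_mul_apply, hfix _ (hmap y hy e), orth_inv_apply_self]
  have := root_conj hH hS (inv_mem hh) hu huw hwn hu0 (by rwa [inv_inv])
  simpa using this.inv

/-- Centralisers of the involutions of hyperbolic planes consist of products. -/
theorem cent_pair (hH : d.Over H) (hS : d.Small H) (hodd : Odd (Module.finrank F L)) {u v : L} (hp : HypPair d.QL u v) {c : orthGroup d.Q}
    (hc : c ∈ H) (hcomm : Commute c (d.liftL (pairInv d.QL u v))) : d.IsT c := by
  refine map_block hH hS hc (R := Submodule.span F {u, v}) (R' := Submodule.span F {u, v}) ?_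
    (fun x hx hfix => fix_sing hH hS hx hp.left hp.left_ne_zero (hfix (Submodule.subset_span (by simp)))) ?_
  · rw [finrank_pair hp]; exact (d.five fun h4 => absurd hodd (by rw [h4]; decide))
  · intro y hy e
    rw [← neg_pairInv d.two hp] at hy ⊢
    exact commute_neg (pairInv_sq hp) hcomm (t_mem_TS hy e)

theorem pairInv_mem (hH : d.Over H) (hodd : Odd (Module.finrank F L)) (hev : Even (Module.finrank F S)) {u v : L}
    (hp : HypPair d.QL u v) : d.liftL (pairInv d.QL u v) ∈ H := by
  rw [pairInv, map_mul]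
  exact mul_mem (liftL_refl_mem hH hodd hev (by rw [qmap_pair_sub hp]; exact neg_ne_zero.2 one_ne_zero))
    (liftL_refl_mem hH hodd hev (by rw [qmap_pair_add hp]; exact one_ne_zero))

theorem finrank_resid_pair {u v : L} (hp : HypPair d.QL u v) :
    Module.finrank F (resid (d.liftL (pairInv d.QL u v))) = 2 * Module.finrank F S := by
  rw [resid_liftL (pairInv_sq hp), neg_pairInv d.two hp, finrank_TS, finrank_pair hp]

theorem finrank_resid_refl {m : L} (hm : d.QL m ≠ 0) :
    Module.finrank F (resid (d.liftL (refl d.QL m))) = Module.finrank F S := by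
  rw [resid_liftL (refl_sq m), neg_refl d.two hm, finrank_TS,
    finrank_span_singleton (fun h => hm (by rw [h]; exact QuadraticMap.map_zero _)), one_mul]

theorem conj_invol {G : Type*} [Group G] {t : G} (g : G) (ht : t * t = 1) :
    g * t * g⁻¹ * (g * t * g⁻¹) = 1 := by
  rw [show g * t * g⁻¹ * (g * t * g⁻¹) = g * (t * t) * g⁻¹ by group, ht, mul_one, mul_inv_cancel]

/-- A third involution for two non-conjugate ones. -/
theorem exists_comm {z t : orthGroup d.Q} (hz : z ∈ H) (ht : t ∈ H) (hzz : z * z = 1) (htt : t * t = 1)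
    (hne : Module.finrank F (resid z) ≠ Module.finrank F (resid t)) :
    ∃ c ∈ H, c ≠ 1 ∧ c * c = 1 ∧ Commute c z ∧ Commute c t ∧ resid c ≤ resid z ⊔ resid t ∧
      (∀ x, x ∈ d.fixL z → x ∈ d.fixL t → x ∈ d.fixL c) := by
  haveI : Finite V := Module.finite_of_finite F
  haveI : Finite (orthGroup d.Q) := finite_orthGroup
  rcases dihedral hzz htt with ⟨k, hk⟩ | ⟨k, h1, h2, h3, h4⟩
  · refine absurd ?_ hne
    rw [hk, resid_conj, LinearEquiv.finrank_map_eq]
  · exact ⟨_, pow_mem (mul_mem hz ht) k, h1, h2, h3, h4, resid_pow_le k,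
      fun x hxz hxt e => fix_pow (hxz e) (hxt e) k⟩

/-- A product conjugate of a reflection fixing a column moves a single column. -/
theorem column_of_isT {h z : orthGroup d.Q} {m : L} (hm : d.QL m ≠ 0)
    (hz : z = h * d.liftL (refl d.QL m) * h⁻¹) (hzT : d.IsT z) {n : L} (hn : d.QL n ≠ 0) (hfix : n ∈ d.fixL z) :
    ∃ K : Submodule F L, Module.finrank F K = 1 ∧ ∀ e, h.1 (d.t m e) ∈ d.TS K := by
  have hzz : z * z = 1 := by rw [hz]; exact conj_invol h (liftL_sq (refl_sq m))
  obtain ⟨α, rfl, -⟩ := eq_liftL_of_fix hzT hn hfix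
  have hα : α * α = 1 := liftL_inj (by rw [map_mul, hzz, map_one])
  refine ⟨neg α, ?_, fun e => ?_⟩
  · have h1 : Module.finrank F (resid (d.liftL α)) = Module.finrank F S := by
      rw [hz, resid_conj, LinearEquiv.finrank_map_eq, finrank_resid_refl hm]
    rw [resid_liftL hα, finrank_TS] at h1
    have := d.three
    exact Nat.eq_of_mul_eq_mul_right (by omega) (h1.trans (one_mul _).symm)
  · rw [← resid_liftL hα, hz, resid_conj, resid_liftL (refl_sq m), neg_refl d.two hm]
    exact Submodule.mem_map_of_mem (t_mem_TS (Submodule.mem_span_singleton_self m) e)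

variable (hH : d.Over H) (hS : d.Small H) (hodd : Odd (Module.finrank F L))
  (hev : Even (Module.finrank F S))

include hH hS hodd hev in
/-- The common data of a fixed column and a hyperbolic pair orthogonal to it. -/
theorem exists_split {h : orthGroup d.Q} (hh : h ∈ H) {n : L} (hn : d.QL n ≠ 0) (hfix : n ∈ d.fixL h) {u v m : L}
    (hp : HypPair d.QL u v) (hnu : polB d.QL n u = 0) (hnv : polB d.QL n v = 0) (hm : d.QL m ≠ 0)
    (hnm : polB d.QL n m = 0) :
    ∃ z α, z = h * d.liftL (refl d.QL m) * h⁻¹ ∧ z ∈ H ∧ α * α = 1 ∧ α.1 n = n ∧ Commute z (d.liftL α) ∧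
      (∀ y ∈ Submodule.span F ({u, v} : Set L), α.1 y ∈ Submodule.span F ({u, v} : Set L)) ∧
      1 ≤ Module.finrank F (neg α) ∧ Module.finrank F (neg α) ≤ 3 := by
  set z := h * d.liftL (refl d.QL m) * h⁻¹ with hz
  set t₂ := d.liftL (pairInv d.QL u v) with ht₂
  have hzH : z ∈ H := mul_mem (mul_mem hh (liftL_refl_mem hH hodd hev hm)) (inv_mem hh)
  have hfz : n ∈ d.fixL z := fixL_mul (fixL_mul hfix (fixL_liftL (refl_fix hnm))) (fixL_inv hfix)
  have hrz : Module.finrank F (resid z) = Module.finrank F S := by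
    rw [hz, resid_conj, LinearEquiv.finrank_map_eq, finrank_resid_refl hm]
  obtain ⟨c, hcH, hc1, hcc, hcz, hct, hcr, hcf⟩ := exists_comm hzH (pairInv_mem hH hodd hev hp)
    (by rw [hz]; exact conj_invol h (liftL_sq (refl_sq m))) (liftL_sq (pairInv_sq hp))
    (by rw [hrz, finrank_resid_pair hp]; have := d.three; omega)
  have hfc := hcf n hfz (fixL_liftL (pairInv_fix hp hnu hnv))
  obtain ⟨α, rfl, hαn⟩ := eq_liftL_of_fix (cent_pair hH hS hodd hp hcH hct) hn hfc
  have hα : α * α = 1 := liftL_inj (by rw [map_mul, hcc, map_one])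
  have hcomm : α * pairInv d.QL u v = pairInv d.QL u v * α := liftL_inj (by rw [map_mul, map_mul]; exact hct)
  refine ⟨z, α, hz, hzH, hα, hαn, hcz.symm, fun y hy => ?_, ?_, ?_⟩
  · rw [← neg_pairInv d.two hp, mem_neg] at hy ⊢
    rw [← orth_mul_apply, ← hcomm, orth_mul_apply, hy, map_neg]
  · by_contra h0
    refine hc1 (eq_one_of_resid_eq_bot (Submodule.finrank_eq_zero.1 ?_))
    rw [resid_liftL hα, finrank_TS, show Module.finrank F (neg α) = 0 by omega, zero_mul]
  · have h1 := (Submodule.finrank_mono hcr).trans (Submodule.finrank_add_le_finrank_add_finrank _ _)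
    rw [resid_liftL hα, finrank_TS, hrz, finrank_resid_pair hp] at h1
    exact Nat.le_of_mul_le_mul_right (show _ * Module.finrank F S ≤ 3 * Module.finrank F S by omega)
      (by have := d.three; omega)

include hH hS hodd hev in
/-- An element fixing two orthogonal anisotropic columns is a product. -/
theorem fix_plane {h : orthGroup d.Q} (hh : h ∈ H) {n m' : L} (hn : d.QL n ≠ 0) (hm' : d.QL m' ≠ 0)
    (hnm : polB d.QL n m' = 0) (hfn : n ∈ d.fixL h) (hfm : m' ∈ d.fixL h) : d.IsT h := by
  classical
  have hBn : polB d.QL n n ≠ 0 := by rw [polB_self]; exact mul_ne_zero d.two hn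
  have hBm : polB d.QL m' m' ≠ 0 := by rw [polB_self]; exact mul_ne_zero d.two hm'
  set R := Submodule.span F ({n, m'} : Set L) with hR
  have hRfix : R ≤ d.fixL h := Submodule.span_le.2 fun x hx => by rcases hx with rfl | rfl <;> assumption
  obtain ⟨u, hum, hu0, hu⟩ := exists_singular_in (Q := d.QL) ((polB d.QL).orthogonal R) (by
    rw [hR]; have := finrank_orth_pair d.ndL n m'; have := (d.five fun h4 => absurd hodd (by rw [h4]; decide)); omega)
  obtain ⟨hnu, hmu⟩ := mem_orth_pair.1 hum
  obtain ⟨u', hpu, hu'⟩ := exists_hypPair_orth d.ndL (W := R) hu (fun hmem => by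
      obtain ⟨a, b, rfl⟩ := Submodule.mem_span_pair.1 hmem
      simp only [map_add, map_smul, smul_eq_mul, hnm, polB_comm m' n, mul_zero, add_zero, zero_add,
        mul_eq_zero, hBn, hBm, or_false] at hnu hmu
      simp [hnu, hmu] at hu0) hum
  have hnu' : polB d.QL n u' = 0 := hu' n (Submodule.subset_span (by simp))
  have hmu' : polB d.QL m' u' = 0 := hu' m' (Submodule.subset_span (by simp))
  set v := u' + m' + (-d.QL m') • u with hv
  have hp : HypPair d.QL u v := by
    refine ⟨hu, ?_, ?_⟩
    · rw [hv, qmap_add_smul, qmap_add, hpu.right, hu, polB_comm u' m', hmu', map_add, LinearMap.add_apply,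
        hpu.symm.pair, hmu]
      ring
    · rw [hv, map_add, map_add, map_smul, hpu.pair, polB_comm u m', hmu, polB_self_zero hu]; simp
  have hnv : polB d.QL n v = 0 := by rw [hv, map_add, map_add, map_smul, hnu', hnm, hnu]; simp
  have hmv : polB d.QL m' v = polB d.QL m' m' := by rw [hv, map_add, map_add, map_smul, hmu', hmu]; simp
  set m := u + u' with hm
  have hQm : d.QL m = 1 := qmap_pair_add hpu
  have hnm0 : polB d.QL n m = 0 := by rw [hm, map_add, hnu, hnu', add_zero]
  have hmm0 : polB d.QL m' m = 0 := by rw [hm, map_add, hmu, hmu', add_zero]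
  obtain ⟨z, α, hz, hzH, hα, hαn, hzc, hαP, hp1, hp3⟩ :=
    exists_split hH hS hodd hev hh hn hfn hp hnu hnv (by rw [hQm]; exact one_ne_zero) hnm0
  have hzR : R ≤ d.fixL z := Submodule.span_le.2 fun x hx => by
    rw [hz]
    rcases hx with rfl | rfl
    · exact fixL_mul (fixL_mul hfn (fixL_liftL (refl_fix hnm0))) (fixL_inv hfn)
    · exact fixL_mul (fixL_mul hfm (fixL_liftL (refl_fix hmm0))) (fixL_inv hfm)
  have hzn : n ∈ d.fixL z := hzR (Submodule.subset_span (by simp))
  have hzm : m' ∈ d.fixL z := hzR (Submodule.subset_span (by simp))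
  have hRsq : ∀ c : F, ∃ r ∈ R, d.QL r = c := fun c => by
    obtain ⟨a, b, hab⟩ := exists_sum_sq_eq hn hm' c
    refine ⟨a • n + b • m', Submodule.mem_span_pair.2 ⟨a, b, rfl⟩, ?_⟩
    rw [qmap_add, qmap_smul, qmap_smul, map_smul, map_smul, LinearMap.smul_apply, hnm, smul_zero, smul_zero,
      add_zero, ← hab]
    ring
  have hzT : d.IsT z := by
    set p₁ := m' + α.1 m' with hp₁
    set q₁ := m' - α.1 m' with hq₁
    by_cases hboth : p₁ ≠ 0 ∧ q₁ ≠ 0
    · obtain ⟨hp₁0, hq₁0⟩ := hboth
      have hp₁m := add_mem_pos hα m'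
      have hq₁m := sub_mem_neg hα m'
      have hfp : p₁ ∈ d.fixL z ∧ q₁ ∈ d.fixL z := by
        have hsum : p₁ + q₁ ∈ d.fixL z := by
          rw [show p₁ + q₁ = (2 : F) • m' by rw [hp₁, hq₁, two_smul]; abel]
          exact (d.fixL z).smul_mem _ hzm
        have key : ∀ e, z.1 (d.t p₁ e) = d.t p₁ e := fun e => by
          have h1 := hsum e
          rw [map_add, LinearMap.add_apply, map_add] at h1
          refine sub_eq_zero.1 (TS_pos_neg (α := α) (sub_mem (commute_pos hα hzc (t_mem_TS hp₁m e)) (t_mem_TS hp₁m e)) ?_)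
          rw [show z.1 (d.t p₁ e) - d.t p₁ e = d.t q₁ e - z.1 (d.t q₁ e) by
            linear_combination (norm := abel) h1]
          exact sub_mem (t_mem_TS hq₁m e) (commute_neg hα hzc (t_mem_TS hq₁m e))
        exact ⟨key, by simpa using (d.fixL z).sub_mem hsum (show p₁ ∈ d.fixL z from key)⟩
      have hli : LinearIndependent F ![n, p₁, q₁] := by
        rw [Fintype.linearIndependent_iff]
        intro g hg
        simp only [Fin.sum_univ_three, Matrix.cons_val_zero, Matrix.cons_val_one, Matrix.cons_val_two,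
          Matrix.head_cons, Matrix.tail_cons] at hg
        have hnp : polB d.QL n p₁ = 0 := by
          rw [hp₁, map_add, hnm]
          conv_lhs => rw [← hαn, orth_polB_map, hnm, add_zero]
        have hnq : polB d.QL n q₁ = 0 := pos_orth_neg d.two (mem_pos.2 hαn) hq₁m
        have h0 : g 0 = 0 := by
          have := congrArg (polB d.QL n) hg
          simp only [map_add, map_smul, smul_eq_mul, hnp, hnq, mul_zero, add_zero, map_zero, mul_eq_zero, hBn,
            or_false] at this
          exact this
        rw [h0, zero_smul, zero_add] at hg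
        have h1 : g 1 • p₁ = 0 := eq_zero_of_pos_neg d.two ((pos α).smul_mem _ hp₁m) (by
          rw [eq_neg_of_add_eq_zero_left hg]; exact neg_mem ((neg α).smul_mem _ hq₁m))
        rw [h1, zero_add] at hg
        intro i
        fin_cases i
        · exact h0
        · exact (smul_eq_zero.1 h1).resolve_right hp₁0
        · exact (smul_eq_zero.1 hg).resolve_right hq₁0
      obtain ⟨u₀, hu₀m, hu₀0, hu₀⟩ := exists_singular_in (Q := d.QL) (Submodule.span F (Set.range ![n, p₁, q₁]))
        (by rw [finrank_span_eq_card hli]; simp)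
      refine fix_sing hH hS hzH hu₀ hu₀0 (Submodule.span_le.2 ?_ hu₀m)
      rintro _ ⟨i, rfl⟩
      fin_cases i
      · exact hzn
      · exact hfp.1
      · exact hfp.2
    -- the involution is a scalar on the plane of `m'`
    obtain ⟨σ, hσ, hαm⟩ : ∃ σ : F, (σ = 1 ∨ σ = -1) ∧ α.1 m' = σ • m' := by
      rw [not_and_or, not_ne_iff, not_ne_iff] at hboth
      rcases hboth with h0 | h0
      · exact ⟨-1, Or.inr rfl, by rw [neg_smul, one_smul]; exact eq_neg_of_add_eq_zero_right h0⟩
      · exact ⟨1, Or.inl rfl, by rw [one_smul]; exact (sub_eq_zero.1 h0).symm⟩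
    have hσσ : σ * σ = 1 := by rcases hσ with rfl | rfl <;> ring
    have hαu : α.1 u = σ • u ∧ α.1 u' = σ • u' := by
      obtain ⟨a, b, hab⟩ := Submodule.mem_span_pair.1 (hαP u (Submodule.subset_span (by simp)))
      obtain ⟨a', b', hab'⟩ := Submodule.mem_span_pair.1 (hαP v (Submodule.subset_span (by simp)))
      have e1 : polB d.QL m' (α.1 u) = 0 := by
        have h1 := orth_polB_map α m' u
        rw [hmu, hαm, map_smul, LinearMap.smul_apply, smul_eq_mul, mul_eq_zero] at h1
        exact h1.resolve_left fun h => by rw [h, mul_zero] at hσσ; exact zero_ne_one hσσ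
      rw [← hab, map_add, map_smul, map_smul, hmu, hmv, smul_zero, zero_add, smul_eq_mul, mul_eq_zero] at e1
      obtain rfl := e1.resolve_right hBm
      rw [zero_smul, add_zero] at hab
      have e2 := orth_polB_map α m' v
      have e3 := orth_polB_map α u v
      rw [hαm, ← hab', map_smul, LinearMap.smul_apply, map_add, map_smul, map_smul, hmu, hmv, smul_zero, zero_add,
        smul_eq_mul, smul_eq_mul] at e2
      have e2' : σ * b' = 1 := mul_right_cancel₀ hBm (by linear_combination e2)
      have hb' : b' = σ := by linear_combination σ * e2' - b' * hσσ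
      rw [← hab, ← hab'] at e3
      simp only [map_add, map_smul, LinearMap.smul_apply, smul_eq_mul, polB_self_zero hu, hp.pair, mul_zero,
        mul_one, zero_add] at e3
      have ha : a = σ := by rw [hb'] at e3; linear_combination σ * e3 - a * hσσ
      have e4 := orth_qmap α v
      rw [← hab', qmap_add, qmap_smul, qmap_smul, hp.left, hp.right, map_smul, map_smul, LinearMap.smul_apply,
        hp.pair, hb'] at e4
      have ha' : a' = 0 := by
        simp only [mul_zero, zero_add, smul_eq_mul, mul_one, mul_eq_zero] at e4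
        exact e4.resolve_left fun h => by rw [h, mul_zero] at hσσ; exact zero_ne_one hσσ
      rw [ha', zero_smul, zero_add, hb'] at hab'
      rw [ha] at hab
      refine ⟨hab.symm, ?_⟩
      have e5 : u' = v - m' - (-d.QL m') • u := by rw [hv]; abel
      rw [e5, map_sub, map_sub, map_smul, ← hab', ← hab, hαm]
      module
    obtain ⟨hαu, hαu'⟩ := hαu
    -- an invariant subspace orthogonal to `n` and `m'`
    obtain ⟨K, hK1, hKd, hKn, hKm, hKz⟩ : ∃ K : Submodule F L, 1 ≤ Module.finrank F K ∧
        Module.finrank F K + 4 ≤ Module.finrank F L ∧ (∀ k ∈ K, polB d.QL n k = 0) ∧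
        (∀ k ∈ K, polB d.QL m' k = 0) ∧ (∀ k ∈ K, ∀ e, z.1 (d.t k e) ∈ d.TS K) := by
      have hli : LinearIndependent F ![n, m', u, u'] := by
        rw [Fintype.linearIndependent_iff]
        intro g hg
        simp only [Fin.sum_univ_four, Matrix.cons_val_zero, Matrix.cons_val_one, Matrix.cons_val_two,
          Matrix.cons_val_three, Matrix.head_cons, Matrix.tail_cons] at hg
        have f0 := congrArg (polB d.QL n) hg
        have f1 := congrArg (polB d.QL m') hg
        have f2 := congrArg (polB d.QL u) hg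
        have f3 := congrArg (polB d.QL u') hg
        simp only [map_add, map_smul, smul_eq_mul, map_zero, hnm, hnu, hnu', hmu, hmu', polB_comm m' n,
          polB_comm u n, polB_comm u m', polB_comm u' n, polB_comm u' m', hpu.pair, hpu.symm.pair,
          polB_self_zero hu, polB_self_zero hpu.right, mul_zero, mul_one, add_zero, zero_add, mul_eq_zero, hBn,
          hBm, or_false] at f0 f1 f2 f3
        intro i
        fin_cases i
        · exact f0
        · exact f1
        · exact f3
        · exact f2
      have h4 : Module.finrank F (Submodule.span F (Set.range ![n, m', u, u'])) = 4 := by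
        rw [finrank_span_eq_card hli]; simp
      have hpn := finrank_pos_add_neg d.two hα
      rcases hσ with rfl | rfl
      · refine ⟨neg α, hp1, ?_, fun k hk => pos_orth_neg d.two (mem_pos.2 hαn) hk,
          fun k hk => pos_orth_neg d.two (mem_pos.2 (by rw [hαm, one_smul])) hk,
          fun k hk e => commute_neg hα hzc (t_mem_TS hk e)⟩
        have hle : Submodule.span F (Set.range ![n, m', u, u']) ≤ pos α := Submodule.span_le.2 (by
          rintro _ ⟨i, rfl⟩
          fin_cases i <;> simp [mem_pos, hαn, hαm, hαu, hαu'])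
        have := Submodule.finrank_mono hle
        omega
      · have hle : Submodule.span F (Set.range ![n, m', u, u']) ≤ neg α ⊔ F ∙ n := Submodule.span_le.2 (by
          rintro _ ⟨i, rfl⟩
          fin_cases i
          · exact Submodule.mem_sup_right (Submodule.mem_span_singleton_self n)
          · exact Submodule.mem_sup_left (mem_neg.2 (by simp [hαm]))
          · exact Submodule.mem_sup_left (mem_neg.2 (by simp [hαu]))
          · exact Submodule.mem_sup_left (mem_neg.2 (by simp [hαu'])))
        have h5 := Submodule.finrank_mono hle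
        have h6 := finrank_sup_line_le (neg α) n
        have h7 := finrank_orth_add d.ndL (neg α ⊔ F ∙ n)
        have := (d.five fun h4 => absurd hodd (by rw [h4]; decide))
        refine ⟨(polB d.QL).orthogonal (neg α ⊔ F ∙ n), by omega, by omega,
          fun k hk => hk n (Submodule.mem_sup_right (Submodule.mem_span_singleton_self n)),
          fun k hk => hk m' (Submodule.mem_sup_left (mem_neg.2 (by simp [hαm]))), fun k hk e => ?_⟩
        rw [← TS_orth]
        refine preserve_orth z (fun v hv => map_TS (fun y hy e' => ?_) hv) (by rw [TS_orth]; exact t_mem_TS hk e)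
        obtain ⟨q, hq, r, hr, rfl⟩ := Submodule.mem_sup.1 hy
        rw [map_add, LinearMap.add_apply, map_add]
        refine add_mem ?_ ?_
        · exact map_TS (R' := neg α ⊔ F ∙ n) (fun y' hy' e'' =>
            TP_le_TS le_sup_left (commute_neg hα hzc (t_mem_TS hy' e''))) (t_mem_TS hq e')
        · rw [show z.1 (d.t r e') = d.t r e' from (Submodule.span_singleton_le_iff_mem _ _).2 hzn hr e']
          exact t_mem_TS (Submodule.mem_sup_right hr) e'
    obtain ⟨⟨k, hkK⟩, hk0⟩ := Module.finrank_pos_iff_exists_ne_zero.1 (show 0 < Module.finrank F K by omega)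
    have hk0' : k ≠ 0 := fun h => hk0 (Subtype.ext h)
    rcases eq_or_ne (d.QL k) 0 with hQk | hQk
    · exact map_block hH hS hzH (by omega) (fun x hx hfix => fix_sing hH hS hx hQk hk0' (hfix hkK)) hKz
    obtain ⟨r, hrR, hr⟩ := hRsq (-d.QL k)
    have hkr : polB d.QL k r = 0 := by
      obtain ⟨a, b, rfl⟩ := Submodule.mem_span_pair.1 hrR
      simp [map_add, map_smul, polB_comm k n, polB_comm k m', hKn k hkK, hKm k hkK]
    have hsing : d.QL (k + r) = 0 := by rw [qmap_add, hr, hkr]; ring
    have hkr0 : k + r ≠ 0 := fun h => by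
      rw [eq_neg_of_add_eq_zero_right h, map_neg, polB_self, neg_eq_zero] at hkr
      exact mul_ne_zero d.two hQk hkr
    refine map_block hH hS hzH (R := K ⊔ F ∙ r) (R' := K ⊔ F ∙ r) ?_ (fun x hx hfix => fix_sing hH hS hx hsing hkr0
      (hfix (Submodule.add_mem_sup hkK (Submodule.mem_span_singleton_self r)))) ?_
    · have := finrank_sup_line_le K r; omega
    · intro y hy e
      obtain ⟨q, hq, r', hr', rfl⟩ := Submodule.mem_sup.1 hy
      rw [map_add, LinearMap.add_apply, map_add]
      refine add_mem (map_TS (R' := K ⊔ F ∙ r) (fun y' hy' e'' => TP_le_TS le_sup_left (hKz y' hy' e''))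
        (t_mem_TS hq e)) ?_
      rw [show z.1 (d.t r' e) = d.t r' e from hzR ((Submodule.span_singleton_le_iff_mem _ _).2 hrR hr') e]
      exact t_mem_TS (Submodule.mem_sup_right hr') e
  obtain ⟨K₁, hK₁, hcol⟩ := column_of_isT (by rw [hQm]; exact one_ne_zero) hz hzT hn hzn
  obtain ⟨r, hrR, hr⟩ := hRsq (-1)
  have hrm : polB d.QL r m = 0 := by
    obtain ⟨a, b, rfl⟩ := Submodule.mem_span_pair.1 hrR
    simp [map_add, map_smul, hnm0, hmm0]
  have hsing : d.QL (r + m) = 0 := by rw [qmap_add, hr, hQm, hrm]; ring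
  have hrm0 : r + m ≠ 0 := fun h => by
    rw [eq_neg_of_add_eq_zero_left h, map_neg, LinearMap.neg_apply, neg_eq_zero, polB_self, hQm, mul_one] at hrm
    exact d.two hrm
  refine map_block hH hS hh (R := Submodule.span F {r, m}) (R' := K₁ ⊔ F ∙ r) ?_
    (fun x hx hfix => fix_sing hH hS hx hsing hrm0 (hfix (Submodule.mem_span_pair.2 ⟨1, 1, by simp⟩))) ?_
  · have := finrank_sup_line_le K₁ r; have := (d.five fun h4 => absurd hodd (by rw [h4]; decide)); omega
  · intro y hy e
    obtain ⟨a, b, rfl⟩ := Submodule.mem_span_pair.1 hy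
    simp only [map_add, map_smul, LinearMap.add_apply, LinearMap.smul_apply, hRfix hrR e]
    exact add_mem (Submodule.smul_mem _ _ (t_mem_TS (Submodule.mem_sup_right (Submodule.mem_span_singleton_self r)) e))
      (Submodule.smul_mem _ _ (TP_le_TS le_sup_left (hcol e)))

include hH hS hodd hev in
/-- An element fixing the columns of a subspace of dimension two is a product. -/
theorem fix_two {h : orthGroup d.Q} (hh : h ∈ H) {R : Submodule F L} (hR : 2 ≤ Module.finrank F R)
    (hfix : R ≤ d.fixL h) : d.IsT h := by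
  by_cases hs : ∃ u ∈ R, u ≠ 0 ∧ d.QL u = 0
  · obtain ⟨u, huR, hu0, hu⟩ := hs
    exact fix_sing hH hS hh hu hu0 (hfix huR)
  push Not at hs
  obtain ⟨⟨n, hnR⟩, hn0⟩ := Module.finrank_pos_iff_exists_ne_zero.1 (show 0 < Module.finrank F R by omega)
  have hn0' : n ≠ 0 := fun h => hn0 (Subtype.ext h)
  have hn := hs n hnR hn0'
  obtain ⟨y, hyR, hyn⟩ : ∃ y ∈ R, y ∉ F ∙ n := by
    by_contra hcon
    push Not at hcon
    have := Submodule.finrank_mono hcon
    rw [finrank_span_singleton hn0'] at this
    omega
  set k := polB d.QL n y / polB d.QL n n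
  have hm0 : y - k • n ≠ 0 := fun h => hyn (Submodule.mem_span_singleton.2 ⟨k, (sub_eq_zero.1 h).symm⟩)
  refine fix_plane hH hS hodd hev hh hn (hs _ (R.sub_mem hyR (R.smul_mem _ hnR)) hm0) ?_ (hfix hnR)
    (hfix (R.sub_mem hyR (R.smul_mem _ hnR)))
  rw [map_sub, map_smul, smul_eq_mul, div_mul_cancel₀ _ (by rw [polB_self]; exact mul_ne_zero d.two hn), sub_self]

include hH hS hodd hev in
/-- An element fixing an anisotropic column is a product. -/
theorem fix_one {h : orthGroup d.Q} (hh : h ∈ H) {n : L} (hn : d.QL n ≠ 0) (hfix : n ∈ d.fixL h) : d.IsT h := by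
  have hn0 : n ≠ 0 := fun h => hn (by rw [h]; exact QuadraticMap.map_zero _)
  obtain ⟨u, hum, hu0, hu⟩ := exists_singular_in (Q := d.QL) ((polB d.QL).orthogonal (F ∙ n)) (by
    have := finrank_orth_singleton d.ndL hn0; have := (d.five fun h4 => absurd hodd (by rw [h4]; decide)); omega)
  have hnu := mem_orth_singleton.1 hum
  obtain ⟨v, hp, hv⟩ := exists_hypPair_orth d.ndL (W := F ∙ n) hu (fun hmem => by
      obtain ⟨s, rfl⟩ := Submodule.mem_span_singleton.1 hmem
      rw [qmap_smul, mul_eq_zero, or_iff_left hn, mul_self_eq_zero] at hu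
      exact hu0 (by rw [hu, zero_smul])) hum
  have hnv : polB d.QL n v = 0 := hv n (Submodule.mem_span_singleton_self n)
  have hQm : d.QL (u + v) = 1 := qmap_pair_add hp
  have hnm : polB d.QL n (u + v) = 0 := by rw [map_add, hnu, hnv, add_zero]
  obtain ⟨z, α, hz, hzH, hα, hαn, hzc, -, hp1, hp3⟩ :=
    exists_split hH hS hodd hev hh hn hfix hp hnu hnv (by rw [hQm]; exact one_ne_zero) hnm
  have hzn : n ∈ d.fixL z := by
    rw [hz]; exact fixL_mul (fixL_mul hfix (fixL_liftL (refl_fix hnm))) (fixL_inv hfix)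
  have hlt : Module.finrank F (neg α) < Module.finrank F (neg α ⊔ F ∙ n : Submodule F L) :=
    Submodule.finrank_lt_finrank_of_lt (lt_of_le_of_ne le_sup_left fun heq => hn0
      (eq_zero_of_pos_neg d.two (mem_pos.2 hαn) (by
        rw [heq]; exact Submodule.mem_sup_right (Submodule.mem_span_singleton_self n))))
  have hzT : d.IsT z := by
    have h5 := (d.five fun h4 => absurd hodd (by rw [h4]; decide))
    have h6 := finrank_pos_add_neg d.two hα
    rcases Nat.lt_or_ge (Module.finrank F (neg α)) 2 with h1 | h1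
    · refine map_block hH hS hzH (R := neg α ⊔ F ∙ n) (R' := neg α ⊔ F ∙ n) ?_
        (fun x hx hfix => fix_two hH hS hodd hev hx (by omega) hfix) fun y hy e => ?_
      · have := finrank_sup_line_le (neg α) n; omega
      obtain ⟨q, hq, r, hr, rfl⟩ := Submodule.mem_sup.1 hy
      rw [map_add, LinearMap.add_apply, map_add]
      refine add_mem (TP_le_TS le_sup_left (commute_neg hα hzc (t_mem_TS hq e))) ?_
      rw [show z.1 (d.t r e) = d.t r e from (Submodule.span_singleton_le_iff_mem _ _).2 hzn hr e]
      exact t_mem_TS (Submodule.mem_sup_right hr) e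
    · by_cases h2 : Module.finrank F (neg α) + 3 ≤ Module.finrank F L
      · exact map_block hH hS hzH h2 (fun x hx hfix => fix_two hH hS hodd hev hx h1 hfix)
          fun y hy e => commute_neg hα hzc (t_mem_TS hy e)
      · exact map_block hH hS hzH (R := pos α) (R' := pos α) (by omega)
          (fun x hx hfix => fix_two hH hS hodd hev hx (by omega) hfix)
          fun y hy e => commute_pos hα hzc (t_mem_TS hy e)
  obtain ⟨K₁, hK₁, hcol⟩ := column_of_isT (by rw [hQm]; exact one_ne_zero) hz hzT hn hzn
  refine map_block hH hS hh (R := Submodule.span F {n, u + v}) (R' := K₁ ⊔ F ∙ n) ?_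
    (fun x hx hfix => fix_two hH hS hodd hev hx ?_ hfix) fun y hy e => ?_
  · have := finrank_sup_line_le K₁ n; have := (d.five fun h4 => absurd hodd (by rw [h4]; decide)); omega
  · have hlt : Module.finrank F (F ∙ n) < Module.finrank F (Submodule.span F ({n, u + v} : Set L)) :=
      Submodule.finrank_lt_finrank_of_lt (lt_of_le_of_ne (Submodule.span_mono (by simp)) fun heq => by
        have hmem : u + v ∈ F ∙ n := by rw [heq]; exact Submodule.subset_span (by simp)
        obtain ⟨s, hs⟩ := Submodule.mem_span_singleton.1 hmem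
        rw [← hs, map_smul, smul_eq_mul, mul_eq_zero, polB_self] at hnm
        rw [← hs, hnm.resolve_right (mul_ne_zero d.two hn), zero_smul, QuadraticMap.map_zero] at hQm
        exact zero_ne_one hQm)
    rw [finrank_span_singleton hn0] at hlt
    omega
  · obtain ⟨a, b, rfl⟩ := Submodule.mem_span_pair.1 hy
    simp only [map_add, map_smul, LinearMap.add_apply, LinearMap.smul_apply, hfix e]
    rw [← map_add, ← LinearMap.add_apply, ← map_add]
    exact add_mem (Submodule.smul_mem _ _ (t_mem_TS (Submodule.mem_sup_right (Submodule.mem_span_singleton_self n)) e))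
      (Submodule.smul_mem _ _ (TP_le_TS le_sup_left (hcol e)))

include hH hS hodd hev in
/-- An element preserving the columns of a small subspace is a product. -/
theorem inv_block {h : orthGroup d.Q} (hh : h ∈ H) {R : Submodule F L} (h1 : 1 ≤ Module.finrank F R)
    (hd : Module.finrank F R + 3 ≤ Module.finrank F L) (hmap : ∀ y ∈ R, ∀ e, h.1 (d.t y e) ∈ d.TS R) :
    d.IsT h := by
  obtain ⟨⟨n, hnR⟩, hn0⟩ := Module.finrank_pos_iff_exists_ne_zero.1 (show 0 < Module.finrank F R by omega)
  refine map_block hH hS hh hd (fun x hx hfix => ?_) hmap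
  rcases eq_or_ne (d.QL n) 0 with hn | hn
  · exact fix_sing hH hS hx hn (fun h => hn0 (Subtype.ext h)) (hfix hnR)
  · exact fix_one hH hS hodd hev hx hn (hfix hnR)

end OS

end H98.TE
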