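import Cfsg.Agent.H98.TensEven.Over

/-!
An overgroup which is not small contains the commutator subgroup.
-/

set_option autoImplicit false
set_option linter.unusedSectionVars false

namespace H98.TE

open H43 H98.TO

variable {F : Type*} [Field F] [Finite F]
  {L : Type*} [AddCommGroup L] [Module F L] [FiniteDimensional F L]
  {S : Type*} [AddCommGroup S] [Module F S] [FiniteDimensional F S]
  {V : Type*} [AddCommGroup V] [Module F V] [FiniteDimensional F V]

namespace OS

variable {d : OS F L S V} {H : Subgroup (orthGroup d.Q)}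

/-- `H` contains the central element of the radical of the column of `u` given by `X`. -/
def CtrIn (d : OS F L S V) (H : Subgroup (orthGroup d.Q)) (u : L) (X : S →ₗ[F] S) : Prop :=
  ∃ y ∈ H, ∀ v, y.1 v = v + d.t u (X (d.C u v))

theorem ctrIn_skew {u : L} (hu : d.QL u = 0) (hu0 : u ≠ 0) {X : S →ₗ[F] S} (h : CtrIn d H u X) (a b : S) :
    polB d.QS (X a) b = -polB d.QS a (X b) := by
  obtain ⟨u', hp⟩ := exists_hypPair d.ndL hu hu0
  obtain ⟨y, -, hy⟩ := h
  have h := orth_polB_map y (d.t u' a) (d.t u' b)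
  simp only [hy, map_add, LinearMap.add_apply, d.f_t, d.C_t, hp.pair, hp.symm.pair, polB_self_zero hu, one_smul,
    zero_mul, one_mul, add_zero] at h
  linear_combination h

theorem ctrIn_add {u : L} (hu : d.QL u = 0) {X Y : S →ₗ[F] S} (hX : CtrIn d H u X) (hY : CtrIn d H u Y) :
    CtrIn d H u (X + Y) := by
  obtain ⟨x, hx, ex⟩ := hX
  obtain ⟨y, hy, ey⟩ := hY
  refine ⟨x * y, mul_mem hx hy, fun v => ?_⟩
  rw [orth_mul_apply, ey, ex]
  simp only [map_add, d.C_t, polB_self_zero hu, zero_smul, add_zero, LinearMap.add_apply]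
  abel

theorem ctrIn_neg {u : L} (hu : d.QL u = 0) {X : S →ₗ[F] S} (hX : CtrIn d H u X) : CtrIn d H u (-X) := by
  obtain ⟨x, hx, ex⟩ := hX
  refine ⟨x⁻¹, inv_mem hx, fun v => x.1.injective ?_⟩
  rw [orth_apply_inv_self, ex]
  simp [d.C_t, polB_self_zero hu]

theorem ctrIn_conjS (hH : d.Over H) {u : L} {X : S →ₗ[F] S} (hX : CtrIn d H u X) {g : orthGroup d.QS}
    (hg : g ∈ commutator (orthGroup d.QS)) : CtrIn d H u (conjMap g X) := by
  obtain ⟨x, hx, ex⟩ := hX
  refine ⟨d.liftS g * x * (d.liftS g)⁻¹, mul_mem (mul_mem (hH.liftS_mem hg) hx) (inv_mem (hH.liftS_mem hg)),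
    fun v => ?_⟩
  have e : ∀ v, d.C u (((d.liftS g)⁻¹).1 v) = (g⁻¹).1 (d.C u v) := fun v => d.S_ext fun z => by
    rw [d.b_C, ← orth_polB_map (d.liftS g), orth_apply_inv_self, d.liftS_t, ← d.b_C]
    conv_rhs => rw [← orth_polB_map g, orth_apply_inv_self]
  rw [orth_mul_apply, orth_mul_apply, ex, map_add, orth_apply_inv_self, d.liftS_t, e, conjMap_apply]

theorem ctrIn_conjL (hH : d.Over H) {u : L} {X : S →ₗ[F] S} (hX : CtrIn d H u X) {g : orthGroup d.QL}
    (hg : g ∈ commutator (orthGroup d.QL)) : CtrIn d H (g.1 u) X := by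
  obtain ⟨x, hx, ex⟩ := hX
  refine ⟨d.liftL g * x * (d.liftL g)⁻¹, mul_mem (mul_mem (hH.liftL_mem hg) hx) (inv_mem (hH.liftL_mem hg)),
    fun v => ?_⟩
  have e : ∀ v, d.C u (((d.liftL g)⁻¹).1 v) = d.C (g.1 u) v := fun v => d.S_ext fun z => by
    rw [d.b_C, d.b_C, ← orth_polB_map (d.liftL g), orth_apply_inv_self, d.liftL_t]
  rw [orth_mul_apply, orth_mul_apply, ex, map_add, orth_apply_inv_self, d.liftL_t, e]

theorem ctrIn_smul {u : L} {r : F} {X : S →ₗ[F] S} :
    CtrIn d H (r • u) X ↔ CtrIn d H u ((r * r) • X) := by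
  refine exists_congr fun y => and_congr_right fun _ => forall_congr' fun v => ?_
  simp [d.C_smul, smul_smul]

/-- Long root elements at every singular column. -/
theorem root_mem_of_not_small (hH : d.Over H) (hS : ¬ d.Small H) {u : L} (hu : d.QL u = 0) (hu0 : u ≠ 0)
    (x y : S) (r : F) : eichler d.Q (d.t u x) (r • d.t u y) ∈ H := by
  classical
  simp only [Small, not_forall] at hS
  obtain ⟨u₀, y₀, hu₀, hu₀0, hy₀H, hy₀, hy₀1⟩ := hS
  obtain ⟨X₀, -, hX₀⟩ := hy₀.zero_shape hu₀ hu₀0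
  obtain ⟨g, hg, s, hs, hgu⟩ := move d.ndL d.two d.threeL hu₀ hu₀0 hu hu0
  have h0 : CtrIn d H (s • u) X₀ := hgu ▸ ctrIn_conjL hH ⟨y₀, hy₀H, hX₀⟩ hg
  have hX₀0 : X₀ ≠ 0 := fun h => hy₀1 (orth_ext fun v => by rw [hX₀, h, orth_one_apply]; simp)
  let A : AddSubgroup (S →ₗ[F] S) :=
    { carrier := {X | CtrIn d H u X}
      zero_mem' := ⟨1, one_mem _, fun v => by simp [orth_one_apply]⟩
      add_mem' := ctrIn_add hu
      neg_mem' := ctrIn_neg hu }
  have hA : A ≠ ⊥ := fun hbot => by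
    have : (s * s) • X₀ ∈ A := ctrIn_smul.1 h0
    rw [hbot, AddSubgroup.mem_bot, smul_eq_zero] at this
    exact this.elim (mul_ne_zero hs hs) hX₀0
  obtain ⟨z, hz, hzv⟩ := wedge_mem d.ndS d.two d.three d.wedgeS A (fun X hX => ctrIn_skew hu hu0 hX)
    (fun g hg X hX => ctrIn_conjS hH hX hg) hA x y r
  convert hz
  have hpy : polB d.Q (d.t u x) (r • d.t u y) = 0 := by simp [d.f_t, polB_self_zero hu]
  have hp : d.Q (d.t u x) = 0 := by simp [d.Q_t, hu]
  refine (orth_ext fun v => ?_)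
  rw [hzv, eichler_apply hp hpy, qmap_smul, d.Q_t, hu]
  simp only [LinearMap.smul_apply, wedge_apply, map_smul, map_sub, d.b_C, smul_eq_mul, mul_zero, zero_mul,
    zero_smul, sub_zero]
  module

/-- An overgroup which is not small contains the commutator subgroup. -/
theorem le_of_not_small (hH : d.Over H) (hS : ¬ d.Small H) : commutator (orthGroup d.Q) ≤ H := by
  classical
  -- all transvection elements of the pure singular points
  let WP : V → Submodule F V := fun p =>
    { carrier := {w | polB d.Q p w = 0 ∧ ∀ r : F, eichler d.Q p (r • w) ∈ H}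
      zero_mem' := ⟨map_zero _, fun r => by
        rcases eq_or_ne (d.Q p) 0 with hp | hp
        · rw [smul_zero, eichler_zero hp]; exact one_mem _
        · rw [eichler, dif_neg (fun h => hp h.1)]; exact one_mem _⟩
      add_mem' := fun {a b} ha hb => ⟨by rw [map_add, ha.1, hb.1, add_zero], fun r => by
        rcases eq_or_ne (d.Q p) 0 with hp | hp
        · rw [smul_add, ← eichler_mul hp (by simp [ha.1]) (by simp [hb.1])]
          exact mul_mem (ha.2 r) (hb.2 r)
        · rw [eichler, dif_neg (fun h => hp h.1)]; exact one_mem _⟩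
      smul_mem' := fun c a ha => ⟨by rw [map_smul, ha.1, smul_zero], fun r => by
        rw [smul_smul]; exact ha.2 _⟩ }
  have hWP : ∀ p w, w ∈ WP p ↔ polB d.Q p w = 0 ∧ ∀ r : F, eichler d.Q p (r • w) ∈ H := fun p w => Iff.rfl
  have himg : ∀ p, d.Q p = 0 → ∀ g ∈ H, g.1 p = p → ∀ w ∈ WP p, g.1 w ∈ WP p := by
    intro p hp g hg hgp w hw
    refine (hWP p _).2 ⟨by rw [← hgp, orth_polB_map]; exact hw.1, fun r => ?_⟩
    have := mul_mem (mul_mem hg (hw.2 r)) (inv_mem hg)
    rwa [eichler_conj g hp (by rw [map_smul, hw.1, smul_zero]), hgp, map_smul] at this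
  have hW1 : ∀ u, d.QL u = 0 → u ≠ 0 → ∀ x y, d.t u y ∈ WP (d.t u x) := fun u hu hu0 x y =>
    (hWP _ _).2 ⟨by simp [d.f_t, polB_self_zero hu], fun r => root_mem_of_not_small hH hS hu hu0 x y r⟩
  have hW2 : ∀ u, d.QL u = 0 → u ≠ 0 → ∀ x, x ≠ 0 → ∀ z, polB d.QS x z = 0 → ∀ a,
      d.t a z ∈ WP (d.t u x) := by
    intro u hu hu0 x hx z hxz
    rcases eq_or_ne z 0 with rfl | hz
    · intro a; simp
    obtain ⟨x₁, hx₁, hx₁z⟩ : ∃ x₁ ∈ (polB d.QS).orthogonal (F ∙ x), x₁ ∉ F ∙ z := by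
      by_contra hcon
      push Not at hcon
      have h1 := Submodule.finrank_mono hcon
      have h2 := finrank_orth_singleton d.ndS hx
      rw [finrank_span_singleton hz] at h1
      have := d.three; omega
    rw [mem_orth_singleton] at hx₁
    obtain ⟨y, hy, hyx₁⟩ := exists_orth_polB_eq d.ndS hx₁z 1
    have hzy : polB d.QS y z = 0 := by rw [polB_comm]; exact hy z (Submodule.mem_span_singleton_self z)
    rw [polB_comm] at hyx₁
    have hp : d.Q (d.t u x) = 0 := by simp [d.Q_t, hu]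
    have key : ∀ u', d.QL u' = 0 → polB d.QL u u' ≠ 0 → d.t u' z ∈ WP (d.t u x) := by
      intro u' hu' huu'
      have hu'0 : u' ≠ 0 := fun h => huu' (by rw [h, map_zero])
      have hp' : d.Q (d.t u' x₁) = 0 := by simp [d.Q_t, hu']
      have hpw : polB d.Q (d.t u' x₁) (d.t u' z) = 0 := by simp [d.f_t, polB_self_zero hu']
      have hg := root_mem_of_not_small hH hS hu' hu'0 x₁ z 1
      rw [one_smul] at hg
      set g := eichler d.Q (d.t u' x₁) (d.t u' z)
      have hgp : g.1 (d.t u x) = d.t u x :=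
        eichler_fix hp' hpw (by simp [d.f_t, hx₁]) (by simp [d.f_t, hxz])
      have e := himg _ hp g hg hgp _ (hW1 u hu hu0 x y)
      rw [eichler_apply hp' hpw, d.f_t, d.f_t, hyx₁, hzy, d.Q_t, hu', mul_one, mul_zero, zero_smul, sub_zero,
        zero_mul, mul_zero, zero_mul, zero_smul, sub_zero] at e
      have := (WP _).sub_mem e (hW1 u hu hu0 x y)
      rw [add_sub_cancel_left] at this
      exact ((WP _).smul_mem_iff huu').1 this
    intro a
    have h0 : (WP (d.t u x)).mkQ ∘ₗ d.t.flip z = 0 :=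
      hom_zero_of_nonorth d.ndL d.two d.threeL _ hu hu0 fun u' hu' huu' => by
        simp only [LinearMap.comp_apply, Submodule.mkQ_apply, Submodule.Quotient.mk_eq_zero]
        exact key u' hu' huu'
    simpa [Submodule.Quotient.mk_eq_zero] using LinearMap.congr_fun h0 a
  have hW3 : ∀ u, d.QL u = 0 → u ≠ 0 → ∀ x, x ≠ 0 → ∀ y c, polB d.QL u c = 0 → d.t c y ∈ WP (d.t u x) := by
    intro u hu hu0 x hx y c hc
    by_cases hyx : polB d.QS x y = 0
    · exact hW2 u hu hu0 x hx y hyx c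
    obtain ⟨x₀, hx₀, hx₀x⟩ : ∃ x₀ ∈ (polB d.QS).orthogonal (Submodule.span F {x, y}), x₀ ∉ F ∙ x := by
      by_contra hcon
      push Not at hcon
      have h1 := finrank_orth_pair d.ndS x y
      have h2 : 0 < Module.finrank F ((polB d.QS).orthogonal (Submodule.span F {x, y})) := by
        have := d.three; omega
      obtain ⟨⟨z, hz⟩, hz0⟩ := Module.finrank_pos_iff_exists_ne_zero.1 h2
      obtain ⟨s, rfl⟩ := Submodule.mem_span_singleton.1 (hcon z hz)
      have hs : s ≠ 0 := fun h => hz0 (Subtype.ext (by simp [h]))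
      have := (mem_orth_pair.1 hz).2
      rw [map_smul, polB_comm y x, smul_eq_mul, mul_eq_zero] at this
      exact hyx (this.resolve_left hs)
    obtain ⟨hxx₀, hyx₀⟩ := mem_orth_pair.1 hx₀
    have hx₀0 : x₀ ≠ 0 := fun h => hx₀x (h ▸ zero_mem _)
    obtain ⟨u', hu'⟩ := exists_hypPair d.ndL hu hu0
    obtain ⟨z, hz, hz₀⟩ := exists_orth_polB_eq d.ndS hx₀x 1
    have hxz : polB d.QS x z = 0 := hz x (Submodule.mem_span_singleton_self x)
    have hp₀ : d.Q (d.t u x₀) = 0 := by simp [d.Q_t, hu]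
    have hp : d.Q (d.t u x) = 0 := by simp [d.Q_t, hu]
    have hw₀ : d.t c y ∈ WP (d.t u x₀) := hW2 u hu hu0 x₀ hx₀0 y (by rw [polB_comm]; exact hyx₀) c
    have hg : eichler d.Q (d.t u x₀) (d.t c y) ∈ H := by
      have := hw₀.2 1; rwa [one_smul] at this
    have hgp : (eichler d.Q (d.t u x₀) (d.t c y)).1 (d.t u x) = d.t u x :=
      eichler_fix hp₀ hw₀.1 (by simp [d.f_t, polB_self_zero hu]) (by simp [d.f_t, hc])
    have e := himg _ hp _ hg hgp _ (hW2 u hu hu0 x hx z hxz u')
    rw [eichler_apply hp₀ hw₀.1, d.f_t u' u, hu'.symm.pair, polB_comm z x₀, hz₀, one_mul, one_smul] at e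
    have h1 := hW1 u hu hu0 x x₀
    have := (WP _).sub_mem ((WP _).add_mem ((WP _).add_mem e ((WP _).smul_mem
      (polB d.Q (d.t u' z) (d.t c y)) h1)) ((WP _).smul_mem (d.Q (d.t c y) * 1) h1))
      (hW2 u hu hu0 x hx z hxz u')
    convert this using 1
    module
  -- the set of points with all their transformations
  let R : V → Prop := fun p => d.Q p = 0 ∧ ∀ w, polB d.Q p w = 0 → eichler d.Q p w ∈ H
  have hpure : ∀ u, d.QL u = 0 → u ≠ 0 → ∀ x, x ≠ 0 → R (d.t u x) := by
    intro u hu hu0 x hx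
    refine ⟨by simp [d.Q_t, hu], fun w hw => ?_⟩
    suffices w ∈ WP (d.t u x) by simpa using this.2 1
    obtain ⟨u', hp⟩ := exists_hypPair d.ndL hu hu0
    obtain ⟨y₀, hy₀⟩ := exists_polB_eq d.ndS hx 1
    let π : V →ₗ[F] V := LinearMap.id - (polB d.Q (d.t u x)).smulRight (d.t u' y₀)
    have e : (WP (d.t u x)).mkQ ∘ₗ π = 0 := d.hom_ext fun a e => by
      simp only [LinearMap.comp_apply, LinearMap.zero_apply, Submodule.mkQ_apply, Submodule.Quotient.mk_eq_zero]
      have e1 : π (d.t a e) = d.t a (e - polB d.QS x e • y₀) +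
          polB d.QS x e • d.t (a - polB d.QL u a • u') y₀ := by
        simp only [π, LinearMap.sub_apply, LinearMap.id_apply, LinearMap.smulRight_apply, d.f_t, map_sub,
          map_smul, LinearMap.smul_apply]
        module
      rw [e1]
      exact (WP _).add_mem (hW2 u hu hu0 x hx _ (by simp [hy₀]) a)
        ((WP _).smul_mem _ (hW3 u hu hu0 x hx y₀ _ (by simp [hp.pair])))
    simpa [π, hw, Submodule.Quotient.mk_eq_zero] using LinearMap.congr_fun e w
  have h5 : 5 ≤ Module.finrank F V := by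
    rw [d.finrank_eq]
    have h1 := d.four
    have h2 := d.three
    exact le_trans (by omega) (Nat.mul_le_mul h1 h2)
  have hconj : ∀ g ∈ H, ∀ p, R p → R (g.1 p) := fun g hg p hp => ⟨by rw [orth_qmap, hp.1], fun w hw => by
    have h1 : polB d.Q p ((g⁻¹).1 w) = 0 := by rwa [← orth_polB_map g, orth_apply_inv_self]
    have := mul_mem (mul_mem hg (hp.2 _ h1)) (inv_mem hg)
    rwa [eichler_conj g hp.1 h1, orth_apply_inv_self] at this⟩
  have hscale : ∀ p (s : F), s ≠ 0 → R p → R (s • p) := fun p s hs hp => ⟨by rw [qmap_smul, hp.1, mul_zero],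
    fun w hw => by
      rw [map_smul, LinearMap.smul_apply, smul_eq_mul, mul_eq_zero] at hw
      have h1 : polB d.Q p (s • w) = 0 := by rw [map_smul, hw.resolve_left hs, smul_zero]
      have := hp.2 _ h1
      rwa [← eichler_smul_left hp.1 h1 hs, smul_smul, inv_mul_cancel₀ hs, one_smul] at this⟩
  have hstep : ∀ p p₂ z, R p → R p₂ → d.Q z = 0 → polB d.Q p p₂ ≠ 0 → polB d.Q p z ≠ 0 → R z := by
    intro p p₂ z hp hp₂ hz h1 h2
    set a := (polB d.Q p p₂)⁻¹ • p₂ with ha
    set b := (polB d.Q p z)⁻¹ • z with hb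
    have qa : d.Q a = 0 := by rw [ha, qmap_smul, hp₂.1, mul_zero]
    have qb : d.Q b = 0 := by rw [hb, qmap_smul, hz, mul_zero]
    have ba : polB d.Q p a = 1 := by rw [ha, map_smul, smul_eq_mul, inv_mul_cancel₀ h1]
    have bb : polB d.Q p b = 1 := by rw [hb, map_smul, smul_eq_mul, inv_mul_cancel₀ h2]
    have hw : polB d.Q p (b - a) = 0 := by rw [map_sub, ba, bb, sub_self]
    have h := hconj _ (hp.2 _ hw) a (hscale _ _ (inv_ne_zero h1) hp₂)
    rw [eichler_apply hp.1 hw, polB_comm a p, ba, map_sub, polB_self, qa, qmap_sub, qa, qb,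
      polB_comm b a] at h
    have e : R b := by convert h using 1; module
    have := hscale _ _ h2 e
    rwa [hb, smul_smul, mul_inv_cancel₀ h2, one_smul] at this
  obtain ⟨u, hu0, hu⟩ := exists_sing d.ndL d.threeL
  obtain ⟨u', hp⟩ := exists_hypPair d.ndL hu hu0
  obtain ⟨x, hx⟩ := Module.finrank_pos_iff_exists_ne_zero.1 (show 0 < Module.finrank F S by
    have := d.three; omega)
  obtain ⟨y, hxy⟩ := exists_polB_ne_zero d.ndS hx
  have hy : y ≠ 0 := fun h => hxy (by rw [h, map_zero])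
  have hp₁ := hpure u hp.left hp.left_ne_zero x hx
  have hp₂ := hpure u' hp.right hp.symm.left_ne_zero y hy
  have h12 : polB d.Q (d.t u x) (d.t u' y) ≠ 0 := by rw [d.f_t, hp.pair, one_mul]; exact hxy
  have hall : ∀ z, d.Q z = 0 → z ≠ 0 → R z := by
    intro z hz hz0
    by_cases h : polB d.Q (d.t u x) z = 0
    · obtain ⟨v, hv, hv1, hv2⟩ := exists_sing_nonorth d.nd d.two (by omega) hp₁.1
        (d.t_ne_zero hp.left_ne_zero hx) hz0
      have hRv := hstep _ _ v hp₁ hp₂ hv h12 hv1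
      exact hstep v (d.t u x) z hRv hp₁ hz (by rw [polB_comm]; exact hv1) (by rw [polB_comm]; exact hv2)
    · exact hstep _ _ z hp₁ hp₂ hz h12 h
  rw [commutator_eq_eichlerSub d.nd h5, eichlerSub, Subgroup.closure_le]
  rintro _ ⟨p, w, hp0, hpw, rfl⟩
  rcases eq_or_ne p 0 with rfl | hne
  · rw [show eichler d.Q (0 : V) w = 1 from orth_ext fun x => by
      simp [eichler_apply hp0 hpw, orth_one_apply]]
    exact one_mem _
  · exact (hall p hp0 hne).2 w hpw

end OS

end H98.TE
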