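import Cfsg.Agent.H98.TensEven.Prelim
import Cfsg.Agent.H43.Omega
import Cfsg.Agent.H43.NormClass
import Cfsg.Agent.H43.Forms

/-!
Involutive isometries and pairs of involutions.
-/

set_option autoImplicit false
set_option linter.unusedSectionVars false

namespace H98.TE

open H43 H98.TO

variable {F : Type*} [Field F] [Finite F] {W : Type*} [AddCommGroup W] [Module F W] [FiniteDimensional F W]
  {Q : QuadraticForm F W}

/-- A similitude of an odd-dimensional space has a square multiplier. -/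
theorem simil_square (hQ : (polB Q).Nondegenerate) (hodd : Odd (Module.finrank F W)) (c : W →ₗ[F] W) {k : F}
    (hk : k ≠ 0) (hc : ∀ x y, polB Q (c x) (c y) = k * polB Q x y) : ∃ r : F, k = r * r := by
  classical
  let b := Module.finBasis F W
  set G := LinearMap.BilinForm.toMatrix b (polB Q) with hG
  have hdet : G.det ≠ 0 := (LinearMap.BilinForm.nondegenerate_iff_det_ne_zero b).1 hQ
  have h1 : LinearMap.BilinForm.toMatrix b ((polB Q).comp c c) = k • G := by
    ext i j
    simp [hG, LinearMap.BilinForm.toMatrix_apply, hc]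
  rw [LinearMap.BilinForm.toMatrix_comp (b := b) (c := b)] at h1
  have h2 := congrArg Matrix.det h1
  rw [Matrix.det_mul, Matrix.det_mul, Matrix.det_transpose, Matrix.det_smul, Fintype.card_fin, ← hG] at h2
  obtain ⟨j, hj⟩ := hodd
  set δ := (LinearMap.toMatrix b b c).det
  have h3 : δ * δ = k ^ (2 * j + 1) := by
    rw [← hj]; exact mul_right_cancel₀ hdet (by linear_combination h2)
  refine ⟨δ / k ^ j, ?_⟩
  rw [div_mul_div_comm, h3, ← pow_add, eq_div_iff (pow_ne_zero _ hk)]
  ring

/-- The fixed space. -/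
def pos (α : orthGroup Q) : Submodule F W := LinearMap.ker ((α.1 : W →ₗ[F] W) - 1)

/-- The negated space. -/
def neg (α : orthGroup Q) : Submodule F W := LinearMap.ker ((α.1 : W →ₗ[F] W) + 1)

theorem mem_pos {α : orthGroup Q} {x : W} : x ∈ pos α ↔ α.1 x = x := by
  simp [pos, sub_eq_zero]

theorem mem_neg {α : orthGroup Q} {x : W} : x ∈ neg α ↔ α.1 x = -x := by
  simp [neg, add_eq_zero_iff_eq_neg]

theorem pos_orth_neg (h2 : (2 : F) ≠ 0) {α : orthGroup Q} {x y : W} (hx : x ∈ pos α) (hy : y ∈ neg α) :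
    polB Q x y = 0 := by
  have h := orth_polB_map α x y
  rw [mem_pos.1 hx, mem_neg.1 hy, map_neg] at h
  exact (mul_eq_zero.1 (show (2 : F) * polB Q x y = 0 by linear_combination -h)).resolve_left h2

theorem invol_apply {α : orthGroup Q} (hα : α * α = 1) (x : W) : α.1 (α.1 x) = x := by
  rw [← orth_mul_apply, hα, orth_one_apply]

theorem sub_mem_neg {α : orthGroup Q} (hα : α * α = 1) (x : W) : x - α.1 x ∈ neg α := by
  rw [mem_neg, map_sub, invol_apply hα, neg_sub]

theorem add_mem_pos {α : orthGroup Q} (hα : α * α = 1) (x : W) : x + α.1 x ∈ pos α := by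
  rw [mem_pos, map_add, invol_apply hα, add_comm]

theorem half_add (h2 : (2 : F) ≠ 0) (α : orthGroup Q) (x : W) :
    x = (2 : F)⁻¹ • (x + α.1 x) + (2 : F)⁻¹ • (x - α.1 x) := by
  rw [← smul_add, show x + α.1 x + (x - α.1 x) = (2 : F) • x by rw [two_smul]; abel, smul_smul,
    inv_mul_cancel₀ h2, one_smul]

theorem eq_zero_of_pos_neg (h2 : (2 : F) ≠ 0) {α : orthGroup Q} {x : W} (hx : x ∈ pos α) (hy : x ∈ neg α) :
    x = 0 := by
  have h := (mem_pos.1 hx).symm.trans (mem_neg.1 hy)
  have : (2 : F) • x = 0 := by rw [two_smul]; exact eq_neg_iff_add_eq_zero.1 h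
  exact (smul_eq_zero.1 this).resolve_left h2

/-- The eigenspaces of an involution inside an invariant subspace. -/
theorem finrank_pos_neg (h2 : (2 : F) ≠ 0) {α : orthGroup Q} (hα : α * α = 1) {A : Submodule F W}
    (hA : ∀ x ∈ A, α.1 x ∈ A) : Module.finrank F (A ⊓ pos α : Submodule F W) +
      Module.finrank F (A ⊓ neg α : Submodule F W) = Module.finrank F A := by
  have h1 := Submodule.finrank_sup_add_finrank_inf_eq (A ⊓ pos α) (A ⊓ neg α)
  have e1 : (A ⊓ pos α) ⊔ (A ⊓ neg α) = A := le_antisymm (sup_le inf_le_left inf_le_left) fun x hx => by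
    rw [half_add h2 α x]
    exact Submodule.add_mem_sup
      ⟨A.smul_mem _ (A.add_mem hx (hA x hx)), Submodule.smul_mem _ _ (add_mem_pos hα x)⟩
      ⟨A.smul_mem _ (A.sub_mem hx (hA x hx)), Submodule.smul_mem _ _ (sub_mem_neg hα x)⟩
  have e2 : (A ⊓ pos α) ⊓ (A ⊓ neg α) = ⊥ :=
    eq_bot_iff.2 fun x hx => (Submodule.mem_bot F).2 (eq_zero_of_pos_neg h2 hx.1.2 hx.2.2)
  rw [e1, e2, finrank_bot] at h1
  omega

theorem finrank_pos_add_neg (h2 : (2 : F) ≠ 0) {α : orthGroup Q} (hα : α * α = 1) :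
    Module.finrank F (pos α) + Module.finrank F (neg α) = Module.finrank F W := by
  have h := finrank_pos_neg h2 hα (A := ⊤) fun x _ => trivial
  rwa [top_inf_eq, top_inf_eq, finrank_top] at h

theorem resid_invol (h2 : (2 : F) ≠ 0) {α : orthGroup Q} (hα : α * α = 1) : resid α = neg α := by
  refine le_antisymm ?_ fun x hx => ⟨(2 : F)⁻¹ • x, ?_⟩
  · rintro _ ⟨x, rfl⟩
    exact sub_mem_neg hα x
  · rw [resMap_apply, map_smul, mem_neg.1 hx, ← smul_sub, sub_neg_eq_add, ← two_smul F, smul_smul,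
      inv_mul_cancel₀ h2, one_smul]

theorem negOrth_mul_invol {α : orthGroup Q} (hα : α * α = 1) : (negOrth Q * α) * (negOrth Q * α) = 1 :=
  orth_ext fun x => by
    simp only [orth_mul_apply, negOrth_apply, map_neg, neg_neg, invol_apply hα, orth_one_apply]

theorem mem_pos_negOrth {α : orthGroup Q} {x : W} : x ∈ pos (negOrth Q * α) ↔ x ∈ neg α := by
  rw [mem_pos, mem_neg, orth_mul_apply, negOrth_apply, neg_eq_iff_eq_neg]

/-- A nonzero subspace with an orthogonal supplement has anisotropic vectors. -/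
theorem exists_aniso_split (hQ : (polB Q).Nondegenerate) {K : Submodule F W} (hK : K ≠ ⊥)
    (hs : ∀ x, ∃ k ∈ K, x - k ∈ (polB Q).orthogonal K) : ∃ k ∈ K, Q k ≠ 0 := by
  obtain ⟨k₀, hk₀, hk₀0⟩ := K.ne_bot_iff.1 hK
  by_contra hcon
  push Not at hcon
  refine hk₀0 (hQ.1 k₀ fun x => ?_)
  obtain ⟨k, hk, hxk⟩ := hs x
  have h1 := polB_eq_zero_of_singular hcon hk₀ hk
  have h2 : polB Q k₀ (x - k) = 0 := hxk k₀ hk₀
  rwa [map_sub, h1, sub_zero] at h2

/-- An isometry preserving a subspace preserves its orthogonal. -/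
theorem preserve_orth (h : orthGroup Q) {U : Submodule F W} (hU : ∀ v ∈ U, h.1 v ∈ U) {v : W}
    (hv : v ∈ (polB Q).orthogonal U) : h.1 v ∈ (polB Q).orthogonal U := by
  have heq : U.map h.1.toLinearMap = U :=
    Submodule.eq_of_le_of_finrank_le (by rintro _ ⟨x, hx, rfl⟩; exact hU x hx)
      (le_of_eq (LinearEquiv.finrank_map_eq h.1 U).symm)
  intro u hu
  rw [← heq] at hu
  obtain ⟨x, hx, rfl⟩ := hu
  show polB Q (h.1 x) (h.1 v) = 0
  rw [orth_polB_map]
  exact hv x hx

theorem resid_mul_le (g h : orthGroup Q) : resid (g * h) ≤ resid g ⊔ resid h := by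
  rintro _ ⟨x, rfl⟩
  rw [resMap_apply, orth_mul_apply,
    show x - g.1 (h.1 x) = resMap g (h.1 x) + resMap h x by rw [resMap_apply, resMap_apply]; abel]
  exact Submodule.add_mem_sup (resMap_mem g _) (resMap_mem h x)

theorem resid_pow_le {z t : orthGroup Q} (k : ℕ) : resid ((z * t) ^ k) ≤ resid z ⊔ resid t := by
  induction k with
  | zero => rw [pow_zero, resid_one]; exact bot_le
  | succ k ih =>
    rw [pow_succ]
    exact (resid_mul_le _ _).trans (sup_le ih (resid_mul_le _ _))

theorem fix_pow {z t : orthGroup Q} {v : W} (hz : z.1 v = v) (ht : t.1 v = v) (k : ℕ) :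
    ((z * t) ^ k).1 v = v := by
  induction k with
  | zero => rw [pow_zero, orth_one_apply]
  | succ k ih => rw [pow_succ, orth_mul_apply, orth_mul_apply, ht, hz, ih]

theorem resid_conj (g x : orthGroup Q) : resid (g * x * g⁻¹) = (resid x).map g.1.toLinearMap := by
  refine le_antisymm ?_ ?_
  · rintro _ ⟨v, rfl⟩
    refine ⟨resMap x ((g⁻¹).1 v), resMap_mem x _, ?_⟩
    show g.1 (resMap x ((g⁻¹).1 v)) = _
    rw [resMap_apply, resMap_apply, map_sub, orth_apply_inv_self, orth_mul_apply, orth_mul_apply]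
  · rintro _ ⟨_, ⟨v, rfl⟩, rfl⟩
    refine ⟨g.1 v, ?_⟩
    show resMap (g * x * g⁻¹) (g.1 v) = g.1 (resMap x v)
    rw [resMap_apply, resMap_apply, map_sub, orth_mul_apply, orth_mul_apply, orth_inv_apply_self]

/-- Two involutions are conjugate in the group they generate, or commute with a third one there. -/
theorem dihedral {G : Type*} [Group G] [Finite G] {z t : G} (hz : z * z = 1) (ht : t * t = 1) :
    (∃ k : ℕ, z = (z * t) ^ k * t * ((z * t) ^ k)⁻¹) ∨
    ∃ k : ℕ, (z * t) ^ k ≠ 1 ∧ (z * t) ^ k * (z * t) ^ k = 1 ∧ Commute ((z * t) ^ k) z ∧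
      Commute ((z * t) ^ k) t := by
  set y := z * t with hy
  have hzy : z = y * t := by rw [hy, mul_assoc, ht, mul_one]
  have hinv : t * y * t⁻¹ = y⁻¹ := by
    rw [hy, mul_inv_rev, inv_eq_of_mul_eq_one_right hz, inv_eq_of_mul_eq_one_right ht, mul_assoc, mul_assoc, ht,
      mul_one]
  have hflip : ∀ k : ℕ, t * y ^ k * t⁻¹ = (y ^ k)⁻¹ := fun k => by rw [← conj_pow, hinv, inv_pow]
  have hm : 0 < orderOf y := (isOfFinOrder_of_finite y).orderOf_pos
  rcases Nat.even_or_odd (orderOf y) with ⟨j, hj⟩ | ⟨j, hj⟩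
  · have h1 : y ^ j * y ^ j = 1 := by rw [← pow_add, ← hj, pow_orderOf_eq_one]
    have hct : Commute (y ^ j) t := by
      have h2 := hflip j
      rw [inv_eq_of_mul_eq_one_right h1, mul_inv_eq_iff_eq_mul] at h2
      exact h2.symm
    refine Or.inr ⟨j, pow_ne_one_of_lt_orderOf (by omega) (by omega), h1, ?_, hct⟩
    rw [hzy]
    exact ((Commute.refl y).pow_left j).mul_right hct
  · refine Or.inl ⟨j + 1, ?_⟩
    have h2 : t * (y ^ (j + 1))⁻¹ = y ^ (j + 1) * t := by
      rw [← hflip (j + 1), ← mul_assoc, ← mul_assoc, ht, one_mul, inv_eq_of_mul_eq_one_right ht]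
    rw [mul_assoc, h2, ← mul_assoc, ← pow_add, show j + 1 + (j + 1) = orderOf y + 1 by omega, pow_add,
      pow_orderOf_eq_one, one_mul, pow_one]
    exact hzy

end H98.TE

namespace H98.TE

open H43 H98.TO

variable {F : Type*} [Field F] [Finite F] {W : Type*} [AddCommGroup W] [Module F W] [FiniteDimensional F W]
  {Q : QuadraticForm F W}

theorem orth_neg_le_pos (hQ : (polB Q).Nondegenerate) {α : orthGroup Q} (hα : α * α = 1) :
    (polB Q).orthogonal (neg α) ≤ pos α := by
  intro x hx
  rw [mem_pos, eq_comm, ← sub_eq_zero]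
  refine hQ.1 _ fun y => ?_
  have h1 : polB Q (α.1 x) y = polB Q x (α.1 y) := by
    rw [← orth_polB_map α (α.1 x) y, invol_apply hα]
  have h2 : polB Q (y - α.1 y) x = 0 := hx _ (sub_mem_neg hα y)
  rw [polB_comm, map_sub] at h2
  rw [map_sub, LinearMap.sub_apply, h1]
  exact h2

theorem neg_refl (h2 : (2 : F) ≠ 0) {k : W} (hk : Q k ≠ 0) : neg (refl Q k) = F ∙ k := by
  refine le_antisymm (fun x hx => ?_) ((Submodule.span_singleton_le_iff_mem _ _).2 (mem_neg.2 (refl_self hk)))
  rw [mem_neg, refl_apply] at hx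
  have h : (2 : F) • x = ((Q k)⁻¹ * polB Q x k) • k := by linear_combination (norm := module) hx
  exact ((F ∙ k).smul_mem_iff h2).1 (by rw [h]; exact Submodule.smul_mem _ _ (Submodule.mem_span_singleton_self k))

/-- The involution negating a hyperbolic plane. -/
def pairInv (Q : QuadraticForm F W) (u v : W) : orthGroup Q := refl Q (u - v) * refl Q (u + v)

theorem qmap_pair_sub {u v : W} (hp : HypPair Q u v) : Q (u - v) = -1 := by
  rw [qmap_sub, hp.left, hp.right, hp.pair]; ring

theorem qmap_pair_add {u v : W} (hp : HypPair Q u v) : Q (u + v) = 1 := by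
  rw [qmap_add, hp.left, hp.right, hp.pair]; ring

theorem pairInv_apply {u v : W} (hp : HypPair Q u v) (x : W) :
    (pairInv Q u v).1 x = x - (2 * polB Q x v) • u - (2 * polB Q x u) • v := by
  rw [pairInv, orth_mul_apply, refl_apply, refl_apply, qmap_pair_add hp, qmap_pair_sub hp]
  simp only [map_add, map_sub, map_smul, LinearMap.add_apply, LinearMap.sub_apply, LinearMap.smul_apply,
    smul_eq_mul, polB_self, hp.left, hp.right, hp.pair, hp.symm.pair, inv_one, inv_neg]
  match_scalars <;> ring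

theorem pairInv_fix {u v : W} (hp : HypPair Q u v) {x : W} (h1 : polB Q x u = 0) (h2 : polB Q x v = 0) :
    (pairInv Q u v).1 x = x := by
  rw [pairInv_apply hp, h1, h2]; simp

theorem pairInv_sq {u v : W} (hp : HypPair Q u v) : pairInv Q u v * pairInv Q u v = 1 := orth_ext fun x => by
  rw [orth_mul_apply, pairInv_apply hp, pairInv_apply hp, orth_one_apply]
  simp only [map_sub, map_smul, LinearMap.sub_apply, LinearMap.smul_apply, smul_eq_mul, polB_self, hp.left,
    hp.right, hp.pair, hp.symm.pair]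
  module

theorem neg_pairInv (h2 : (2 : F) ≠ 0) {u v : W} (hp : HypPair Q u v) :
    neg (pairInv Q u v) = Submodule.span F {u, v} := by
  refine le_antisymm (fun x hx => ?_) (Submodule.span_le.2 ?_)
  · rw [mem_neg, pairInv_apply hp] at hx
    refine Submodule.mem_span_pair.2 ⟨polB Q x v, polB Q x u, ?_⟩
    refine (smul_right_inj h2).1 ?_
    linear_combination (norm := module) -hx
  · intro x hx
    simp only [Set.mem_insert_iff, Set.mem_singleton_iff] at hx
    rw [SetLike.mem_coe, mem_neg, pairInv_apply hp]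
    rcases hx with rfl | rfl
    · rw [hp.pair, polB_self_zero hp.left]; module
    · rw [hp.symm.pair, polB_self_zero hp.right]; module

theorem finrank_pair {u v : W} (hp : HypPair Q u v) :
    Module.finrank F (Submodule.span F ({u, v} : Set W)) = 2 := by
  rw [show ({u, v} : Set W) = Set.range ![u, v] by simp [Matrix.range_cons, Set.pair_comm],
    finrank_span_eq_card hp.linearIndependent]
  simp

theorem pair_inf_orth {u v : W} (hp : HypPair Q u v) :
    Submodule.span F {u, v} ⊓ (polB Q).orthogonal (Submodule.span F {u, v}) = ⊥ := by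
  rw [eq_bot_iff]
  rintro x ⟨hx, hx'⟩
  obtain ⟨a, b, rfl⟩ := Submodule.mem_span_pair.1 hx
  obtain ⟨h1, h2⟩ := mem_orth_pair.1 hx'
  simp only [map_add, map_smul, smul_eq_mul, polB_self_zero hp.left, polB_self_zero hp.right, hp.pair,
    hp.symm.pair, mul_zero, mul_one, zero_add, add_zero] at h1 h2
  simp [h1, h2]

end H98.TE
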