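import Cfsg.Agent.H98.TensEven.FourInvol

/-!
A small overgroup consists of products when the first factor is four-dimensional without singular planes and the
second three-dimensional.
-/

set_option autoImplicit false
set_option linter.unusedSectionVars false

namespace H98.TE

open H43 H98.TO

variable {F : Type*} [Field F] [Finite F]
  {L : Type*} [AddCommGroup L] [Module F L] [FiniteDimensional F L]
  {S : Type*} [AddCommGroup S] [Module F S] [FiniteDimensional F S]
  {V : Type*} [AddCommGroup V] [Module F V] [FiniteDimensional F V]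

theorem neg_negOrth_mul {W : Type*} [AddCommGroup W] [Module F W] [FiniteDimensional F W] {Q : QuadraticForm F W}
    (α : orthGroup Q) : neg (negOrth Q * α) = pos α := by
  ext x
  rw [mem_neg, mem_pos, orth_mul_apply, negOrth_apply, neg_inj]

namespace OS

variable {d : OS F L S V} {H : Subgroup (orthGroup d.Q)}
  (hH : d.Over H) (hS : d.Small H) (hl : Module.finrank F L = 4)

include hl in
/-- An involutory product moving at most four dimensions is trivial or a reflection of the second factor. -/
theorem small_neg {c : orthGroup d.Q} (hcT : d.IsT c) (hcc : c * c = 1) (hdet : detHom d.Q c = 1)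
    (h4 : Module.finrank F (neg c) ≤ 4) :
    Module.finrank F (neg c) = 0 ∨ ∃ v, d.QS v ≠ 0 ∧ c = tau d v := by
  have hV : Module.finrank F V = 12 := by rw [d.finrank_eq, hl, (d.small hl).1]
  rcases invol_cases hl hcT hcc hdet with rfl | rfl | ⟨v, hv, rfl | rfl⟩ | hm
  · left
    rw [← resid_invol d.two (one_mul 1), resid_one, finrank_bot]
  · exfalso
    have h := finrank_pos_add_neg d.two (one_mul (1 : orthGroup d.Q))
    rw [show neg (1 : orthGroup d.Q) = ⊥ by rw [← resid_invol d.two (one_mul 1), resid_one], finrank_bot] at h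
    rw [← mul_one (negOrth d.Q), neg_negOrth_mul] at h4
    omega
  · exact Or.inr ⟨v, hv, rfl⟩
  · exfalso
    have h := finrank_pos_add_neg d.two (tau_sq (d := d) v)
    rw [finrank_neg_tau hv, hl] at h
    rw [neg_negOrth_mul] at h4
    omega
  · exfalso
    have := mixed_six hl hm
    omega

include hH hS hl in
/-- A small overgroup consists of products. -/
theorem all_tens_four (hdet : ∀ g ∈ H, detHom d.Q g = 1) {g : orthGroup d.Q} (hg : g ∈ H) : d.IsT g := by
  classical
  haveI := Fintype.ofFinite F
  obtain ⟨hs3, -, -⟩ := d.small hl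
  have hodd : Odd (Module.finrank F S) := by rw [hs3]; decide
  have hV : Module.finrank F V = 12 := by rw [d.finrank_eq, hl, hs3]
  haveI : Finite V := Module.finite_of_finite F
  haveI : Finite (orthGroup d.Q) := finite_orthGroup
  obtain ⟨e, he⟩ := exists_aniso_S (d := d)
  have he0 : e ≠ 0 := fun h => he (by rw [h]; exact QuadraticMap.map_zero _)
  have hchar : ringChar F ≠ 2 := fun h => d.two (by
    have := ringChar.Nat.cast_ringChar (R := F)
    rw [h] at this
    exact_mod_cast this)
  obtain ⟨δ, hδ⟩ := FiniteField.exists_nonsquare hchar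
  have hδ0 : δ ≠ 0 := fun h => hδ (h ▸ IsSquare.zero)
  obtain ⟨f, hf⟩ := exists_qmap_eq d.ndS (by omega) (δ * d.QS e) (mul_ne_zero hδ0 he)
  have hf' : d.QS f ≠ 0 := by rw [hf]; exact mul_ne_zero hδ0 he
  set z := g * tau d e * g⁻¹ with hz
  have hzH : z ∈ H := mul_mem (mul_mem hg (tau_mem hH hl he)) (inv_mem hg)
  have hzz : z * z = 1 := conj_invol g (tau_sq e)
  have hzmap : neg z = (Row d e).map g.1.toLinearMap := by
    rw [← resid_invol d.two hzz, hz, resid_conj, resid_tau he]
  have hz4 : Module.finrank F (neg z) = 4 := by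
    rw [hzmap, LinearEquiv.finrank_map_eq, finrank_Row he0, hl]
  have hzT : d.IsT z := by
    rcases dihedral hzz (tau_sq (d := d) f) with ⟨i, hi⟩ | ⟨i, hc1, hcc, hcz, hct⟩
    · exfalso
      set y := (z * tau d f) ^ i with hy
      have hyH : y ∈ H := pow_mem (mul_mem hzH (tau_mem hH hl hf')) i
      have hconj : (y⁻¹ * g) * tau d e * (y⁻¹ * g)⁻¹ = tau d f := by
        calc (y⁻¹ * g) * tau d e * (y⁻¹ * g)⁻¹ = y⁻¹ * z * y := by rw [hz]; group
          _ = tau d f := by rw [hi]; group
      have hrow : ∀ a, ∃ b, (y⁻¹ * g).1 (d.t a e) = d.t b f := fun a => by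
        have h : (y⁻¹ * g).1 (d.t a e) ∈ resid (tau d f) := by
          rw [← hconj, resid_conj, resid_tau he]
          exact Submodule.mem_map_of_mem (⟨a, rfl⟩ : d.t a e ∈ Row d e)
        rw [resid_tau hf'] at h
        obtain ⟨b, hb⟩ := h
        exact ⟨b, hb.symm⟩
      have hT := row_map hH hS hl he hf' (mul_mem (inv_mem hyH) hg) hrow
      obtain ⟨r, hr⟩ := row_class hodd hT he hrow
      exact hδ ⟨r, mul_right_cancel₀ he (hf ▸ hr)⟩
    set c := (z * tau d f) ^ i
    have hcH : c ∈ H := pow_mem (mul_mem hzH (tau_mem hH hl hf')) i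
    have hcT : d.IsT c := cent_tau hH hS hl hf' hcH hct
    have hle : neg c ≤ neg z ⊔ Row d f := by
      rw [← resid_invol d.two hcc, ← resid_invol d.two hzz, ← resid_tau hf']
      exact resid_pow_le i
    have hle8 : Module.finrank F (neg c) ≤ 8 := by
      refine (Submodule.finrank_mono hle).trans ((Submodule.finrank_add_le_finrank_add_finrank _ _).trans ?_)
      rw [hz4, finrank_Row (fun h => hf' (by rw [h]; exact QuadraticMap.map_zero _)), hl]
    rcases invol_cases hl hcT hcc (hdet c hcH) with h | h | ⟨v, hv, h⟩ | hm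
    · exact absurd h hc1
    · exfalso
      have h1 := finrank_pos_add_neg d.two (one_mul (1 : orthGroup d.Q))
      rw [show neg (1 : orthGroup d.Q) = ⊥ by rw [← resid_invol d.two (one_mul 1), resid_one], finrank_bot] at h1
      rw [h, ← mul_one (negOrth d.Q), neg_negOrth_mul] at hle8
      omega
    · refine cent_tau hH hS hl hv hzH ?_
      rcases h with h | h
      · rw [← h]; exact hcz.symm
      · have h' : negOrth d.Q * c = tau d v := by rw [h, ← mul_assoc, negOrth_sq, one_mul]
        rw [← h']
        exact Commute.mul_right (negOrth_central z).symm hcz.symm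
    -- mixed type
    exfalso
    have hc6 : Module.finrank F (neg c) = 6 := by
      have h1 := mixed_six hl hm
      have h2 := mixed_six hl (mixed_negOrth hm)
      rw [neg_negOrth_mul] at h2
      have h3 := finrank_pos_add_neg d.two hcc
      omega
    have hP := mixed_row hm hf' hct
    set P := (pos c ⊓ Row d f : Submodule F V)
    have hnP : neg c ⊓ P = ⊥ := eq_bot_iff.2 fun v hv =>
      (Submodule.mem_bot F).2 (eq_zero_of_pos_neg d.two hv.2.1 hv.1)
    have h1 := Submodule.finrank_sup_add_finrank_inf_eq (neg c) P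
    rw [hnP, finrank_bot, add_zero] at h1
    have h2 := Submodule.finrank_sup_add_finrank_inf_eq (neg z) (Row d f)
    rw [hz4, finrank_Row (fun h => hf' (by rw [h]; exact QuadraticMap.map_zero _)), hl] at h2
    have hle' : neg c ⊔ P ≤ neg z ⊔ Row d f := sup_le hle (inf_le_right.trans le_sup_right)
    have h3 := Submodule.finrank_mono hle'
    have heq : neg c ⊔ P = neg z ⊔ Row d f := Submodule.eq_of_le_of_finrank_le hle' (by omega)
    have hzf : neg z ⊓ Row d f = ⊥ := Submodule.finrank_eq_zero.1 (by omega)
    have hZ0 : neg z ⊓ pos c = ⊥ := eq_bot_iff.2 fun v hv => by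
      obtain ⟨n, hn, q, hq, hnq⟩ := Submodule.mem_sup.1 (show v ∈ neg c ⊔ P by
        rw [heq]; exact Submodule.mem_sup_left hv.1)
      have hcv := mem_pos.1 hv.2
      rw [← hnq, map_add, mem_neg.1 hn, mem_pos.1 hq.1, add_left_inj] at hcv
      have hn0 : n = 0 := eq_zero_of_pos_neg d.two (by rw [mem_pos, mem_neg.1 hn, hcv]) hn
      rw [← hzf]
      refine ⟨hv.1, ?_⟩
      rw [← hnq, hn0, zero_add]
      exact hq.2
    have hcz' : ∀ x ∈ neg z, c.1 x ∈ neg z := fun x hx => by
      rw [mem_neg, ← orth_mul_apply, ← hcz.eq, orth_mul_apply, mem_neg.1 hx, map_neg]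
    have hzc' : ∀ x ∈ neg c, z.1 x ∈ neg c := fun x hx => by
      rw [mem_neg, ← orth_mul_apply, hcz.eq, orth_mul_apply, mem_neg.1 hx, map_neg]
    have h4 := finrank_pos_neg d.two hcc hcz'
    rw [hZ0, finrank_bot, hz4] at h4
    have h5 := finrank_pos_neg d.two hzz hzc'
    rw [inf_comm (neg c) (neg z), hc6] at h5
    set w := z * c with hw
    have hwH : w ∈ H := mul_mem hzH hcH
    have hww : w * w = 1 := by
      calc w * w = z * (c * z) * c := by rw [hw]; group
        _ = (z * z) * (c * c) := by rw [hcz.eq]; group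
        _ = 1 := by rw [hzz, hcc, one_mul]
    have hwneg : neg w = neg c ⊓ pos z := by
      refine le_antisymm (fun v hv => ?_) fun v hv => ?_
      · have hwc : Commute w c := Commute.mul_left hcz.symm (Commute.refl c)
        set q := v + c.1 v with hq
        have hq1 : q ∈ pos c := add_mem_pos hcc v
        have e : w.1 (c.1 v) = c.1 (w.1 v) := DFunLike.congr_fun (congrArg Subtype.val hwc.eq) v
        have hq2 : w.1 q = -q := by
          rw [hq, map_add, e, mem_neg.1 hv, map_neg, neg_add]
        have hq3 : q ∈ neg z ⊓ pos c := by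
          refine ⟨mem_neg.2 ?_, hq1⟩
          rwa [hw, orth_mul_apply, mem_pos.1 hq1] at hq2
        rw [hZ0, Submodule.mem_bot, hq] at hq3
        have hcv : c.1 v = -v := eq_neg_of_add_eq_zero_right hq3
        refine ⟨mem_neg.2 hcv, mem_pos.2 ?_⟩
        have h := mem_neg.1 hv
        rw [hw, orth_mul_apply, hcv, map_neg, neg_inj] at h
        exact h
      · rw [mem_neg, hw, orth_mul_apply, mem_neg.1 hv.1, map_neg, mem_pos.1 hv.2]
    have hw2 : Module.finrank F (neg w) = 2 := by rw [hwneg]; omega
    have hwT : d.IsT w := by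
      rcases dihedral hww (tau_sq (d := d) e) with ⟨j, hj⟩ | ⟨j, hd1, hdd, hdw, hdt⟩
      · exfalso
        have h : Module.finrank F (resid w) =
            Module.finrank F (resid ((w * tau d e) ^ j * tau d e * ((w * tau d e) ^ j)⁻¹)) := by rw [← hj]
        rw [resid_conj, LinearEquiv.finrank_map_eq, resid_tau he, finrank_Row he0, hl, resid_invol d.two hww,
          hw2] at h
        omega
      set c' := (w * tau d e) ^ j
      have hc'H : c' ∈ H := pow_mem (mul_mem hwH (tau_mem hH hl he)) j
      have hc'T : d.IsT c' := cent_tau hH hS hl he hc'H hdt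
      have hle' : neg c' ≤ neg w ⊔ Row d e := by
        rw [← resid_invol d.two hdd, ← resid_invol d.two hww, ← resid_tau he]
        exact resid_pow_le j
      have h6 := Submodule.finrank_add_le_finrank_add_finrank (neg w) (Row d e)
      rw [hw2, finrank_Row he0, hl] at h6
      have h7 := Submodule.finrank_mono hle'
      rcases invol_cases hl hc'T hdd (hdet c' hc'H) with h | h | ⟨v, hv, h⟩ | hm'
      · exact absurd h hd1
      · exfalso
        have h1 := finrank_pos_add_neg d.two (one_mul (1 : orthGroup d.Q))
        rw [show neg (1 : orthGroup d.Q) = ⊥ by rw [← resid_invol d.two (one_mul 1), resid_one], finrank_bot] at h1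
        rw [h, ← mul_one (negOrth d.Q), neg_negOrth_mul] at h7
        omega
      · refine cent_tau hH hS hl hv hwH ?_
        rcases h with h | h
        · rw [← h]; exact hdw.symm
        · have h' : negOrth d.Q * c' = tau d v := by rw [h, ← mul_assoc, negOrth_sq, one_mul]
          rw [← h']
          exact Commute.mul_right (negOrth_central w).symm hdw.symm
      · exfalso
        have h8 := mixed_six hl hm'
        have heq' : neg c' = neg w ⊔ Row d e := Submodule.eq_of_le_of_finrank_le hle' (by omega)
        have h9 : (pos c' ⊓ Row d e : Submodule F V) = ⊥ := eq_bot_iff.2 fun v hv =>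
          (Submodule.mem_bot F).2 (eq_zero_of_pos_neg d.two hv.1 (by rw [heq']; exact Submodule.mem_sup_right hv.2))
        have h10 := mixed_row hm' he hdt
        rw [h9, finrank_bot] at h10
        omega
    rcases small_neg hl hwT hww (hdet w hwH) (by omega) with h | ⟨v, hv, h⟩
    · omega
    · rw [h, finrank_neg_tau hv, hl] at hw2
      omega
  rcases small_neg hl hzT hzz (hdet z hzH) hz4.le with h | ⟨v, hv, h⟩
  · omega
  · refine row_map hH hS hl he hv hg fun a => ?_
    have h1 : g.1 (d.t a e) ∈ neg z := by
      rw [hzmap]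
      exact Submodule.mem_map_of_mem (⟨a, rfl⟩ : d.t a e ∈ Row d e)
    rw [h, neg_tau hv] at h1
    obtain ⟨b, hb⟩ := h1
    exact ⟨b, hb.symm⟩

end OS

end H98.TE
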