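import Cfsg.Agent.H98.TensEven.Block

/-!
A small overgroup consists of products when the first factor has odd and the second even dimension, the second
exceeding the first by at most one.
-/

set_option autoImplicit false
set_option linter.unusedSectionVars false

namespace H98.TE

open H43 H98.TO

variable {F : Type*} [Field F] [Finite F]
  {L : Type*} [AddCommGroup L] [Module F L] [FiniteDimensional F L]
  {S : Type*} [AddCommGroup S] [Module F S] [FiniteDimensional F S]
  {V : Type*} [AddCommGroup V] [Module F V] [FiniteDimensional F V]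

namespace OS

variable {d : OS F L S V} {H : Subgroup (orthGroup d.Q)}

theorem det_of_line {W : Type*} [AddCommGroup W] [Module F W] [FiniteDimensional F W] {Q : QuadraticForm F W}
    (hQ : (polB Q).Nondegenerate) (h2 : (2 : F) ≠ 0) {γ : orthGroup Q} (hγ : γ * γ = 1)
    (h : Module.finrank F (neg γ) = 1) : detHom Q γ = -1 := by
  obtain ⟨v, hv, rfl⟩ := eq_refl_of_finrank_one hQ γ (by rw [resid_invol h2 hγ]; exact h)
  exact detHom_refl hv

theorem mem_resid_of_neg {g : orthGroup d.Q} {w : V} (h : g.1 w = -w) : w ∈ resid g := by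
  refine ⟨(2 : F)⁻¹ • w, ?_⟩
  rw [resMap_apply, map_smul, h, ← smul_sub, sub_neg_eq_add, ← two_smul F, smul_smul, inv_mul_cancel₀ d.two,
    one_smul]

theorem liftL_liftS_comm (α : orthGroup d.QL) (γ : orthGroup d.QS) :
    Commute (d.liftL α) (d.liftS γ) :=
  d.orth_ext' fun x e => by simp only [orth_mul_apply, d.liftL_t, d.liftS_t]

/-- The alternatives for an involutory product preserving the columns of a small subspace. -/
theorem split_cases (hodd : Odd (Module.finrank F L)) (hev : Even (Module.finrank F S)) {c : orthGroup d.Q}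
    (hcT : d.IsT c) (hcc : c * c = 1) (hc1 : c ≠ 1) (hdet : detHom d.Q c = 1) {P : Submodule F L}
    (hP : Module.finrank F P ≤ 2) (hPn : P ⊓ (polB d.QL).orthogonal P = ⊥)
    (hcP : ∀ x ∈ P, ∀ e, c.1 (d.t x e) ∈ d.TS P) {Z : Submodule F V}
    (hZ : Module.finrank F Z ≤ Module.finrank F S) (hle : resid c ≤ Z ⊔ d.TS P) :
    (∃ α : orthGroup d.QL, c = d.liftL α ∧ α * α = 1 ∧ 1 ≤ Module.finrank F (neg α) ∧
      1 ≤ Module.finrank F (pos α)) ∨
    ∃ (α : orthGroup d.QL) (γ : orthGroup d.QS) (U U' : Submodule F S), c = d.liftL α * d.liftS γ ∧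
      2 ≤ Module.finrank F U ∧ 1 ≤ Module.finrank F U' ∧
      Module.finrank F ((polB d.QL).orthogonal P) * Module.finrank F U ≤ Module.finrank F S ∧
      ((∀ x ∈ (polB d.QL).orthogonal P, α.1 x = x) ∨ ∀ x ∈ (polB d.QL).orthogonal P, α.1 x = -x) ∧
      (∀ x ∈ (polB d.QL).orthogonal P, ∀ e ∈ U, c.1 (d.t x e) = -d.t x e) ∧
      ∀ x ∈ (polB d.QL).orthogonal P, ∀ e ∈ U', c.1 (d.t x e) = d.t x e := by
  obtain ⟨α, γ, rfl, hα, hγ⟩ := invol_factors hodd hcT hcc
  have hZP := (Submodule.finrank_mono hle).trans (Submodule.finrank_add_le_finrank_add_finrank _ _)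
  by_cases hg : γ = 1 ∨ γ = negOrth d.QS
  · left
    obtain ⟨β, hβ, hβc⟩ : ∃ β, β * β = 1 ∧ d.liftL α * d.liftS γ = d.liftL β := by
      rcases hg with rfl | rfl
      · exact ⟨α, hα, by rw [map_one, mul_one]⟩
      · refine ⟨negOrth d.QL * α, negOrth_mul_invol hα, d.orth_ext' fun x e => ?_⟩
        simp only [orth_mul_apply, d.liftS_t, d.liftL_t, negOrth_apply, map_neg, LinearMap.neg_apply]
    rw [hβc] at hZP hc1 ⊢
    rw [resid_liftL hβ, finrank_TS, finrank_TS] at hZP
    refine ⟨β, rfl, hβ, ?_, ?_⟩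
    · by_contra h0
      refine hc1 (eq_one_of_resid_eq_bot (Submodule.finrank_eq_zero.1 ?_))
      rw [resid_liftL hβ, finrank_TS, show Module.finrank F (neg β) = 0 by omega, zero_mul]
    · have h1 := finrank_pos_add_neg d.two hβ
      have h2 := (d.five fun h4 => absurd hodd (by rw [h4]; decide))
      have h3 : Module.finrank F P * Module.finrank F S ≤ 2 * Module.finrank F S := Nat.mul_le_mul hP le_rfl
      have h4 : Module.finrank F (neg β) ≤ 3 := Nat.le_of_mul_le_mul_right
        (show _ * Module.finrank F S ≤ 3 * Module.finrank F S by omega) (by have := d.three; omega)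
      omega
  right
  rw [not_or] at hg
  set A := (polB d.QL).orthogonal P with hA
  obtain ⟨e₁, e₂, he₁, -⟩ := exists_bS_one (d := d)
  have hαP : ∀ x ∈ P, α.1 x ∈ P := fun x hx => by
    have h := hcP x hx e₁
    rw [orth_mul_apply, d.liftS_t, d.liftL_t] at h
    exact of_t_mem_TS (by simpa using he₁) h
  have hαA : ∀ x ∈ A, α.1 x ∈ A := fun x hx => preserve_orth α hαP hx
  have hij := finrank_pos_neg d.two hα hαA
  have hpr := finrank_pos_add_neg d.two hγ
  have hr : 1 ≤ Module.finrank F (neg γ) := by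
    by_contra h0
    refine hg.1 (eq_one_of_resid_eq_bot ?_)
    rw [resid_invol d.two hγ]
    exact Submodule.finrank_eq_zero.1 (by omega)
  have hp : 1 ≤ Module.finrank F (pos γ) := by
    by_contra h0
    have htop : neg γ = ⊤ := Submodule.eq_top_of_finrank_eq (by omega)
    refine hg.2 (orth_ext fun e => ?_)
    rw [negOrth_apply]
    exact mem_neg.1 (htop ▸ Submodule.mem_top)
  set X₁ := d.TP (A ⊓ neg α) (pos γ) with hX₁
  set X₂ := d.TP (A ⊓ pos α) (neg γ) with hX₂
  have hX₁r : X₁ ≤ resid (d.liftL α * d.liftS γ) := TP_le fun x hx e he => mem_resid_of_neg (by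
    rw [orth_mul_apply, d.liftS_t, d.liftL_t, mem_neg.1 hx.2, mem_pos.1 he, map_neg, LinearMap.neg_apply])
  have hX₂r : X₂ ≤ resid (d.liftL α * d.liftS γ) := TP_le fun x hx e he => mem_resid_of_neg (by
    rw [orth_mul_apply, d.liftS_t, d.liftL_t, mem_pos.1 hx.2, mem_neg.1 he, map_neg])
  have hX₁₂ : X₁ ⊓ X₂ = ⊥ := eq_bot_iff.2 fun v hv => (Submodule.mem_bot F).2
    (TS_pos_neg (TP_le_TS inf_le_right hv.2) (TP_le_TS inf_le_right hv.1))
  have hXP : (X₁ ⊔ X₂) ⊓ d.TS P = ⊥ := eq_bot_iff.2 fun v hv => by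
    rw [← TS_inf_orth hPn]
    exact ⟨hv.2, (sup_le (TP_le_TS inf_le_left) (TP_le_TS inf_le_left) : X₁ ⊔ X₂ ≤ d.TS A) hv.1⟩
  have h1 := Submodule.finrank_sup_add_finrank_inf_eq X₁ X₂
  rw [hX₁₂, finrank_bot, add_zero, finrank_TP, finrank_TP] at h1
  have h2 := Submodule.finrank_sup_add_finrank_inf_eq (X₁ ⊔ X₂) (d.TS P)
  rw [hXP, finrank_bot, add_zero] at h2
  have h3 := (Submodule.finrank_mono (sup_le ((sup_le hX₁r hX₂r).trans hle) le_sup_right :
    (X₁ ⊔ X₂) ⊔ d.TS P ≤ Z ⊔ d.TS P)).trans (Submodule.finrank_add_le_finrank_add_finrank _ _)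
  set i := Module.finrank F (A ⊓ neg α : Submodule F L)
  set j := Module.finrank F (A ⊓ pos α : Submodule F L)
  have h4 : i * Module.finrank F (pos γ) + j * Module.finrank F (neg γ) ≤ Module.finrank F S := by omega
  have hAd : 3 ≤ Module.finrank F A := by
    have := finrank_orth_add d.ndL P; have := (d.five fun h4 => absurd hodd (by rw [h4]; decide)); rw [hA]; omega
  have hzero : i = 0 ∨ j = 0 := by
    by_contra h0
    rw [not_or] at h0
    obtain ⟨i', hi'⟩ := Nat.exists_eq_add_one_of_ne_zero h0.1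
    obtain ⟨j', hj'⟩ := Nat.exists_eq_add_one_of_ne_zero h0.2
    rw [hi', hj', Nat.add_mul, Nat.add_mul, one_mul, one_mul] at h4
    have := Nat.le_mul_of_pos_right i' hp
    have := Nat.le_mul_of_pos_right j' hr
    omega
  have hnoline : ∀ δ : orthGroup d.QS, δ * δ = 1 → detHom d.QS δ = detHom d.QS γ →
      Module.finrank F (neg δ) ≠ 1 := by
    intro δ hδ hdd h
    rw [map_mul, detHom_liftL hev, one_mul, detHom_liftS, ← hdd, det_of_line d.ndS d.two hδ h, hodd.neg_one_pow,
      Units.ext_iff] at hdet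
    simp only [Units.val_neg, Units.val_one] at hdet
    exact d.two (by linear_combination -hdet)
  rcases hzero with hi | hj
  · have hAp : A ≤ pos α := by
      rw [← Submodule.eq_of_le_of_finrank_le (inf_le_left : A ⊓ pos α ≤ A) (by omega)]
      exact inf_le_right
    rw [hi, zero_mul, zero_add] at h4
    refine ⟨α, γ, neg γ, pos γ, rfl, ?_, hp, ?_, Or.inl fun x hx => mem_pos.1 (hAp hx), ?_, ?_⟩
    · have := hnoline γ hγ rfl; omega
    · rw [show Module.finrank F A = j by omega]; exact h4
    · intro x hx e he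
      rw [orth_mul_apply, d.liftS_t, d.liftL_t, mem_pos.1 (hAp hx), mem_neg.1 he, map_neg]
    · intro x hx e he
      rw [orth_mul_apply, d.liftS_t, d.liftL_t, mem_pos.1 (hAp hx), mem_pos.1 he]
  · have hAn : A ≤ neg α := by
      rw [← Submodule.eq_of_le_of_finrank_le (inf_le_left : A ⊓ neg α ≤ A) (by omega)]
      exact inf_le_right
    rw [hj, zero_mul, add_zero] at h4
    refine ⟨α, γ, pos γ, neg γ, rfl, ?_, hr, ?_, Or.inr fun x hx => mem_neg.1 (hAn hx), ?_, ?_⟩
    · have h5 := hnoline (negOrth d.QS * γ) (negOrth_mul_invol hγ) (by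
        rw [map_mul, detHom_negOrth, hev.neg_one_pow, one_mul])
      have h6 : neg (negOrth d.QS * γ) = pos γ := by
        ext e
        rw [mem_neg, mem_pos, orth_mul_apply, negOrth_apply, neg_inj]
      rw [h6] at h5
      omega
    · rw [show Module.finrank F A = i by omega]; exact h4
    · intro x hx e he
      rw [orth_mul_apply, d.liftS_t, d.liftL_t, mem_neg.1 (hAn hx), mem_pos.1 he, map_neg, LinearMap.neg_apply]
    · intro x hx e he
      rw [orth_mul_apply, d.liftS_t, d.liftL_t, mem_neg.1 (hAn hx), mem_neg.1 he]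
      simp

variable (hH : d.Over H) (hS : d.Small H) (hodd : Odd (Module.finrank F L))
  (hev : Even (Module.finrank F S))

include hH hS hodd hev in
/-- An element commuting with a proper involution of the first factor is a product. -/
theorem cent_split {z : orthGroup d.Q} (hz : z ∈ H) {α : orthGroup d.QL} (hα : α * α = 1)
    (h1 : 1 ≤ Module.finrank F (neg α)) (h2 : 1 ≤ Module.finrank F (pos α)) (hzc : Commute z (d.liftL α)) :
    d.IsT z := by
  have := finrank_pos_add_neg d.two hα
  have := (d.five fun h4 => absurd hodd (by rw [h4]; decide))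
  by_cases h : Module.finrank F (neg α) + 3 ≤ Module.finrank F L
  · exact inv_block hH hS hodd hev hz h1 h fun y hy e => commute_neg hα hzc (t_mem_TS hy e)
  · exact inv_block hH hS hodd hev hz h2 (by omega) fun y hy e => commute_pos hα hzc (t_mem_TS hy e)

include hH hS hodd hev in
/-- A small overgroup consists of products: the odd first factor. -/
theorem all_tens_small (hdet : ∀ g ∈ H, detHom d.Q g = 1) {g : orthGroup d.Q} (hg : g ∈ H) : d.IsT g := by
  classical
  have h5 := (d.five fun h4 => absurd hodd (by rw [h4]; decide))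
  have h3 := d.three
  have hrel := d.rel
  obtain ⟨u, v, -, hp, -⟩ := exists_sing_pair d.ndL (d.five fun h4 => absurd hodd (by rw [h4]; decide))
  set n := u + v with hn
  have hQn : d.QL n ≠ 0 := by rw [hn, qmap_pair_add hp]; exact one_ne_zero
  have hn0 : n ≠ 0 := fun h => hQn (by rw [h]; exact QuadraticMap.map_zero _)
  set z := g * d.liftL (refl d.QL n) * g⁻¹ with hz
  have hzH : z ∈ H := mul_mem (mul_mem hg (liftL_refl_mem hH hodd hev hQn)) (inv_mem hg)
  have hzz : z * z = 1 := conj_invol g (liftL_sq (refl_sq n))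
  have hrz : Module.finrank F (resid z) = Module.finrank F S := by
    rw [hz, resid_conj, LinearEquiv.finrank_map_eq, finrank_resid_refl hQn]
  have hz1 : z ≠ 1 := fun h => by rw [h, resid_one, finrank_bot] at hrz; omega
  have hzT : d.IsT z := by
    set ρ := pairInv d.QL u v with hρ
    set P := Submodule.span F ({u, v} : Set L) with hP
    have hρn : neg ρ = P := neg_pairInv d.two hp
    obtain ⟨c, hcH, hc1, hcc, hcz, hct, hcr, -⟩ := exists_comm hzH (pairInv_mem hH hodd hev hp) hzz
      (liftL_sq (pairInv_sq hp)) (by rw [hrz, finrank_resid_pair hp]; omega)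
    have hrt : resid (d.liftL ρ) = d.TS P := by rw [resid_liftL (pairInv_sq hp), hρn]
    rw [hrt] at hcr
    have hcP : ∀ x ∈ P, ∀ e, c.1 (d.t x e) ∈ d.TS P := fun x hx e => by
      rw [← hρn] at hx ⊢
      exact commute_neg (pairInv_sq hp) hct (t_mem_TS hx e)
    rcases split_cases hodd hev (cent_pair hH hS hodd hp hcH hct) hcc hc1 (hdet c hcH) (finrank_pair hp).le
      (pair_inf_orth hp) hcP hrz.le hcr with ⟨α, rfl, hα, h1, h2⟩ |
      ⟨α, γ, U, U', hcαγ, hU, hU', hdim, hαA, hneg, hpos⟩
    · exact cent_split hH hS hodd hev hzH hα h1 h2 hcz.symm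
    set A := (polB d.QL).orthogonal P with hA
    have hAd : Module.finrank F A + 2 = Module.finrank F L := by
      have := finrank_orth_add d.ndL P; rw [finrank_pair hp] at this; rw [hA]; omega
    have hdim2 : Module.finrank F A * 2 ≤ Module.finrank F A * Module.finrank F U := Nat.mul_le_mul le_rfl hU
    -- the moved space of the conjugate is negated
    set X := d.TP A U with hX
    have hXd : Module.finrank F X = Module.finrank F S := by
      rw [hX, finrank_TP]; omega
    have hXr : X ≤ resid c := TP_le fun x hx e he => mem_resid_of_neg (hneg x hx e he)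
    have hXP : X ⊓ d.TS P = ⊥ := eq_bot_iff.2 fun w hw => by
      rw [← TS_inf_orth (pair_inf_orth hp)]
      exact ⟨hw.2, TP_le_TS le_rfl hw.1⟩
    have e1 := Submodule.finrank_sup_add_finrank_inf_eq X (d.TS P)
    rw [hXP, finrank_bot, add_zero] at e1
    have e2 := Submodule.finrank_sup_add_finrank_inf_eq (resid z) (d.TS P)
    have hle : X ⊔ d.TS P ≤ resid z ⊔ d.TS P := sup_le (hXr.trans hcr) le_sup_right
    have e3 := Submodule.finrank_mono hle
    have heq : X ⊔ d.TS P = resid z ⊔ d.TS P := Submodule.eq_of_le_of_finrank_le hle (by omega)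
    have hbot : resid z ⊓ d.TS P = ⊥ := Submodule.finrank_eq_zero.1 (by omega)
    have hZneg : ∀ w ∈ resid z, c.1 w = -w := by
      intro w hw
      have hcw : c.1 w ∈ resid z := by
        obtain ⟨x, rfl⟩ := hw
        refine ⟨c.1 x, ?_⟩
        rw [resMap_apply, resMap_apply, map_sub, ← orth_mul_apply, ← orth_mul_apply, hcz.eq]
      obtain ⟨x, hx, y, hy, hxy⟩ := Submodule.mem_sup.1 (show w ∈ X ⊔ d.TS P by
        rw [heq]; exact Submodule.mem_sup_left hw)
      have hcx : c.1 x = -x := by
        have h : X ≤ LinearMap.ker ((c.1 : V →ₗ[F] V) + 1) := TP_le fun a ha e he => by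
          simp [hneg a ha e he]
        simpa [add_eq_zero_iff_eq_neg] using h hx
      have hin : c.1 w + w ∈ resid z ⊓ d.TS P := ⟨add_mem hcw hw, by
        rw [← hxy, map_add, hcx, show -x + c.1 y + (x + y) = c.1 y + y by abel]
        exact add_mem (map_TS hcP hy) hy⟩
      rw [hbot, Submodule.mem_bot] at hin
      exact eq_neg_of_add_eq_zero_left hin
    obtain ⟨k, hk1, hk2, hQk⟩ := exists_aniso_orth_pair d.ndL d.threeL hp
    have hkA : k ∈ A := mem_orth_pair.2 ⟨hk1, hk2⟩
    have hk0 : k ≠ 0 := fun h => hQk (by rw [h]; exact QuadraticMap.map_zero _)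
    set tk := d.liftL (refl d.QL k) with htk
    have hctk : Commute c tk := by
      have h1 : α * refl d.QL k = refl d.QL k * α := by
        rw [← mul_inv_eq_iff_eq_mul, refl_conj]
        rcases hαA with h | h <;> rw [h k hkA]
        exact refl_neg k
      rw [hcαγ]
      exact (Commute.map h1 d.liftL).mul_left (liftL_liftS_comm _ γ).symm
    haveI : Finite V := Module.finite_of_finite F
    haveI : Finite (orthGroup d.Q) := finite_orthGroup
    rcases dihedral hzz (liftL_sq (refl_sq k) : tk * tk = 1) with ⟨i, hi⟩ | ⟨i, hc'1, hc'c, hc'z, hc't⟩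
    · exfalso
      set y := (z * tk) ^ i with hy
      have hyc : Commute c y := (hcz.mul_right hctk).pow_right i
      obtain ⟨⟨e, he⟩, he0⟩ := Module.finrank_pos_iff_exists_ne_zero.1 (show 0 < Module.finrank F U' by omega)
      have hmem : y.1 (d.t k e) ∈ resid z := by
        rw [hi, resid_conj, resid_liftL (refl_sq k), neg_refl d.two hQk]
        exact Submodule.mem_map_of_mem (t_mem_TS (Submodule.mem_span_singleton_self k) e)
      have hw := hZneg _ hmem
      rw [← orth_mul_apply, hyc.eq, orth_mul_apply, hpos k hkA e he] at hw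
      have h2 : (2 : F) • y.1 (d.t k e) = 0 := by rw [two_smul]; exact eq_neg_iff_add_eq_zero.1 hw
      exact d.t_ne_zero hk0 (fun h => he0 (Subtype.ext h))
        (y.1.map_eq_zero_iff.1 ((smul_eq_zero.1 h2).resolve_left d.two))
    set c' := (z * tk) ^ i
    have hc'H : c' ∈ H := pow_mem (mul_mem hzH (liftL_refl_mem hH hodd hev hQk)) i
    have hc'P : ∀ x ∈ F ∙ k, ∀ e, c'.1 (d.t x e) ∈ d.TS (F ∙ k) := fun x hx e => by
      rw [← neg_refl d.two hQk] at hx ⊢
      exact commute_neg (refl_sq k) hc't (t_mem_TS hx e)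
    have hk1 : Module.finrank F (F ∙ k) = 1 := finrank_span_singleton hk0
    have hkn : (F ∙ k) ⊓ (polB d.QL).orthogonal (F ∙ k) = ⊥ := by
      rw [eq_bot_iff]
      rintro x ⟨hx, hx'⟩
      obtain ⟨s, rfl⟩ := Submodule.mem_span_singleton.1 hx
      have h := mem_orth_singleton.1 hx'
      rw [map_smul, smul_eq_mul, polB_self, mul_eq_zero, or_iff_left (mul_ne_zero d.two hQk)] at h
      simp [h]
    rcases split_cases hodd hev (inv_block hH hS hodd hev hc'H (by omega) (by omega) hc'P) hc'c hc'1
      (hdet c' hc'H) (by omega) hkn hc'P hrz.le ((resid_pow_le i).trans (by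
        rw [htk, resid_liftL (refl_sq k), neg_refl d.two hQk])) with
      ⟨α', hc'α, hα', h1, h2⟩ | ⟨-, -, U₁, -, -, hU₁, -, hdim₁, -, -, -⟩
    · rw [hc'α] at hc'z
      exact cent_split hH hS hodd hev hzH hα' h1 h2 hc'z.symm
    · exfalso
      have h1 := finrank_orth_add d.ndL (F ∙ k)
      have h2 := (Nat.mul_le_mul le_rfl hU₁).trans hdim₁
      omega
  -- the column of `n` goes to a column
  rcases split_cases hodd hev hzT hzz hz1 (hdet z hzH) (P := ⊥) (by simp) (by simp)
    (fun x hx e => by rw [(Submodule.mem_bot F).1 hx]; simp) hrz.le le_sup_left with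
    ⟨α, hzα, hα, -, -⟩ | ⟨-, -, U, -, -, hU, -, hdim, -, -, -⟩
  · have h1 : Module.finrank F (neg α) = 1 := by
      rw [hzα, resid_liftL hα, finrank_TS] at hrz
      exact Nat.eq_of_mul_eq_mul_right (show 0 < Module.finrank F S by omega) (hrz.trans (one_mul _).symm)
    refine map_block hH hS hg (R := F ∙ n) (R' := neg α) (by omega)
      (fun x hx hfix => fix_one hH hS hodd hev hx hQn (hfix (Submodule.mem_span_singleton_self n))) fun y hy e => ?_
    rw [← resid_liftL hα, ← hzα, hz, resid_conj, resid_liftL (refl_sq n), neg_refl d.two hQn]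
    exact Submodule.mem_map_of_mem (t_mem_TS hy e)
  · exfalso
    have h1 := finrank_orth_add d.ndL (⊥ : Submodule F L)
    rw [finrank_bot] at h1
    have h2 := (Nat.mul_le_mul le_rfl hU).trans hdim
    omega

end OS

end H98.TE
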