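import Cfsg.Agent.H98.TensEven.FourRow
import Cfsg.Agent.H98.TensEven.Small

/-!
Involutions of the product of a four-dimensional space without singular planes and a three-dimensional space.
-/

set_option autoImplicit false
set_option linter.unusedSectionVars false

namespace H98.TE

open H43 H98.TO
open scoped TensorProduct

variable {F : Type*} [Field F] [Finite F]
  {L : Type*} [AddCommGroup L] [Module F L] [FiniteDimensional F L]
  {S : Type*} [AddCommGroup S] [Module F S] [FiniteDimensional F S]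
  {V : Type*} [AddCommGroup V] [Module F V] [FiniteDimensional F V]

namespace OS

/-- The row of `k`. -/
def Row (d : OS F L S V) (k : S) : Submodule F V := LinearMap.range (d.t.flip k)

/-- The reflection of the second factor at `k`. -/
noncomputable def tau (d : OS F L S V) (k : S) : orthGroup d.Q := d.liftS (refl d.QS k)

variable {d : OS F L S V} {H : Subgroup (orthGroup d.Q)}

theorem mem_Row {k : S} {v : V} : v ∈ Row d k ↔ ∃ b, d.t b k = v := Iff.rfl

theorem finrank_Row {k : S} (hk : k ≠ 0) : Module.finrank F (Row d k) = Module.finrank F L :=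
  LinearMap.finrank_range_of_inj fun a b h => d.t_left_ne hk h

theorem tau_t (k : S) (a : L) (x : S) : (tau d k).1 (d.t a x) = d.t a ((refl d.QS k).1 x) := d.liftS_t _ a x

theorem tau_sq (k : S) : tau d k * tau d k = 1 := by rw [tau, ← map_mul, refl_sq, map_one]

theorem neg_tau {k : S} (hk : d.QS k ≠ 0) : neg (tau d k) = Row d k := by
  rw [← resid_invol d.two (tau_sq k)]
  refine le_antisymm ?_ ?_
  · rintro _ ⟨v, rfl⟩
    have h : (Row d k).mkQ ∘ₗ resMap (tau d k) = 0 := d.hom_ext fun a x => by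
      simp only [LinearMap.comp_apply, Submodule.mkQ_apply, LinearMap.zero_apply, Submodule.Quotient.mk_eq_zero,
        resMap_apply, tau_t, refl_apply, map_sub, map_smul, sub_sub_cancel]
      rw [(Submodule.Quotient.mk_eq_zero (Row d k)).2 (⟨a, rfl⟩ : d.t a k ∈ Row d k), smul_zero]
    simpa [Submodule.Quotient.mk_eq_zero] using LinearMap.congr_fun h v
  · rintro _ ⟨a, rfl⟩
    rw [resid_invol d.two (tau_sq k), mem_neg]
    show (tau d k).1 (d.t a k) = -d.t a k
    rw [tau_t, refl_self hk, map_neg]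

theorem resid_tau {k : S} (hk : d.QS k ≠ 0) : resid (tau d k) = Row d k := by
  rw [resid_invol d.two (tau_sq k), neg_tau hk]

theorem finrank_neg_tau {k : S} (hk : d.QS k ≠ 0) :
    Module.finrank F (neg (tau d k)) = Module.finrank F L := by
  rw [neg_tau hk, finrank_Row fun h => hk (by rw [h]; exact QuadraticMap.map_zero _)]

theorem polB_self_ne_of_orth {W : Type*} [AddCommGroup W] [Module F W] {Q : QuadraticForm F W} {m : ℕ}
    (hQ : (polB Q).Nondegenerate) (b : Module.Basis (Fin m) F W) (hb : ∀ i j, i ≠ j → polB Q (b i) (b j) = 0)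
    (i : Fin m) : polB Q (b i) (b i) ≠ 0 := fun h0 => by
  refine b.ne_zero i (hQ.1 _ fun z => ?_)
  have : polB Q (b i) = 0 := b.ext fun j => by
    by_cases hij : i = j
    · rw [← hij, h0, LinearMap.zero_apply]
    · rw [hb i j hij, LinearMap.zero_apply]
  rw [this, LinearMap.zero_apply]

theorem negOrth_sq {W : Type*} [AddCommGroup W] [Module F W] [FiniteDimensional F W] {Q : QuadraticForm F W} :
    negOrth Q * negOrth Q = 1 :=
  orth_ext fun x => by simp [orth_mul_apply, negOrth_apply, orth_one_apply]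

theorem liftS_negOrth : d.liftS (negOrth d.QS) = negOrth d.Q :=
  d.orth_ext' fun a x => by rw [d.liftS_t, negOrth_apply, negOrth_apply, map_neg]

/-- A reflection of the second factor as a product of reflections. -/
theorem tau_prod {k : S} (hk : d.QS k ≠ 0) {m : ℕ} (b : Module.Basis (Fin m) F L)
    (hb : ∀ i j, i ≠ j → polB d.QL (b i) (b j) = 0) :
    tau d k = (List.ofFn fun i => refl d.Q (d.t (b i) k)).prod := by
  have hne : ∀ i, polB d.QL (b i) (b i) ≠ 0 := fun i h0 => b.ne_zero i (d.ndL.1 _ fun z => by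
    have : polB d.QL (b i) = 0 := b.ext fun j => by
      by_cases hij : i = j
      · rw [← hij, h0, LinearMap.zero_apply]
      · rw [hb i j hij, LinearMap.zero_apply]
    rw [this, LinearMap.zero_apply])
  have key : ∀ (l : List (Fin m)), l.Nodup → ∀ x j,
      (l.map fun i => refl d.Q (d.t (b i) k)).prod.1 (d.t (b j) x) =
        if j ∈ l then d.t (b j) ((refl d.QS k).1 x) else d.t (b j) x := by
    intro l
    induction l with
    | nil => intro _ a j; simp [orth_one_apply]
    | cons i l ih =>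
      intro hnd x j
      rw [List.nodup_cons] at hnd
      rw [List.map_cons, List.prod_cons, orth_mul_apply, ih hnd.2]
      by_cases hij : j = i
      · subst hij
        rw [if_neg hnd.1, if_pos (List.mem_cons_self ..), refl_apply, d.f_t, d.Q_t, refl_apply, map_sub, map_smul]
        have h1 : d.QL (b j) ≠ 0 := fun h => hne j (by rw [polB_self, h, mul_zero])
        rw [polB_self]
        match_scalars <;> field_simp [d.two]
      · have hfix : ∀ x, (refl d.Q (d.t (b i) k)).1 (d.t (b j) x) = d.t (b j) x := fun x =>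
          refl_fix (by rw [d.f_t, hb j i hij, zero_mul])
        by_cases hjl : j ∈ l
        · rw [if_pos hjl, if_pos (List.mem_cons_of_mem _ hjl), hfix]
        · rw [if_neg hjl, if_neg (fun h => (List.mem_cons.1 h).elim hij hjl), hfix]
  refine d.orth_ext' fun a x => ?_
  have h1 : (tau d k).1.toLinearMap ∘ₗ d.t.flip x =
      ((List.ofFn fun i => refl d.Q (d.t (b i) k)).prod).1.toLinearMap ∘ₗ d.t.flip x := b.ext fun j => by
    rw [LinearMap.comp_apply, LinearMap.comp_apply, List.ofFn_eq_map]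
    show (tau d k).1 (d.t (b j) x) = _
    rw [tau_t]
    exact ((key _ (List.nodup_finRange m) x j).trans (if_pos (List.mem_finRange j))).symm
  exact LinearMap.congr_fun h1 a

variable (hH : d.Over H) (hS : d.Small H) (hl : Module.finrank F L = 4)

include hH hl in
/-- The reflections of the second factor lie in an overgroup. -/
theorem tau_mem {k : S} (hk : d.QS k ≠ 0) : tau d k ∈ H := by
  classical
  haveI := Fintype.ofFinite F
  have hchar : ringChar F ≠ 2 := fun h => d.two (by
    have := ringChar.Nat.cast_ringChar (R := F)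
    rw [h] at this
    exact_mod_cast this)
  obtain ⟨α, hα⟩ := FiniteField.exists_nonsquare hchar
  obtain ⟨b, hb, -, -⟩ := exists_orth_basis d.two (polB d.QL) ⟨fun x y => polB_comm x y⟩ d.ndL (n := 3) hl α hα
  obtain ⟨c, hc, -, -⟩ := exists_orth_basis d.two (polB d.QS) ⟨fun x y => polB_comm x y⟩ d.ndS (n := 2)
    (d.small hl).1 α hα
  have hb0 : ∀ i, d.QL (b i) ≠ 0 := fun i h0 => polB_self_ne_of_orth d.ndL b hb i (by rw [polB_self, h0, mul_zero])
  have hc0 : ∀ i, d.QS (c i) ≠ 0 := fun i h0 => polB_self_ne_of_orth d.ndS c hc i (by rw [polB_self, h0, mul_zero])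
  have hgen : ReflGenerates F V := reflGenerates_of_two_ne_zero d.two
  set P := ∏ i, ((Multiplicative.ofAdd 1, sqc (2 * d.QL (b i))) : Multiplicative (ZMod 2) × SqClass F) with hP
  have hinv : ∀ k, d.QS k ≠ 0 → invHom d.nd hgen (tau d k) = P := by
    intro k hk
    rw [tau_prod hk b hb, map_list_prod, List.map_ofFn, List.prod_ofFn]
    have e : ∀ i, invHom d.nd hgen (refl d.Q (d.t (b i) k)) =
        ((1, sqc (d.QS k)) : Multiplicative (ZMod 2) × SqClass F) *
          (Multiplicative.ofAdd 1, sqc (2 * d.QL (b i))) := fun i => by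
      have h1 : d.Q (d.t (b i) k) = d.QS k * (2 * d.QL (b i)) := by rw [d.Q_t]; ring
      have h2 : 2 * d.QL (b i) ≠ 0 := mul_ne_zero d.two (hb0 i)
      rw [invHom_refl d.nd hgen (by rw [h1]; exact mul_ne_zero hk h2), h1, sqc_mul hk h2, Prod.mk_mul_mk, one_mul]
    simp only [Function.comp_def, e]
    rw [Finset.prod_mul_distrib, Finset.prod_const, Finset.card_univ, Fintype.card_fin]
    have hsq : ((1, sqc (d.QS k)) : Multiplicative (ZMod 2) × SqClass F) ^ (3 + 1) = 1 := by
      rw [show 3 + 1 = 2 + 2 from rfl, pow_add, ← mul_pow, Prod.mk_mul_mk, one_mul, sqClass_mul_self,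
        Prod.mk_one_one, one_pow]
    rw [hsq, one_mul]
  have hPP : P * P = 1 := by rw [← hinv k hk, ← map_mul, tau_sq, map_one]
  have hneg : negOrth d.Q = tau d (c 0) * tau d (c 1) * tau d (c 2) := by
    rw [← liftS_negOrth, tau, tau, tau, ← map_mul, ← map_mul]
    congr 1
    refine Subtype.ext (LinearEquiv.toLinearMap_injective (c.ext fun j => ?_))
    show (negOrth d.QS).1 (c j) = (refl d.QS (c 0) * refl d.QS (c 1) * refl d.QS (c 2)).1 (c j)
    rw [negOrth_apply, orth_mul_apply, orth_mul_apply]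
    fin_cases j
    · simp only [Fin.zero_eta, refl_fix (hc 0 2 (by decide)), refl_fix (hc 0 1 (by decide)), refl_self (hc0 0)]
    · simp only [Fin.mk_one, refl_fix (hc 1 2 (by decide)), refl_self (hc0 1), map_neg,
        refl_fix (hc 1 0 (by decide))]
    · show -c 2 = (refl d.QS (c 0)).1 ((refl d.QS (c 1)).1 ((refl d.QS (c 2)).1 (c 2)))
      simp only [refl_self (hc0 2), map_neg, refl_fix (hc 2 1 (by decide)), refl_fix (hc 2 0 (by decide))]
  have hmem : negOrth d.Q * tau d k ∈ commutator (orthGroup d.Q) := by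
    rw [commutator_eq_invKer d.nd hgen (by rw [d.finrank_eq, hl, (d.small hl).1]; omega), MonoidHom.mem_ker,
      hneg, map_mul, map_mul, map_mul, hinv _ (hc0 0), hinv _ (hc0 1), hinv _ (hc0 2), hinv k hk, hPP, one_mul,
      hPP]
  have hT : d.IsT (negOrth d.Q * tau d k) := by
    rw [← liftS_negOrth]
    exact (d.liftS_isT _).mul (d.liftS_isT _)
  have := H.mul_mem hH.neg_mem (hH.tens_mem _ hT hmem)
  rwa [← mul_assoc, negOrth_sq, one_mul] at this

include hH hS hl in
/-- Elements commuting with a reflection of the second factor are products. -/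
theorem cent_tau {k : S} (hk : d.QS k ≠ 0) {h : orthGroup d.Q} (hh : h ∈ H) (hc : Commute h (tau d k)) :
    d.IsT h := by
  refine row_map hH hS hl hk hk hh fun a => ?_
  have hmem : d.t a k ∈ neg (tau d k) := by rw [neg_tau hk]; exact ⟨a, rfl⟩
  have h1 : h.1 (d.t a k) ∈ neg (tau d k) := by
    rw [mem_neg, ← orth_mul_apply, ← hc.eq, orth_mul_apply, mem_neg.1 hmem, map_neg]
  rw [neg_tau hk] at h1
  obtain ⟨b, hb⟩ := h1
  exact ⟨b, hb.symm⟩

/-- A product maps a row onto one of the same class. -/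
theorem row_class (hs : Odd (Module.finrank F S)) {g : orthGroup d.Q} (hg : d.IsT g) {e f : S}
    (he : d.QS e ≠ 0) (hrow : ∀ a, ∃ b, g.1 (d.t a e) = d.t b f) :
    ∃ r : F, d.QS f = r * r * d.QS e := by
  obtain ⟨a, c, hac⟩ := hg
  obtain ⟨u, hu0, hu⟩ := exists_sing d.ndL d.threeL
  obtain ⟨u', hp⟩ := exists_hypPair d.ndL hu hu0
  set k := polB d.QL (a u) (a u')
  have hcs : ∀ x y, k * polB d.QS (c x) (c y) = polB d.QS x y := fun x y => by
    rw [isom_factors hac, hp.pair, one_mul]
  obtain ⟨e₁, e₂, -, h12⟩ := exists_bS_one (d := d)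
  have hk0 : k ≠ 0 := fun h => by
    have := hcs e₁ e₂
    rw [h, zero_mul, h12] at this
    exact zero_ne_one this
  obtain ⟨r, hr⟩ := simil_square d.ndS hs c.toLinearMap (inv_ne_zero hk0) fun x y => by
    show polB d.QS (c x) (c y) = _
    rw [← hcs x y, ← mul_assoc, inv_mul_cancel₀ hk0, one_mul]
  obtain ⟨z, hz⟩ := d.exists_B_one (show a u ≠ 0 from fun h => hu0 (a.map_eq_zero_iff.1 h))
  obtain ⟨b, hb⟩ := hrow u
  have hce : c e = polB d.QL b z • f := by
    have h := congrArg (d.C z) hb
    rwa [hac, d.tens_t, d.C_t, d.C_t, hz, one_smul] at h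
  set s := polB d.QL b z
  have h1 := hcs e e
  rw [hce, map_smul, map_smul, LinearMap.smul_apply, polB_self, polB_self, smul_eq_mul, smul_eq_mul] at h1
  have hs0 : s ≠ 0 := fun h0 => by
    rw [h0] at h1
    exact he ((mul_eq_zero.1 (show (2 : F) * d.QS e = 0 by linear_combination -h1)).resolve_left d.two)
  have h2 : d.QS f * (s * s) = r * r * d.QS e := by
    refine mul_left_cancel₀ d.two ?_
    rw [← hr]
    field_simp at h1 ⊢
    linear_combination h1
  refine ⟨r / s, ?_⟩
  field_simp
  linear_combination h2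

/-- Involutory products, with the second factor odd-dimensional. -/
theorem invol_factors' (hodd : Odd (Module.finrank F S)) {g : orthGroup d.Q} (hg : d.IsT g) (hgg : g * g = 1) :
    ∃ (α : orthGroup d.QL) (γ : orthGroup d.QS), g = d.liftL α * d.liftS γ ∧ α * α = 1 ∧ γ * γ = 1 := by
  obtain ⟨a, c, hac⟩ := hg
  obtain ⟨u, hu0, hu⟩ := exists_sing d.ndL d.threeL
  obtain ⟨u', hp⟩ := exists_hypPair d.ndL hu hu0
  obtain ⟨e₁, e₂, he₁, he₁₂⟩ := exists_bS_one (d := d)
  set k := polB d.QL (a u) (a u') with hk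
  have hcs : ∀ e e', k * polB d.QS (c e) (c e') = polB d.QS e e' := fun e e' => by
    rw [hk, isom_factors hac, hp.pair, one_mul]
  have hk0 : k ≠ 0 := fun h0 => by
    have h := hcs e₁ e₂
    rw [h0, zero_mul, he₁₂] at h
    exact zero_ne_one h
  have has : ∀ x y, polB d.QL (a x) (a y) = k * polB d.QL x y := fun x y => by
    have h2 := hcs e₁ e₂
    have h3 := isom_factors hac x y e₁ e₂
    rw [he₁₂] at h2 h3
    linear_combination k * h3 - polB d.QL (a x) (a y) * h2
  obtain ⟨r, hr⟩ := simil_square d.ndS hodd c.toLinearMap (inv_ne_zero hk0) fun x y => by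
    show polB d.QS (c x) (c y) = _
    rw [← hcs x y, ← mul_assoc, inv_mul_cancel₀ hk0, one_mul]
  have hr0 : r ≠ 0 := fun h => inv_ne_zero hk0 (by rw [hr, h, mul_zero])
  have hrk : r * r * k = 1 := by rw [← hr, inv_mul_cancel₀ hk0]
  let γ : orthGroup d.QS := ⟨c ≪≫ₗ LinearEquiv.smulOfNeZero F S r⁻¹ (inv_ne_zero hr0), fun e => by
    show d.QS (r⁻¹ • c e) = d.QS e
    refine mul_left_cancel₀ d.two ?_
    rw [qmap_smul, mul_left_comm, ← polB_self, ← polB_self, ← hcs e e]
    field_simp
    linear_combination (-polB d.QS (c e) (c e)) * hrk⟩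
  let α : orthGroup d.QL := ⟨a ≪≫ₗ LinearEquiv.smulOfNeZero F L r hr0, fun x => by
    show d.QL (r • a x) = d.QL x
    refine mul_left_cancel₀ d.two ?_
    rw [qmap_smul, mul_left_comm, ← polB_self, ← polB_self, has]
    linear_combination polB d.QL x x * hrk⟩
  have hg' : g = d.liftL α * d.liftS γ := d.orth_ext' fun x e => by
    rw [orth_mul_apply, d.liftS_t, d.liftL_t, hac, d.tens_t]
    show d.t (a x) (c e) = d.t (r • a x) (r⁻¹ • c e)
    rw [map_smul (d.t (r • a x)), map_smul, LinearMap.smul_apply, smul_smul, inv_mul_cancel₀ hr0, one_smul]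
  have hsq : ∀ x e, d.t (α.1 (α.1 x)) (γ.1 (γ.1 e)) = d.t x e := fun x e => by
    have h : (g * g).1 (d.t x e) = d.t x e := by rw [hgg]; rfl
    rwa [hg', orth_mul_apply, orth_mul_apply, orth_mul_apply, d.liftS_t, d.liftL_t, d.liftS_t, d.liftL_t] at h
  obtain ⟨z, hz⟩ := d.exists_B_one (show α.1 (α.1 u) ≠ 0 by simpa using hu0)
  set lam := polB d.QL u z
  have hγ2 : ∀ e, γ.1 (γ.1 e) = lam • e := fun e => by
    have h := congrArg (d.C z) (hsq u e)
    rwa [d.C_t, d.C_t, hz, one_smul] at h
  have hlam : lam * lam = 1 := by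
    have h : polB d.QS (γ.1 (γ.1 e₁)) (γ.1 (γ.1 e₂)) = 1 := by rw [orth_polB_map, orth_polB_map, he₁₂]
    rw [hγ2, hγ2] at h
    simpa [he₁₂] using h
  have hlam1 : lam = 1 := by
    refine (mul_self_eq_one_iff.1 hlam).resolve_right fun hneg => ?_
    obtain ⟨x, hx, hx0⟩ := exists_ker_skew d.ndS d.two hodd γ.1.toLinearMap fun x y => by
      show polB d.QS (γ.1 x) y = -polB d.QS x (γ.1 y)
      rw [← orth_polB_map γ (γ.1 x) y, hγ2, hneg]
      simp
    exact hx (γ.1.map_eq_zero_iff.1 hx0)
  refine ⟨α, γ, hg', orth_ext fun x => ?_, orth_ext fun e => ?_⟩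
  · have h := hsq x e₁
    rw [hγ2, hlam1, one_smul] at h
    rw [orth_mul_apply, orth_one_apply]
    exact d.t_left_ne he₁ h
  · rw [orth_mul_apply, hγ2, hlam1, one_smul, orth_one_apply]

theorem detHom_of_invol {W : Type*} [AddCommGroup W] [Module F W] [FiniteDimensional F W] {Q : QuadraticForm F W}
    (hQ : (polB Q).Nondegenerate) (h2 : (2 : F) ≠ 0) (h4 : Module.finrank F W = 4) {α : orthGroup Q}
    (hα : α * α = 1) (hdet : detHom Q α = 1) :
    Module.finrank F (neg α) = 0 ∨ Module.finrank F (neg α) = 2 ∨ Module.finrank F (neg α) = 4 := by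
  have h := finrank_pos_add_neg h2 hα
  have hne : (-1 : Fˣ) ≠ 1 := fun h => h2 (by
    rw [Units.ext_iff, Units.val_neg, Units.val_one] at h
    linear_combination -h)
  have h1 : Module.finrank F (neg α) ≠ 1 := fun h1 => hne (by rw [← det_of_line hQ h2 hα h1, hdet])
  have h3 : Module.finrank F (pos α) ≠ 1 := fun h3 => by
    have e : neg (negOrth Q * α) = pos α := by
      ext x
      rw [mem_neg, mem_pos, orth_mul_apply, negOrth_apply, neg_inj]
    refine hne (((det_of_line hQ h2 (negOrth_mul_invol hα) (by rw [e, h3])).symm.trans ?_))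
    rw [map_mul, detHom_negOrth, hdet, h4, mul_one]
    exact Even.neg_one_pow (by decide)
  omega

/-- An involution of the mixed type. -/
def Mixed (d : OS F L S V) (c : orthGroup d.Q) : Prop :=
  ∃ (α : orthGroup d.QL) (γ : orthGroup d.QS), c = d.liftL α * d.liftS γ ∧ α * α = 1 ∧ γ * γ = 1 ∧
    Module.finrank F (neg α) = 2 ∧ Module.finrank F (pos α) = 2

include hl in
/-- The involutory products of determinant one. -/
theorem invol_cases {c : orthGroup d.Q} (hcT : d.IsT c) (hcc : c * c = 1) (hdet : detHom d.Q c = 1) :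
    c = 1 ∨ c = negOrth d.Q ∨ (∃ v, d.QS v ≠ 0 ∧ (c = tau d v ∨ c = negOrth d.Q * tau d v)) ∨ Mixed d c := by
  have hs3 := (d.small hl).1
  obtain ⟨α, γ, rfl, hα, hγ⟩ := invol_factors' (by rw [hs3]; decide) hcT hcc
  have hdα : detHom d.QL α = 1 := by
    have hS4 : detHom d.Q (d.liftS γ) = 1 := by
      rw [detHom_liftS, hl]
      rcases detHom_cases d.ndS γ with h | h <;> rw [h]
      · exact one_pow 4
      · exact Even.neg_one_pow (by decide)
    have h3 : detHom d.Q (d.liftL α) = detHom d.QL α ^ 3 := by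
      classical
      apply Units.ext
      rw [coe_detHom, Units.val_pow_eq_pow_val, coe_detHom,
        show ((d.liftL α).1 : V →ₗ[F] V) = d.Φ.toLinearMap ∘ₗ
          TensorProduct.map (α.1 : L →ₗ[F] L) LinearMap.id ∘ₗ d.Φ.symm.toLinearMap from rfl, LinearMap.det_conj]
      let bL := Module.finBasis F L
      let bS := Module.finBasis F S
      rw [← LinearMap.det_toMatrix (bL.tensorProduct bS), TensorProduct.toMatrix_map, Matrix.det_kronecker,
        LinearMap.toMatrix_id, Matrix.det_one, one_pow, mul_one, LinearMap.det_toMatrix, Fintype.card_fin, hs3]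
    rw [map_mul, h3, hS4, mul_one] at hdet
    rcases detHom_cases d.ndL α with h | h
    · exact h
    · rw [h, Units.ext_iff] at hdet
      simp only [Units.val_pow_eq_pow_val, Units.val_neg, Units.val_one] at hdet
      exact absurd (show (2 : F) = 0 by linear_combination -hdet) d.two
  have hpn := finrank_pos_add_neg d.two hα
  -- pure elements of the second factor
  have pure : ∀ δ : orthGroup d.QS, δ * δ = 1 → d.liftS δ = 1 ∨ d.liftS δ = negOrth d.Q ∨
      ∃ v, d.QS v ≠ 0 ∧ (d.liftS δ = tau d v ∨ d.liftS δ = negOrth d.Q * tau d v) := by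
    intro δ hδ
    have hd := finrank_pos_add_neg d.two hδ
    have hline : ∀ ε : orthGroup d.QS, ε * ε = 1 → Module.finrank F (neg ε) = 1 →
        ∃ v, d.QS v ≠ 0 ∧ ε = refl d.QS v := fun ε hε h => by
      obtain ⟨v, hv, e⟩ := eq_refl_of_finrank_one d.ndS ε (by rw [resid_invol d.two hε]; exact h)
      exact ⟨v, hv, e⟩
    have e : neg (negOrth d.QS * δ) = pos δ := by
      ext x
      rw [mem_neg, mem_pos, orth_mul_apply, negOrth_apply, neg_inj]
    obtain h | h | h | h : Module.finrank F (neg δ) = 0 ∨ Module.finrank F (neg δ) = 1 ∨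
        Module.finrank F (neg δ) = 2 ∨ Module.finrank F (neg δ) = 3 := by omega
    · left
      rw [eq_one_of_resid_eq_bot (g := δ) (by rw [resid_invol d.two hδ]; exact Submodule.finrank_eq_zero.1 h),
        map_one]
    · obtain ⟨v, hv, rfl⟩ := hline δ hδ h
      exact Or.inr (Or.inr ⟨v, hv, Or.inl rfl⟩)
    · obtain ⟨v, hv, hev⟩ := hline _ (negOrth_mul_invol hδ) (by rw [e]; omega)
      refine Or.inr (Or.inr ⟨v, hv, Or.inr ?_⟩)
      rw [← liftS_negOrth, tau, ← map_mul, ← hev, ← mul_assoc, negOrth_sq, one_mul]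
    · right; left
      have htop : neg δ = ⊤ := Submodule.eq_top_of_finrank_eq (by omega)
      rw [← liftS_negOrth]
      congr 1
      exact orth_ext fun x => by
        rw [negOrth_apply]
        exact mem_neg.1 (htop ▸ Submodule.mem_top)
  rcases detHom_of_invol d.ndL d.two hl hα hdα with h | h | h
  · rw [eq_one_of_resid_eq_bot (g := α) (by rw [resid_invol d.two hα]; exact Submodule.finrank_eq_zero.1 h),
      map_one, one_mul]
    rcases pure γ hγ with h | h | h
    exacts [Or.inl h, Or.inr (Or.inl h), Or.inr (Or.inr (Or.inl h))]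
  · exact Or.inr (Or.inr (Or.inr ⟨α, γ, rfl, hα, hγ, h, by omega⟩))
  · have htop : neg α = ⊤ := Submodule.eq_top_of_finrank_eq (by omega)
    have e : d.liftL α * d.liftS γ = d.liftS (negOrth d.QS * γ) := d.orth_ext' fun x y => by
      rw [orth_mul_apply, d.liftS_t, d.liftL_t, d.liftS_t, orth_mul_apply, negOrth_apply, map_neg,
        mem_neg.1 (show x ∈ neg α by rw [htop]; trivial), map_neg, LinearMap.neg_apply]
    rw [e]
    rcases pure _ (negOrth_mul_invol hγ) with h | h | h
    exacts [Or.inl h, Or.inr (Or.inl h), Or.inr (Or.inr (Or.inl h))]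

include hl in
/-- A mixed involution moves at least six dimensions. -/
theorem mixed_six {c : orthGroup d.Q} (hc : Mixed d c) : 6 ≤ Module.finrank F (neg c) := by
  obtain ⟨α, γ, rfl, hα, hγ, h1, h2⟩ := hc
  have hs3 := (d.small hl).1
  have hd := finrank_pos_add_neg d.two hγ
  have hX₁ : d.TP (neg α) (pos γ) ≤ neg (d.liftL α * d.liftS γ) := TP_le fun x hx e he => by
    rw [mem_neg, orth_mul_apply, d.liftS_t, d.liftL_t, mem_neg.1 hx, mem_pos.1 he, map_neg, LinearMap.neg_apply]
  have hX₂ : d.TP (pos α) (neg γ) ≤ neg (d.liftL α * d.liftS γ) := TP_le fun x hx e he => by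
    rw [mem_neg, orth_mul_apply, d.liftS_t, d.liftL_t, mem_pos.1 hx, mem_neg.1 he, map_neg]
  have hX : d.TP (neg α) (pos γ) ⊓ d.TP (pos α) (neg γ) = ⊥ := eq_bot_iff.2 fun v hv => (Submodule.mem_bot F).2
    (TS_pos_neg (TP_le_TS le_rfl hv.2) (TP_le_TS le_rfl hv.1))
  have h := Submodule.finrank_sup_add_finrank_inf_eq (d.TP (neg α) (pos γ)) (d.TP (pos α) (neg γ))
  rw [hX, finrank_bot, add_zero, finrank_TP, finrank_TP, h1, h2] at h
  have := Submodule.finrank_mono (sup_le hX₁ hX₂)
  omega

/-- Negation preserves the mixed type. -/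
theorem mixed_negOrth {c : orthGroup d.Q} (hc : Mixed d c) : Mixed d (negOrth d.Q * c) := by
  obtain ⟨α, γ, rfl, hα, hγ, h1, h2⟩ := hc
  have e1 : neg (negOrth d.QL * α) = pos α := by
    ext x
    rw [mem_neg, mem_pos, orth_mul_apply, negOrth_apply, neg_inj]
  have e2 : pos (negOrth d.QL * α) = neg α := by
    ext x
    exact mem_pos_negOrth
  exact ⟨negOrth d.QL * α, γ, by rw [map_mul, d.liftL_negOrth, mul_assoc], negOrth_mul_invol hα, hγ,
    by rw [e1, h2], by rw [e2, h1]⟩

/-- A mixed involution commuting with a reflection fixes a plane of its row. -/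
theorem mixed_row {c : orthGroup d.Q} (hc : Mixed d c) {f : S} (hf : d.QS f ≠ 0) (hcf : Commute c (tau d f)) :
    2 ≤ Module.finrank F (pos c ⊓ Row d f : Submodule F V) := by
  obtain ⟨α, γ, rfl, hα, hγ, h1, h2⟩ := hc
  have hf0 : f ≠ 0 := fun h => hf (by rw [h]; exact QuadraticMap.map_zero _)
  -- `f` is an eigenvector
  have hγf : γ.1 f = f ∨ γ.1 f = -f := by
    obtain ⟨x, hx0, -⟩ := exists_sing d.ndL d.threeL
    have hmem : d.t x f ∈ neg (tau d f) := by rw [neg_tau hf]; exact ⟨x, rfl⟩
    have h : (d.liftL α * d.liftS γ).1 (d.t x f) ∈ neg (tau d f) := by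
      rw [mem_neg, ← orth_mul_apply, ← hcf.eq, orth_mul_apply, mem_neg.1 hmem, map_neg]
    rw [neg_tau hf, orth_mul_apply, d.liftS_t, d.liftL_t] at h
    obtain ⟨b, hb⟩ := h
    obtain ⟨z, hz⟩ := d.exists_B_one (show α.1 x ≠ 0 by simpa using hx0)
    have hγ1 := congrArg (d.C z) hb
    rw [LinearMap.flip_apply, d.C_t, d.C_t, hz, one_smul] at hγ1
    have hsq := invol_apply hγ f
    rw [← hγ1, map_smul, ← hγ1, smul_smul] at hsq
    have h5 : (polB d.QL b z * polB d.QL b z - 1) • f = 0 := by rw [sub_smul, hsq, one_smul, sub_self]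
    have h6 := sub_eq_zero.1 ((smul_eq_zero.1 h5).resolve_right hf0)
    rcases mul_self_eq_one_iff.1 h6 with h | h
    · left; rw [← hγ1, h, one_smul]
    · right; rw [← hγ1, h, neg_one_smul]
  obtain ⟨R, hR, hfix⟩ : ∃ R : Submodule F L, Module.finrank F R = 2 ∧
      ∀ x ∈ R, (d.liftL α * d.liftS γ).1 (d.t x f) = d.t x f := by
    rcases hγf with h | h
    · exact ⟨pos α, h2, fun x hx => by rw [orth_mul_apply, d.liftS_t, d.liftL_t, h, mem_pos.1 hx]⟩
    · exact ⟨neg α, h1, fun x hx => by
        rw [orth_mul_apply, d.liftS_t, d.liftL_t, h, mem_neg.1 hx]; simp⟩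
  rw [← hR, (Submodule.equivMapOfInjective (d.t.flip f) (fun a b h => d.t_left_ne hf0 h) R).finrank_eq]
  refine Submodule.finrank_mono ?_
  rintro _ ⟨x, hx, rfl⟩
  exact ⟨mem_pos.2 (hfix x hx), ⟨x, rfl⟩⟩

end OS

end H98.TE
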