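import Cfsg.Agent.H98.TensEven.Block
import Cfsg.Agent.H79.CoprimeGen
import Mathlib.GroupTheory.Sylow

/-!
The rows of the three-dimensional factor when the first factor is four-dimensional without singular planes: an
element of a small overgroup mapping a row onto a row is a product.
-/

set_option autoImplicit false
set_option linter.unusedSectionVars false

namespace H98.TE

open H43 H98.TO
open scoped TensorProduct Pointwise

variable {F : Type*} [Field F] [Finite F]
  {L : Type*} [AddCommGroup L] [Module F L] [FiniteDimensional F L]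
  {S : Type*} [AddCommGroup S] [Module F S] [FiniteDimensional F S]
  {V : Type*} [AddCommGroup V] [Module F V] [FiniteDimensional F V]

/-- A finite `p`-group normalising a subgroup of order divisible by `p` centralises one of its nontrivial
`p`-elements. -/
theorem exists_fixed_pelem {G : Type*} [Group G] [Finite G] {p : ℕ} [Fact p.Prime] {U K : Subgroup G}
    (hU : IsPGroup p U) (hUK : U ≤ Subgroup.normalizer (K : Set G)) (hdvd : p ∣ Nat.card K) :
    ∃ f ∈ K, f ≠ 1 ∧ (∃ k : ℕ, f ^ (p ^ k) = 1) ∧ ∀ x ∈ U, x * f = f * x := by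
  classical
  letI : MulDistribMulAction U K :=
    MulDistribMulAction.compHom K ((Subgroup.normalizerMonoidHom K).comp (Subgroup.inclusion hUK))
  have hsm : ∀ (u : U) (k : K), ((u • k : K) : G) = (u : G) * k * (u : G)⁻¹ := fun u k => rfl
  obtain ⟨P, hP⟩ := hU.nonempty_fixed_point_of_prime_not_dvd_card (Sylow p K) (not_dvd_card_sylow p K)
  have hPinv : ∀ (u : U) (x : K), x ∈ (P : Subgroup K) → u • x ∈ (P : Subgroup K) := fun u x hx => by
    have h := congrArg (fun R : Sylow p K => (R : Subgroup K)) (hP u)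
    have h' : u • x ∈ u • (P : Subgroup K) := Subgroup.smul_mem_pointwise_smul x u _ hx
    rwa [← h]
  letI : MulAction U (P : Subgroup K) :=
    { smul := fun u x => ⟨u • (x : K), hPinv u x x.2⟩
      one_smul := fun x => Subtype.ext (one_smul U (x : K))
      mul_smul := fun u v x => Subtype.ext (mul_smul u v (x : K)) }
  have hpP : p ∣ Nat.card (P : Subgroup K) := P.dvd_card_of_dvd_card hdvd
  obtain ⟨f, hfix, hf1⟩ := hU.exists_fixed_point_of_prime_dvd_card_of_fixed_point (α := (P : Subgroup K)) hpP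
    (a := 1) (fun u => Subtype.ext (smul_one u))
  obtain ⟨k, hk⟩ := P.isPGroup' f
  refine ⟨((f : K) : G), (f : K).2, fun h => hf1 (Subtype.ext (Subtype.ext h)).symm, ⟨k, ?_⟩, fun x hx => ?_⟩
  · exact congrArg (fun y : (P : Subgroup K) => ((y : K) : G)) hk
  · have h : ((⟨x, hx⟩ : U) • (f : K) : K) = f := congrArg Subtype.val (hfix ⟨x, hx⟩)
    have h' := congrArg (fun y : K => (y : G)) h
    simp only [hsm] at h'
    exact mul_inv_eq_iff_eq_mul.1 h'

namespace OS

variable {d : OS F L S V} {H : Subgroup (orthGroup d.Q)}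

/-- The product group, as a subgroup. -/
def TT (d : OS F L S V) : Subgroup (orthGroup d.Q) where
  carrier := {g | d.IsT g}
  one_mem' := d.isT_one
  mul_mem' := fun {_ _} h h' => h.mul h'
  inv_mem' := fun {_} h => h.inv

theorem mem_TT {g : orthGroup d.Q} : g ∈ TT d ↔ d.IsT g := Iff.rfl

/-- The subgroup fixing a row pointwise. -/
def fixRow (d : OS F L S V) (H : Subgroup (orthGroup d.Q)) (k : S) : Subgroup (orthGroup d.Q) where
  carrier := {h | h ∈ H ∧ ∀ a, h.1 (d.t a k) = d.t a k}
  one_mem' := ⟨one_mem H, fun a => rfl⟩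
  mul_mem' := fun {g h} hg hh => ⟨mul_mem hg.1 hh.1, fun a => by rw [orth_mul_apply, hh.2, hg.2]⟩
  inv_mem' := fun {g} hg => ⟨inv_mem hg.1, fun a => by
    conv_lhs => rw [← hg.2 a, orth_inv_apply_self]⟩

theorem mem_fixRow {h : orthGroup d.Q} {k : S} :
    h ∈ fixRow d H k ↔ h ∈ H ∧ ∀ a, h.1 (d.t a k) = d.t a k := Iff.rfl

/-- The square of a Siegel element minus one recovers the column. -/
theorem commute_sg_column {u w : L} (hu : d.QL u = 0) (hu0 : u ≠ 0) (huw : polB d.QL u w = 0)
    (hQ : d.QL w ≠ 0) {h : orthGroup d.Q} (hc : Commute h (d.sg u w)) (e : S) :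
    h.1 (d.t u e) ∈ d.W u := by
  obtain ⟨u', hp⟩ := exists_hypPair d.ndL hu hu0
  let Y₀ : V →ₗ[F] V := ((d.sg u w).1 : V →ₗ[F] V) - 1
  have hY₀ : ∀ v, Y₀ (Y₀ v) = (-(2 * d.QL w)) • d.t u (d.C u v) := fun v => by
    have h1 : ∀ e, Y₀ (d.t u e) = 0 := fun e => by
      show (d.sg u w).1 (d.t u e) - d.t u e = 0
      rw [(d.sg_qel u w hu huw).fixW, sub_self]
    have h2 : ∀ e, Y₀ (d.t w e) = (-(2 * d.QL w)) • d.t u e := fun e => by
      show (d.sg u w).1 (d.t w e) - d.t w e = _
      rw [d.sg_t hu huw, polB_comm w u, huw, polB_self]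
      simp
    show Y₀ ((d.sg u w).1 v - v) = _
    rw [d.sg_apply hu huw]
    simp only [map_add, map_sub, map_smul, h1, h2, smul_zero, sub_zero, zero_sub]
    abel
  have hcY : ∀ v, Y₀ (h.1 v) = h.1 (Y₀ v) := fun v => by
    show (d.sg u w).1 (h.1 v) - h.1 v = h.1 ((d.sg u w).1 v - v)
    rw [map_sub, ← orth_mul_apply, ← hc.eq, orth_mul_apply]
  have h1 : h.1 (Y₀ (Y₀ (d.t u' e))) ∈ d.W u := by
    rw [← hcY, ← hcY, hY₀]
    exact Submodule.smul_mem _ _ (d.t_mem_W _ _)
  rw [hY₀, d.C_t, hp.symm.pair, one_smul, map_smul] at h1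
  exact ((d.W u).smul_mem_iff (neg_ne_zero.2 (mul_ne_zero d.two hQ))).1 h1

/-- A product fixing a row pointwise comes from the second factor. -/
theorem eq_liftS_of_fix {g : orthGroup d.Q} (hg : d.IsT g) {k : S} (hk : k ≠ 0)
    (hfix : ∀ a, g.1 (d.t a k) = d.t a k) : ∃ γ : orthGroup d.QS, g = d.liftS γ ∧ γ.1 k = k := by
  obtain ⟨a, c, hac⟩ := hg
  obtain ⟨z, hz⟩ := exists_polB_eq d.ndS (show c k ≠ 0 from fun h => hk (c.map_eq_zero_iff.1 h)) 1
  set r := polB d.QS k z
  have har : ∀ x, a x = r • x := fun x => by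
    have h := congrArg (d.D z) (hfix x)
    rwa [hac, d.tens_t, d.D_t, d.D_t, hz, one_smul] at h
  obtain ⟨u, hu0, hu⟩ := exists_sing d.ndL d.threeL
  obtain ⟨u', hp⟩ := exists_hypPair d.ndL hu hu0
  have hr0 : r ≠ 0 := fun h => hu0 (by
    have := har u
    rw [h, zero_smul] at this
    exact a.map_eq_zero_iff.1 this)
  have hg' : ∀ x e, g.1 (d.t x e) = d.t x (r • c e) := fun x e => by
    rw [hac, d.tens_t, har, map_smul, LinearMap.smul_apply, map_smul]
  let γ : orthGroup d.QS := ⟨c ≪≫ₗ LinearEquiv.smulOfNeZero F S r hr0, fun e => by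
    show d.QS (r • c e) = d.QS e
    refine mul_left_cancel₀ d.two ?_
    rw [← polB_self, ← polB_self]
    have h := orth_polB_map g (d.t u e) (d.t u' e)
    rwa [hg', hg', d.f_t, d.f_t, hp.pair, one_mul, one_mul] at h⟩
  refine ⟨γ, d.orth_ext' fun x e => by rw [hg', d.liftS_t]; rfl, ?_⟩
  show r • c k = k
  exact d.t_injective hu0 (by rw [← hg', hfix])

/-- No unipotent isometry of a three-dimensional space fixes an anisotropic vector. -/
theorem unipotent_fix_aniso (hs : Module.finrank F S = 3) {γ : orthGroup d.QS} {k : S} (hk : d.QS k ≠ 0)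
    (hfix : γ.1 k = k) {m : ℕ} (hnil : ((γ.1 : S →ₗ[F] S) - 1) ^ m = 0) : γ = 1 := by
  set N := (γ.1 : S →ₗ[F] S) - 1 with hN
  have hNk : N k = 0 := by simp [hN, hfix]
  have hk0 : k ≠ 0 := fun h => hk (by rw [h]; exact QuadraticMap.map_zero _)
  have hle : LinearMap.range N ≤ (polB d.QS).orthogonal (F ∙ k) := by
    rintro _ ⟨x, rfl⟩
    rw [mem_orth_singleton, show N x = γ.1 x - x by simp [hN], map_sub]
    conv_lhs => arg 1; rw [← hfix]
    rw [orth_polB_map, sub_self]
  have h2 : Module.finrank F ((polB d.QS).orthogonal (F ∙ k)) = 2 := by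
    have := finrank_orth_add d.ndS (F ∙ k)
    rw [finrank_span_singleton hk0, hs] at this
    exact Nat.add_right_cancel (m := 1) this
  have h1 := rank_ne_one d.ndS d.two γ m hnil
  rw [← hN] at h1
  suffices h0 : N = 0 by
    refine orth_ext fun x => ?_
    have := LinearMap.congr_fun h0 x
    simpa [hN, sub_eq_zero, orth_one_apply] using this
  by_contra hne
  have hr : LinearMap.range N = (polB d.QS).orthogonal (F ∙ k) := by
    refine Submodule.eq_of_le_of_finrank_le hle ?_
    have h0 : Module.finrank F (LinearMap.range N) ≠ 0 := fun h =>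
      hne (LinearMap.range_eq_bot.1 (Submodule.finrank_eq_zero.1 h))
    omega
  -- the image is mapped onto itself
  have honto : LinearMap.range N ≤ (LinearMap.range N).map N := by
    rintro _ ⟨x, rfl⟩
    refine ⟨x - (polB d.QS k x / (2 * d.QS k)) • k, ?_, ?_⟩
    · rw [hr, SetLike.mem_coe, mem_orth_singleton, map_sub, map_smul, polB_self, smul_eq_mul,
        div_mul_cancel₀ _ (mul_ne_zero d.two hk), sub_self]
    · rw [map_sub, map_smul, hNk, smul_zero, sub_zero]
  have hall : ∀ i : ℕ, LinearMap.range N ≤ (LinearMap.range N).map (N ^ i) := by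
    intro i
    induction i with
    | zero => rw [pow_zero, Module.End.one_eq_id, Submodule.map_id]
    | succ i ih =>
      refine honto.trans ((Submodule.map_mono ih).trans ?_)
      rw [← Submodule.map_comp, ← Module.End.mul_eq_comp, ← pow_succ']
  have := hall m
  rw [hnil, Submodule.map_zero, le_bot_iff] at this
  exact hne (LinearMap.range_eq_bot.1 this)

variable (hH : d.Over H) (hS : d.Small H) (hl : Module.finrank F L = 4)

include hH hS hl in
/-- An element of a small overgroup fixing a row pointwise is a product. -/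
theorem fix_row {k : S} (hk : d.QS k ≠ 0) {h : orthGroup d.Q} (hh : h ∈ H)
    (hfix : ∀ a, h.1 (d.t a k) = d.t a k) : d.IsT h := by
  classical
  haveI := Fintype.ofFinite F
  obtain ⟨hs3, hts, -⟩ := d.small hl
  obtain ⟨p, hpc⟩ := CharP.exists F
  haveI := hpc
  haveI : Fact p.Prime := ⟨CharP.char_is_prime F p⟩
  have hk0 : k ≠ 0 := fun h0 => hk (by rw [h0]; exact QuadraticMap.map_zero _)
  haveI : Finite V := Module.finite_of_finite F
  haveI : Finite (orthGroup d.Q) := finite_orthGroup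
  obtain ⟨u, hu0, hu⟩ := exists_sing d.ndL d.threeL
  obtain ⟨u', hp⟩ := exists_hypPair d.ndL hu hu0
  set A := (polB d.QL).orthogonal (Submodule.span F ({u, u'} : Set L)) with hA
  have hAd : Module.finrank F A = 2 := by
    have := finrank_orth_add d.ndL (Submodule.span F ({u, u'} : Set L))
    rw [finrank_pair hp, hl] at this
    exact Nat.add_right_cancel (m := 2) this
  have haniso : ∀ z ∈ A, z ≠ 0 → d.QL z ≠ 0 := fun z hz hz0 hQz => by
    obtain ⟨z1, z2⟩ := mem_orth_pair.1 hz
    obtain ⟨s, rfl⟩ := Submodule.mem_span_singleton.1 (hts u z hu hQz z1 hu0)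
    rw [map_smul, hp.symm.pair, smul_eq_mul, mul_one] at z2
    exact hz0 (by rw [z2, zero_smul])
  have huA : ∀ z : A, polB d.QL u (z : L) = 0 := fun z => (mem_orth_pair.1 z.2).1
  let ρ : Multiplicative A →* orthGroup d.Q :=
    { toFun := fun m => d.sg u (m.toAdd : L)
      map_one' := by
        show d.sg u (0 : L) = 1
        rw [sg, eichler_zero hu, map_one]
      map_mul' := fun m m' => by
        show d.sg u ((m.toAdd : L) + (m'.toAdd : L)) = d.sg u (m.toAdd : L) * d.sg u (m'.toAdd : L)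
        rw [d.sg_mul hu (huA _) (huA _)] }
  have hρinj : Function.Injective ρ := by
    refine (injective_iff_map_eq_one ρ).2 fun m hm => ?_
    by_contra hm1
    have hne : (m.toAdd : L) ≠ 0 := fun h0 => hm1 (Subtype.ext h0 : m.toAdd = 0)
    have hnotin : (m.toAdd : L) ∉ F ∙ u := fun hmem => by
      obtain ⟨s, hs⟩ := Submodule.mem_span_singleton.1 hmem
      exact haniso _ m.toAdd.2 hne (by rw [← hs, qmap_smul, hu, mul_zero])
    have h2 := sg_rank hu (huA m.toAdd) hnotin hu0
    have hm' : d.sg u (m.toAdd : L) = 1 := hm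
    rw [hm', show (((1 : orthGroup d.Q).1 : V →ₗ[F] V) - 1) = 0 from LinearMap.ext fun v => by
      simp [orth_one_apply], LinearMap.range_zero, finrank_bot] at h2
    omega
  set U := ρ.range with hUdef
  haveI : IsMulCommutative U := ⟨⟨fun x y => Subtype.ext (by
    obtain ⟨⟨_, a, rfl⟩, ⟨_, b, rfl⟩⟩ := x, y
    show ρ a * ρ b = ρ b * ρ a
    rw [← map_mul, ← map_mul, mul_comm])⟩⟩
  have hexp : ∀ x ∈ U, x ^ p = 1 := by
    rintro _ ⟨m, rfl⟩
    show d.sg u (m.toAdd : L) ^ p = 1
    rw [sg_pow hu (huA _), CharP.cast_eq_zero, zero_smul, sg, eichler_zero hu, map_one]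
  have hUp : IsPGroup p U := fun x => ⟨1, Subtype.ext (by simpa using hexp x x.2)⟩
  have hnc : ¬ IsCyclic U := by
    intro hc
    obtain ⟨g, hg⟩ := hc.exists_generator
    have h1 : Nat.card U = orderOf g := (orderOf_eq_card_of_forall_mem_zpowers hg).symm
    have h2 : orderOf g ≤ p := orderOf_le_of_pow_eq_one (Fact.out : p.Prime).pos
      (Subtype.ext (by simpa using hexp g g.2))
    have h3 : Nat.card U = Nat.card F ^ 2 := by
      rw [hUdef, ← Nat.card_congr (MonoidHom.ofInjective hρinj).toEquiv,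
        Nat.card_congr Multiplicative.toAdd, Module.natCard_eq_pow_finrank (K := F), hAd]
    have h4 : p ≤ Nat.card F := by
      obtain ⟨n, -, hn⟩ := FiniteField.card F p
      rw [Nat.card_eq_fintype_card, hn]
      exact Nat.le_self_pow (by positivity) p
    have h5 : 2 ≤ p := (Fact.out : p.Prime).two_le
    nlinarith
  have hnorm : U ≤ Subgroup.normalizer (fixRow d H k : Set (orthGroup d.Q)) := by
    suffices hconj : ∀ b ∈ U, ∀ x ∈ fixRow d H k, b * x * b⁻¹ ∈ fixRow d H k by
      intro b hb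
      rw [Subgroup.mem_normalizer_iff]
      exact fun x => ⟨hconj b hb x, fun hx => by simpa [mul_assoc] using hconj b⁻¹ (U.inv_mem hb) _ hx⟩
    rintro _ ⟨m, rfl⟩ x hx
    obtain ⟨hxH, hxf⟩ := hx
    have hmH : ρ m ∈ H := hH.sg_mem hu (huA m.toAdd)
    refine ⟨mul_mem (mul_mem hmH hxH) (inv_mem hmH), fun a => ?_⟩
    have e : ∃ b, ((ρ m)⁻¹).1 (d.t a k) = d.t b k := by
      refine ⟨((eichler d.QL u (m.toAdd : L))⁻¹).1 a, ?_⟩
      show ((d.liftL (eichler d.QL u (m.toAdd : L)))⁻¹).1 (d.t a k) = _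
      rw [← map_inv, d.liftL_t]
    obtain ⟨b, hb⟩ := e
    rw [orth_mul_apply, orth_mul_apply, hb, hxf, ← hb, orth_apply_inv_self]
  have hcent : ∀ x ∈ U, x ≠ 1 → fixRow d H k ⊓ Subgroup.centralizer ({x} : Set (orthGroup d.Q)) ≤ TT d := by
    rintro _ ⟨m, rfl⟩ hm1 f ⟨⟨hfH, -⟩, hfc⟩
    have hne : (m.toAdd : L) ≠ 0 := fun h0 => hm1 (by
      show d.sg u (m.toAdd : L) = 1
      rw [h0, sg, eichler_zero hu, map_one])
    refine stab hH hS hu hu0 hfH fun e => commute_sg_column hu hu0 (huA m.toAdd) (haniso _ m.toAdd.2 hne) ?_ e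
    exact (Subgroup.mem_centralizer_singleton_iff.1 hfc)
  have hcop : (Nat.card (fixRow d H k)).Coprime p := by
    rw [Nat.coprime_comm, (Fact.out : p.Prime).coprime_iff_not_dvd]
    intro hdvd
    obtain ⟨f, ⟨hfH, hff⟩, hf1, ⟨i, hi⟩, hfU⟩ := exists_fixed_pelem hUp hnorm hdvd
    obtain ⟨⟨z, hz⟩, hz0⟩ := Module.finrank_pos_iff_exists_ne_zero.1 (show 0 < Module.finrank F A by omega)
    have hfT : d.IsT f := by
      refine stab hH hS hu hu0 hfH fun e => commute_sg_column hu hu0 (huA ⟨z, hz⟩)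
        (haniso z hz fun h0 => hz0 (Subtype.ext h0)) ?_ e
      exact (hfU _ ⟨Multiplicative.ofAdd ⟨z, hz⟩, rfl⟩).symm
    obtain ⟨γ, rfl, hγ⟩ := eq_liftS_of_fix hfT hk0 hff
    refine hf1 ?_
    have hnil : ((γ.1 : S →ₗ[F] S) - 1) ^ (p ^ i) = 0 := by
      haveI : Nontrivial S := ⟨⟨k, 0, hk0⟩⟩
      haveI : CharP (Module.End F S) p := charP_of_injective_algebraMap (algebraMap F (Module.End F S)).injective p
      rw [sub_pow_char_pow_of_commute (p := p) (n := i) (Commute.one_right _), one_pow, sub_eq_zero]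
      refine LinearMap.ext fun e => ?_
      have hpow : ∀ n : ℕ, ∀ e, ((γ.1 : S →ₗ[F] S) ^ n) e = (γ ^ n).1 e := by
        intro n
        induction n with
        | zero => intro e; rfl
        | succ n ih => intro e; rw [pow_succ', pow_succ', Module.End.mul_apply, ih]; rfl
      rw [hpow]
      have := congrArg (fun g : orthGroup d.Q => g.1 (d.t u e)) hi
      simp only [← map_pow, d.liftS_t, orth_one_apply] at this
      exact d.t_injective hu0 this
    rw [unipotent_fix_aniso hs3 hk hγ hnil, map_one]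
  exact H79.le_of_centralizers_le hexp hnc hnorm hcop hcent ⟨hh, hfix⟩

include hH hS hl in
/-- An element of a small overgroup mapping an anisotropic row onto one is a product. -/
theorem row_map {e k : S} (he : d.QS e ≠ 0) (hk : d.QS k ≠ 0) {h : orthGroup d.Q} (hh : h ∈ H)
    (hrow : ∀ a, ∃ b, h.1 (d.t a e) = d.t b k) : d.IsT h := by
  classical
  obtain ⟨-, hts, -⟩ := d.small hl
  have hB : polB d.QS k k ≠ 0 := by rw [polB_self]; exact mul_ne_zero d.two hk
  have hk0 : k ≠ 0 := fun h0 => hk (by rw [h0]; exact QuadraticMap.map_zero _)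
  let η : L →ₗ[F] L := (polB d.QS k k)⁻¹ • (d.D k ∘ₗ h.1.toLinearMap ∘ₗ d.t.flip e)
  have hη : ∀ a, h.1 (d.t a e) = d.t (η a) k := fun a => by
    obtain ⟨b, hb⟩ := hrow a
    have : η a = b := by
      show (polB d.QS k k)⁻¹ • d.D k (h.1 (d.t a e)) = b
      rw [hb, d.D_t, smul_smul, inv_mul_cancel₀ hB, one_smul]
    rw [this, hb]
  set μ := d.QS e / d.QS k with hμ
  have hμ0 : μ ≠ 0 := div_ne_zero he hk
  have hηB : ∀ a b, polB d.QL (η a) (η b) = μ * polB d.QL a b := fun a b => by
    have h1 := orth_polB_map h (d.t a e) (d.t b e)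
    rw [hη, hη, d.f_t, d.f_t, polB_self, polB_self] at h1
    refine mul_left_cancel₀ (mul_ne_zero d.two hk) ?_
    rw [hμ]
    field_simp at h1 ⊢
    linear_combination h1
  have hηinj : Function.Injective η := (injective_iff_map_eq_zero η).2 fun x hx => d.ndL.1 x fun y => by
    have := hηB x y
    rw [hx, map_zero, LinearMap.zero_apply, eq_comm, mul_eq_zero] at this
    exact this.resolve_left hμ0
  have hηsurj : Function.Surjective η := LinearMap.injective_iff_surjective.1 hηinj
  have hηQ : ∀ a, d.QL (η a) = μ * d.QL a := fun a => mul_left_cancel₀ d.two (by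
    rw [← polB_self, hηB, polB_self]; ring)
  obtain ⟨u, hu0, hu⟩ := exists_sing d.ndL d.threeL
  obtain ⟨u', hp⟩ := exists_hypPair d.ndL hu hu0
  obtain ⟨w, hw, hw', hQw⟩ := exists_aniso_orth_pair d.ndL d.threeL hp
  have hwu : w ∉ F ∙ u := fun hmem => by
    obtain ⟨s, rfl⟩ := Submodule.mem_span_singleton.1 hmem
    exact hQw (by rw [qmap_smul, hu, mul_zero])
  set u'' := μ⁻¹ • η u with hu''
  have hu2 : d.QL u'' = 0 := by rw [hu'', qmap_smul, hηQ, hu, mul_zero, mul_zero]
  have huw2 : polB d.QL u'' (η w) = 0 := by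
    rw [hu'', map_smul, LinearMap.smul_apply, hηB, hw, mul_zero, smul_zero]
  set x := h * d.sg u w * h⁻¹ with hx
  have hxH : x ∈ H := mul_mem (mul_mem hh (hH.sg_mem hu hw)) (inv_mem hh)
  have hxt : ∀ a, x.1 (d.t a k) = (d.liftL (eichler d.QL u'' (η w))).1 (d.t a k) := by
    intro a
    obtain ⟨b, rfl⟩ := hηsurj a
    rw [d.liftL_t, eichler_apply hu2 huw2, hx, orth_mul_apply, orth_mul_apply, ← hη, orth_inv_apply_self, sg,
      d.liftL_t, hη, eichler_apply hu hw]
    simp only [hu'', map_add, map_sub, map_smul, smul_eq_mul, LinearMap.smul_apply, LinearMap.add_apply,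
      LinearMap.sub_apply, hηB, hηQ]
    match_scalars <;> field_simp
  have hbH : d.liftL (eichler d.QL u'' (η w)) ∈ H := hH.sg_mem hu2 huw2
  have hy := fix_row hH hS hl hk (mul_mem (inv_mem hbH) hxH) fun a => by
    rw [orth_mul_apply, hxt, orth_inv_apply_self]
  have hxT : d.IsT x := by
    have := (d.liftL_isT (eichler d.QL u'' (η w))).mul hy
    rwa [mul_inv_cancel_left] at this
  exact root_conj hH hS hh hu hw hwu hu0 hxT

end OS

end H98.TE
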