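import Cfsg.Agent.H98.TensEven.Step

/-!
A small overgroup consists of products when the first factor is the larger one.
-/

set_option autoImplicit false
set_option linter.unusedSectionVars false

namespace H98.TE

open H43 H98.TO

variable {F : Type*} [Field F] [Finite F]
  {L : Type*} [AddCommGroup L] [Module F L] [FiniteDimensional F L]
  {S : Type*} [AddCommGroup S] [Module F S] [FiniteDimensional F S]
  {V : Type*} [AddCommGroup V] [Module F V] [FiniteDimensional F V]

namespace OS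

variable {d : OS F L S V} {H : Subgroup (orthGroup d.Q)}

/-- Conjugates of long Siegel elements are skew on singular columns. -/
theorem skew_of_root (g : orthGroup d.Q) {u₀ w₀ : L} (hu₀ : d.QL u₀ = 0) (hw₀ : d.QL w₀ = 0)
    (h₀ : polB d.QL u₀ w₀ = 0) {u : L} (hu : d.QL u = 0) (e e' : S) :
    polB d.Q ((g * d.sg u₀ w₀ * g⁻¹).1 (d.t u e)) (d.t u e') =
      -polB d.Q ((g * d.sg u₀ w₀ * g⁻¹).1 (d.t u e')) (d.t u e) := by
  have key : ∀ e e', polB d.Q ((g * d.sg u₀ w₀ * g⁻¹).1 (d.t u e)) (d.t u e') =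
      polB d.QS (d.C u₀ ((g⁻¹).1 (d.t u e))) (d.C w₀ ((g⁻¹).1 (d.t u e'))) -
      polB d.QS (d.C w₀ ((g⁻¹).1 (d.t u e))) (d.C u₀ ((g⁻¹).1 (d.t u e'))) := fun e e' => by
    conv_lhs => rw [orth_mul_apply, orth_mul_apply, ← orth_apply_inv_self g (d.t u e'), orth_polB_map]
    have h : polB d.Q ((g⁻¹).1 (d.t u e)) ((g⁻¹).1 (d.t u e')) = 0 := by
      rw [orth_polB_map, d.f_t, polB_self_zero hu, zero_mul]
    rw [d.sg_apply hu₀ h₀, hw₀, zero_smul, sub_zero]
    simp only [map_add, map_sub, LinearMap.add_apply, LinearMap.sub_apply, h, zero_add]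
    rw [polB_comm (d.t w₀ _) _, polB_comm (d.t u₀ _) _, ← d.b_C', ← d.b_C']
  rw [key, key, polB_comm (d.C u₀ ((g⁻¹).1 (d.t u e'))), polB_comm (d.C w₀ ((g⁻¹).1 (d.t u e')))]
  ring

/-- A small overgroup consists of products: the large first factor. -/
theorem all_tens_large (hH : d.Over H) (hS : d.Small H) (hgap : Module.finrank F S + 3 ≤ Module.finrank F L)
    (hodd : Odd (Module.finrank F S)) {g : orthGroup d.Q} (hg : g ∈ H) : d.IsT g := by
  classical
  by_contra hgT
  obtain ⟨u, u', w₀, hp, hw₀, -, h₀, -, hw₀u⟩ := exists_sing_pair d.ndL (d.five (by have := d.three; omega))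
  have hu := hp.left
  have hu0 := hp.left_ne_zero
  set b := g * d.sg u w₀ * g⁻¹ with hb
  have hbm : b ∈ H := mul_mem (mul_mem hg (hH.sg_mem hu h₀)) (inv_mem hg)
  have hbT : ¬ d.IsT b := fun h => hgT (root_conj hH hS hg hu h₀ hw₀u hu0 h)
  obtain ⟨e, he, hxu⟩ := exists_ker_skew d.ndS d.two hodd (d.C u ∘ₗ b.1.toLinearMap ∘ₗ d.t u) fun x y => by
    show polB d.QS (d.C u (b.1 (d.t u x))) y = -polB d.QS x (d.C u (b.1 (d.t u y)))
    rw [d.b_C, d.b_C']
    exact skew_of_root g hu hw₀ h₀ hu x y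
  set x := b.1 (d.t u e) with hx
  set K := LinearMap.ker (d.Cl x) with hK
  obtain ⟨k, hkK, huk, hku⟩ : ∃ k ∈ K, polB d.QL u k = 0 ∧ k ∉ F ∙ u := by
    by_contra hcon
    push Not at hcon
    have h1 := (d.Cl x).finrank_range_add_finrank_ker
    have h2 : Module.finrank F (LinearMap.range (d.Cl x)) ≤ Module.finrank F S := Submodule.finrank_le _
    let φ : K →ₗ[F] F := polB d.QL u ∘ₗ K.subtype
    have h3 := φ.finrank_range_add_finrank_ker
    have h4 : Module.finrank F (LinearMap.range φ) ≤ 1 := (Submodule.finrank_le _).trans (by simp)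
    have h5 : Module.finrank F ((LinearMap.ker φ).map K.subtype) ≤ 1 := by
      rw [← finrank_span_singleton (K := F) hu0]
      refine Submodule.finrank_mono ?_
      rintro _ ⟨k, hk, rfl⟩
      exact hcon k k.2 hk
    rw [← (Submodule.equivMapOfInjective _ K.injective_subtype (LinearMap.ker φ)).finrank_eq] at h5
    have h6 : Module.finrank F K = Module.finrank F (LinearMap.ker (d.Cl x)) := rfl
    omega
  have hsgx : (d.sg u k).1 x = x := by
    rw [d.sg_apply hu huk, show d.C u x = 0 from hxu, show d.C k x = 0 from hkK]; simp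
  have hstep : d.IsT (b⁻¹ * d.sg u k * b) :=
    step hH hS hgap (mul_mem (mul_mem (inv_mem hbm) (hH.sg_mem hu huk)) hbm) hu hu0 hu hu0 he (by
      rw [orth_mul_apply, orth_mul_apply, ← hx, hsgx, hx, orth_inv_apply_self]
      exact d.t_mem_W _ _)
  have := root_conj hH hS (inv_mem hbm) hu huk hku hu0 (by rwa [inv_inv])
  exact hbT (by simpa using this.inv)

end OS

end H98.TE
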