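import Cfsg.Agent.H98.TensEven.Ctr
import Cfsg.Agent.H98.TensEven.Large
import Cfsg.Agent.H98.TensEven.Small
import Cfsg.Agent.H49.TensSpMax
import Cfsg.Agent.H43.Bridge
import Cfsg.Agent.H43.Disc
import Cfsg.Agent.H45.OrthTransfer

/-!
The stabiliser of a decomposition of an even-dimensional orthogonal space of minus type as a tensor product of an
odd-dimensional and an even-dimensional space is maximal.
-/

set_option autoImplicit false
set_option linter.unusedSectionVars false

namespace H98.TE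

open H43 H98.TO
open scoped commutatorElement Matrix Kronecker TensorProduct

namespace OS

variable {F : Type*} [Field F] [Finite F]
  {L : Type*} [AddCommGroup L] [Module F L] [FiniteDimensional F L]
  {S : Type*} [AddCommGroup S] [Module F S] [FiniteDimensional F S]
  {V : Type*} [AddCommGroup V] [Module F V] [FiniteDimensional F V]

/-- An element of `Ω` which is not a product. -/
theorem exists_not_isT (d : OS F L S V) : ∃ g ∈ commutator (orthGroup d.Q), ¬ d.IsT g := by
  classical
  haveI := Fintype.ofFinite F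
  obtain ⟨p, hp⟩ := CharP.exists F
  haveI := hp
  haveI : Fact p.Prime := ⟨CharP.char_is_prime F p⟩
  have h5 : 5 ≤ Module.finrank F V := by
    rw [d.finrank_eq]
    have h1 := d.four
    have h2 := d.three
    exact le_trans (by omega) (Nat.mul_le_mul h1 h2)
  obtain ⟨u, u', w, hp', hw, hw0, huw, hu'w, -⟩ := exists_sing_pair d.nd h5
  refine ⟨eichler d.Q u w, eichler_mem_comm d.nd d.two (by omega) hp'.left huw, fun hT => ?_⟩
  have hpow : ∀ n : ℕ, eichler d.Q u w ^ n = eichler d.Q u ((n : F) • w) := by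
    intro n
    induction n with
    | zero => rw [pow_zero, Nat.cast_zero, zero_smul, eichler_zero hp'.left]
    | succ n ih =>
      rw [pow_succ, ih, eichler_mul hp'.left (by rw [map_smul, huw, smul_zero]) huw, Nat.cast_succ, add_smul,
        one_smul]
  have h1 : eichler d.Q u w ^ p = 1 := by rw [hpow, CharP.cast_eq_zero, zero_smul, eichler_zero hp'.left]
  have hr : Module.finrank F (LinearMap.range (((eichler d.Q u w).1 : V →ₗ[F] V) - 1)) ≤ 2 := by
    refine (Submodule.finrank_mono (t := Submodule.span F ({u, w} : Set V)) ?_).trans ?_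
    · rintro _ ⟨v, rfl⟩
      show (eichler d.Q u w).1 v - v ∈ _
      rw [eichler_apply hp'.left huw]
      refine Submodule.mem_span_pair.2
        ⟨-polB d.Q v w - d.Q w * polB d.Q v u, polB d.Q v u, ?_⟩
      module
    · have := finrank_span_finset_le_card (R := F) ({u, w} : Finset V)
      rw [Set.finrank, Finset.coe_insert, Finset.coe_singleton] at this
      exact this.trans Finset.card_le_two
  have hs := d.three
  obtain ⟨a, ha, hle⟩ := small_rank p hT h1 (by omega) fun r hr2 heq => by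
    have := Nat.mul_le_mul d.four hr2
    omega
  have h0 : Module.finrank F (LinearMap.range ((a.1 : L →ₗ[F] L) - 1)) = 0 := by
    by_contra hne
    have h2 := Nat.mul_le_mul (Nat.one_le_iff_ne_zero.2 hne) hs
    omega
  have ha1 : a = 1 := orth_ext fun x => by
    have h2 := LinearMap.range_eq_bot.1 (Submodule.finrank_eq_zero.1 h0)
    have := LinearMap.congr_fun h2 x
    simpa [sub_eq_zero, orth_one_apply] using this
  have h2 := congrArg (fun g : orthGroup d.Q => g.1 u') ha
  simp only [ha1, map_one, orth_one_apply, eichler_apply hp'.left huw, hp'.symm.pair, hw, hu'w, one_smul,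
    zero_smul, sub_zero, zero_mul] at h2
  exact hw0 (by simpa using h2)

/-- A subgroup of `Ω` above the product group is the product group or `Ω`. -/
theorem overgroup_cases (d : OS F L S V) {K : Subgroup (orthGroup d.Q)}
    (hK : K ≤ commutator (orthGroup d.Q)) (hev : Even (Module.finrank F V))
    (hcase : ∀ H : Subgroup (orthGroup d.Q), d.Over H → d.Small H → (∀ g ∈ H, detHom d.Q g = 1) →
      ∀ g ∈ H, d.IsT g)
    (ht : ∀ g, d.IsT g → g ∈ commutator (orthGroup d.Q) → g ∈ K) :
    (∀ g ∈ K, d.IsT g) ∨ commutator (orthGroup d.Q) ≤ K := by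
  classical
  set ε := negOrth d.Q with hε
  have hεc : ∀ g : orthGroup d.Q, ε * g = g * ε := negOrth_central
  have hεε : ε * ε = 1 := orth_ext fun x => by simp [hε, orth_mul_apply, negOrth_apply, orth_one_apply]
  let H : Subgroup (orthGroup d.Q) :=
    { carrier := {g | g ∈ K ∨ ε * g ∈ K}
      one_mem' := Or.inl (one_mem K)
      mul_mem' := fun {a b} ha hb => by
        rcases ha with ha | ha <;> rcases hb with hb | hb
        · exact Or.inl (mul_mem ha hb)
        · refine Or.inr ?_
          rw [← mul_assoc, hεc a, mul_assoc]; exact mul_mem ha hb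
        · refine Or.inr ?_
          rw [← mul_assoc]; exact mul_mem ha hb
        · refine Or.inl ?_
          have := mul_mem ha hb
          rwa [mul_assoc, ← mul_assoc a, ← hεc a, mul_assoc, ← mul_assoc ε ε, hεε, one_mul] at this
      inv_mem' := fun {a} ha => by
        rcases ha with ha | ha
        · exact Or.inl (inv_mem ha)
        · refine Or.inr ?_
          have := inv_mem ha
          rwa [mul_inv_rev, inv_eq_of_mul_eq_one_right hεε, ← hεc] at this }
  have hH : d.Over H := ⟨fun g hg hg' => Or.inl (ht g hg hg'), Or.inr (by rw [hεε]; exact one_mem K)⟩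
  by_cases hS : d.Small H
  · refine Or.inl fun g hg => hcase H hH hS (fun x hx => ?_) g (Or.inl hg)
    have hdet : ∀ y ∈ K, detHom d.Q y = 1 := fun y hy =>
      ((mem_commutator_iff_odd d.nd d.two (le_trans (by omega) (le_of_le_of_eq
        (Nat.mul_le_mul d.four d.three) d.finrank_eq.symm)) y).1 (hK hy)).1
    rcases hx with hx | hx
    · exact hdet x hx
    · have h := hdet _ hx
      rwa [map_mul, detHom_negOrth, hev.neg_one_pow, one_mul] at h
  refine Or.inr ?_
  have h5 : 5 ≤ Module.finrank F V := by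
    rw [d.finrank_eq]
    have h1 := d.four
    have h2 := d.three
    exact le_trans (by omega) (Nat.mul_le_mul h1 h2)
  have hle := le_of_not_small hH hS
  have hsimp : ∀ a b : orthGroup d.Q, ⁅ε * a, b⁆ = ⁅a, b⁆ := fun a b => by
    rw [commutatorElement_def, commutatorElement_def, mul_inv_rev, inv_eq_of_mul_eq_one_right hεε, ← hεc a⁻¹,
      ← mul_assoc (ε * a * b) ε, ← hεc (ε * a * b), mul_assoc ε a b, ← mul_assoc ε ε, hεε, one_mul]
  rw [← commutator_perfect d.nd h5]
  refine (Subgroup.commutator_mono hle hle).trans (Subgroup.commutator_le.2 fun a ha b hb => ?_)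
  have hK : ∀ x y, x ∈ K → y ∈ K → ⁅x, y⁆ ∈ K := fun x y hx hy => by
    rw [commutatorElement_def]; exact mul_mem (mul_mem (mul_mem hx hy) (inv_mem hx)) (inv_mem hy)
  have hflip : ∀ a b : orthGroup d.Q, ⁅a, ε * b⁆ = ⁅a, b⁆ := fun a b => by
    rw [← inv_inj, commutatorElement_inv, commutatorElement_inv, hsimp]
  rcases ha with ha | ha <;> rcases hb with hb | hb
  · exact hK _ _ ha hb
  · rw [← hflip]; exact hK _ _ ha hb
  · rw [← hsimp]; exact hK _ _ ha hb
  · rw [← hsimp, ← hflip]; exact hK _ _ ha hb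

/-- Maximality in matrix terms. -/
theorem maximal_gl {F : Type*} [Field F] [Finite F] {L : Type*} [AddCommGroup L] [Module F L]
    [FiniteDimensional F L] {S : Type*} [AddCommGroup S] [Module F S] [FiniteDimensional F S] {n : ℕ}
    (d : OS F L S (Fin n → F)) (heven : Even n)
    (hcase : ∀ H : Subgroup (orthGroup d.Q), d.Over H → d.Small H → (∀ g ∈ H, detHom d.Q g = 1) →
      ∀ g ∈ H, d.IsT g)
    (M₀ : Subgroup (Matrix.GeneralLinearGroup (Fin n) F))
    (hiff : ∀ g, g ∈ M₀ ↔ ∃ a b, glEquiv g = d.tens a b) :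
    Cfsg.Geo.IsMaximalIn (Cfsg.Geo.omegaGL ⇑d.Q) (M₀ ⊓ Cfsg.Geo.omegaGL ⇑d.Q) := by
  classical
  have hΩ : ∀ g, g ∈ Cfsg.Geo.omegaGL ⇑d.Q ↔
      ∃ h ∈ commutator (orthGroup d.Q), h.1 = glEquiv g := by
    intro g
    constructor
    · rintro ⟨k, hk, rfl⟩
      exact ⟨toOrth _ k, (mem_Omega_iff k).1 hk, rfl⟩
    · rintro ⟨h, hh, he⟩
      refine ⟨(toOrth d.Q).symm h, (mem_Omega_iff _).2 (by rwa [MulEquiv.apply_symm_apply]), ?_⟩
      exact glEquiv.injective (by rw [← he]; exact glEquiv.apply_symm_apply h.1)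
  refine ⟨lt_of_le_of_ne inf_le_right fun heq => ?_, fun M hle hM => ?_⟩
  · obtain ⟨g, hg, hgT⟩ := d.exists_not_isT
    obtain ⟨g', hg'⟩ := glEquiv.surjective g.1
    have hmem : g' ∈ Cfsg.Geo.omegaGL ⇑d.Q := (hΩ g').2 ⟨g, hg, hg'.symm⟩
    rw [← heq] at hmem
    obtain ⟨a, b, hab⟩ := (hiff g').1 (Subgroup.mem_inf.1 hmem).1
    exact hgT ⟨a, b, hg'.symm.trans hab⟩
  let K : Subgroup (orthGroup d.Q) := (M.map glEquiv.toMonoidHom).comap (orthGroup d.Q).subtype
  rcases d.overgroup_cases (K := K) (fun x hx => by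
      obtain ⟨g', hg', he⟩ := hx
      obtain ⟨h, hh, hhe⟩ := (hΩ g').1 (hM hg')
      rwa [show x = h from Subtype.ext (he.symm.trans hhe.symm)])
    (by rw [Module.finrank_fin_fun]; exact heven) hcase (fun g hg hg' => by
    obtain ⟨g', hg''⟩ := glEquiv.surjective g.1
    obtain ⟨a, b, hab⟩ := hg
    exact ⟨g', hle ⟨(hiff g').2 ⟨a, b, hg''.trans hab⟩, (hΩ g').2 ⟨g, hg', hg''.symm⟩⟩, hg''⟩) with htens | hall
  · refine Or.inl (le_antisymm (fun g hg => ⟨(hiff g).2 ?_, hM hg⟩) hle)
    obtain ⟨h, -, he⟩ := (hΩ g).1 (hM hg)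
    obtain ⟨a, b, hab⟩ := htens h ⟨g, hg, he.symm⟩
    exact ⟨a, b, he.symm.trans hab⟩
  · refine Or.inr (le_antisymm hM fun g hg => ?_)
    obtain ⟨h, hh, he⟩ := (hΩ g).1 hg
    obtain ⟨g', hg', he'⟩ := hall hh
    rw [← glEquiv.injective (he'.trans he)]
    exact hg'

end OS

/-- The quadratic form of a symmetric bilinear form. -/
noncomputable def quadOf {F : Type*} [Field F] {M : Type*} [AddCommGroup M] [Module F M]
    (B : LinearMap.BilinForm F M) : QuadraticForm F M := (2 : F)⁻¹ • B.toQuadraticMap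

theorem polB_quadOf {F : Type*} [Field F] {M : Type*} [AddCommGroup M] [Module F M] (h2 : (2 : F) ≠ 0)
    (B : LinearMap.BilinForm F M) (hB : ∀ x y, B x y = B y x) : polB (quadOf B) = B := by
  refine LinearMap.ext fun x => LinearMap.ext fun y => ?_
  rw [polB_apply, QuadraticMap.polar]
  simp only [quadOf, smul_apply, LinearMap.BilinMap.toQuadraticMap_apply, map_add, LinearMap.add_apply,
    smul_eq_mul, hB y x]
  field_simp
  ring

/-- The tensor coordinates of a decomposition. -/
noncomputable def coord {F : Type*} [Field F] [Fintype F] {n n₁ n₂ : ℕ} (e : Fin n ≃ Fin n₁ × Fin n₂)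
    (P : Matrix.GeneralLinearGroup (Fin n) F) : (Fin n₁ → F) ⊗[F] (Fin n₂ → F) ≃ₗ[F] (Fin n → F) :=
  H49.tensCoord n₁ n₂ F ≪≫ₗ LinearEquiv.funCongrLeft F F e ≪≫ₗ glEquiv P

theorem coord_tmul {F : Type*} [Field F] [Fintype F] {n n₁ n₂ : ℕ} (e : Fin n ≃ Fin n₁ × Fin n₂)
    (P : Matrix.GeneralLinearGroup (Fin n) F) (x : Fin n₁ → F) (a : Fin n₂ → F) :
    coord e P (x ⊗ₜ a) = (P : Matrix (Fin n) (Fin n) F) *ᵥ ((fun ij => x ij.1 * a ij.2) ∘ e) := by
  show glEquiv P (LinearEquiv.funCongrLeft F F e (H49.tensCoord n₁ n₂ F (x ⊗ₜ a))) = _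
  rw [H49.tensCoord_tmul, glEquiv_apply]
  rfl

/-- Members of the stabiliser of the decomposition as products. -/
theorem mem_tensorProduct_coord {F : Type*} [Field F] [Fintype F] {n n₁ n₂ : ℕ} (e : Fin n ≃ Fin n₁ × Fin n₂)
    (P : Matrix.GeneralLinearGroup (Fin n) F) (g : Matrix.GeneralLinearGroup (Fin n) F) :
    g ∈ Cfsg.Geo.tensorProductSubgroup n₁ n₂ e P ↔
      ∃ (a : (Fin n₁ → F) ≃ₗ[F] (Fin n₁ → F)) (b : (Fin n₂ → F) ≃ₗ[F] (Fin n₂ → F)),
        ∀ x y, glEquiv g (coord e P (x ⊗ₜ y)) = coord e P (a x ⊗ₜ b y) := by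
  have hkron : ∀ A B x y, glEquiv (P * Cfsg.Geo.glReindex e.symm (H49.kronGL A B) * P⁻¹) (coord e P (x ⊗ₜ y)) =
      coord e P (glEquiv A x ⊗ₜ glEquiv B y) := by
    intro A B x y
    rw [coord_tmul, coord_tmul, glEquiv_apply, glEquiv_apply, glEquiv_apply, Units.val_mul, Units.val_mul,
      Matrix.mulVec_mulVec, Matrix.mul_assoc, ← Units.val_mul (P⁻¹) P, inv_mul_cancel, Units.val_one, mul_one,
      ← Matrix.mulVec_mulVec]
    congr 1
    rw [← H49.kron_mulVec_pure]
    show (Matrix.reindexAlgEquiv F F e.symm ((H49.kronGL A B : GL (Fin n₁ × Fin n₂) F) : Matrix _ _ F)) *ᵥ _ = _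
    rw [Matrix.reindexAlgEquiv_apply]
    funext i
    simp only [Matrix.mulVec, dotProduct, Matrix.reindex_apply, Matrix.submatrix_apply, Equiv.symm_symm,
      Function.comp_apply]
    exact e.sum_comp fun k => ((H49.kronGL A B : GL (Fin n₁ × Fin n₂) F) : Matrix _ _ F) (e i) k * (x k.1 * y k.2)
  rw [H49.mem_tensorProductSubgroup]
  constructor
  · rintro ⟨A, B, rfl⟩
    exact ⟨_, _, hkron A B⟩
  · rintro ⟨a, b, h⟩
    refine ⟨glEquiv.symm a, glEquiv.symm b, glEquiv.injective (LinearEquiv.toLinearMap_injective ?_)⟩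
    have e1 : (glEquiv g).toLinearMap ∘ₗ (coord e P).toLinearMap =
        (glEquiv (P * Cfsg.Geo.glReindex e.symm (H49.kronGL (glEquiv.symm a) (glEquiv.symm b)) * P⁻¹)).toLinearMap ∘ₗ
          (coord e P).toLinearMap := TensorProduct.ext' fun x y => by
      show glEquiv g (coord e P (x ⊗ₜ y)) = glEquiv _ (coord e P (x ⊗ₜ y))
      rw [hkron, MulEquiv.apply_symm_apply, MulEquiv.apply_symm_apply, h]
    exact LinearMap.ext fun v => by simpa using LinearMap.congr_fun e1 ((coord e P).symm v)

/-- A plane on which the form of minus type vanishes does not exist. -/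
theorem noTS_of_minus {F : Type*} [Field F] {n₂ : ℕ} (h4 : n₂ = 4) (f : (Fin n₂ → F) → (Fin n₂ → F) → F)
    (hm : ¬ Cfsg.Geo.IsPlusTypeOn (fun v : Fin n₂ → F => f v v) ⊤) (Q : QuadraticForm F (Fin n₂ → F))
    (hQ : ∀ v, Q v = 0 → f v v = 0) : NoTS Q := by
  intro u w hu hw huw hu0
  by_contra hmem
  refine hm ⟨Submodule.span F {u, w}, le_top, fun x hx => hQ x ?_, ?_⟩
  · obtain ⟨a, b, rfl⟩ := Submodule.mem_span_pair.1 hx
    rw [qmap_add, qmap_smul, qmap_smul, hu, hw, map_smul, map_smul, LinearMap.smul_apply, huw]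
    simp
  · have h1 : F ∙ u < Submodule.span F ({u, w} : Set (Fin n₂ → F)) :=
      lt_of_le_of_ne (Submodule.span_mono (by simp)) fun heq => hmem (by
        rw [heq]; exact Submodule.subset_span (by simp))
    have h2 := Submodule.finrank_lt_finrank_of_lt h1
    rw [finrank_span_singleton hu0] at h2
    have h3 : Module.finrank F (Submodule.span F ({u, w} : Set (Fin n₂ → F))) ≤ 2 := by
      classical
      have := finrank_span_finset_le_card (R := F) ({u, w} : Finset (Fin n₂ → F))
      rw [Set.finrank, Finset.coe_insert, Finset.coe_singleton] at this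
      exact this.trans Finset.card_le_two
    rw [finrank_top, Module.finrank_fin_fun]
    omega

theorem card_eq_three {F : Type*} [Field F] [Fintype F] (h2 : (2 : F) ≠ 0)
    (h : ¬ ∃ t : F, t ≠ 0 ∧ t * t ≠ 1) : Fintype.card F = 3 := by
  classical
  push Not at h
  have huniv : (Finset.univ : Finset F) = {0, 1, -1} := by
    ext x
    simp only [Finset.mem_univ, Finset.mem_insert, Finset.mem_singleton, true_iff]
    by_cases hx : x = 0
    · exact Or.inl hx
    · exact Or.inr (mul_self_eq_one_iff.1 (h x hx))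
  have hne : (1 : F) ≠ -1 := fun h => h2 (by linear_combination h)
  rw [← Finset.card_univ, huniv, Finset.card_insert_of_notMem (by simp), Finset.card_pair hne]

/-- The stabiliser of an odd by even decomposition of a space of minus type is maximal in `Ω`. -/
theorem tensorMinusMax {F : Type*} [Field F] [Fintype F] {n : ℕ} (hn : 13 ≤ n) (heven : Even n)
    (Q : (Fin n → F) → F) (hQ : Cfsg.Geo.IsNondegenerateQuadraticForm Q) (hodd : Odd (Fintype.card F))
    (n₁ n₂ : ℕ) (h1 : 3 ≤ n₁) (h1o : Odd n₁) (h2 : 4 ≤ n₂) (h2e : Even n₂)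
    (hex : ¬ (Fintype.card F = 3 ∧ n₁ = 3)) (e : Fin n ≃ Fin n₁ × Fin n₂)
    (P : Matrix.GeneralLinearGroup (Fin n) F) (f₁ : (Fin n₁ → F) → (Fin n₁ → F) → F)
    (f₂ : (Fin n₂ → F) → (Fin n₂ → F) → F) (hf₁ : Cfsg.Geo.IsSymmetricForm f₁)
    (hf₂ : Cfsg.Geo.IsSymmetricForm f₂)
    (hf₂m : ¬ Cfsg.Geo.IsPlusTypeOn (fun v : Fin n₂ → F => f₂ v v) ⊤)
    (hT : Cfsg.Geo.IsTensorFormStructure id (QuadraticMap.polar Q) f₁ f₂ e P) :
    Cfsg.Geo.IsMaximalIn (Cfsg.Geo.omegaGL Q) (Cfsg.Geo.tensorProductSubgroup n₁ n₂ e P ⊓ Cfsg.Geo.omegaGL Q) := by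
  classical
  obtain ⟨q, rfl, hq⟩ := H45.exists_quadForm hQ
  have two : (2 : F) ≠ 0 := two_ne_zero_of_odd_card hodd
  obtain ⟨c, hc, hT⟩ := hT
  have b1 := hf₁.bilinear
  have b2 := hf₂.bilinear
  let B₁ : LinearMap.BilinForm F (Fin n₁ → F) :=
    LinearMap.mk₂ F f₁ b1.add_left b1.smul_left b1.add_right b1.smul_right
  let B₂ : LinearMap.BilinForm F (Fin n₂ → F) :=
    c • LinearMap.mk₂ F f₂ b2.add_left b2.smul_left b2.add_right b2.smul_right
  have hB₁ : polB (quadOf B₁) = B₁ := polB_quadOf two B₁ fun x y => hf₁.symm x y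
  have hB₂ : polB (quadOf B₂) = B₂ := polB_quadOf two B₂ fun x y => by simp [B₂, hf₂.symm x y]
  have n1 : (polB (quadOf B₁)).Nondegenerate := by
    rw [hB₁]
    refine ⟨fun a h => ?_, fun a h => ?_⟩ <;> by_contra ha <;> obtain ⟨w, hw⟩ := (hf₁.nondegenerate a ha).2
    · exact hw (h w)
    · exact hw (by rw [hf₁.symm]; exact h w)
  have n2 : (polB (quadOf B₂)).Nondegenerate := by
    rw [hB₂]
    refine ⟨fun a h => ?_, fun a h => ?_⟩ <;> by_contra ha <;> obtain ⟨w, hw⟩ := (hf₂.nondegenerate a ha).2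
    · exact hw (by simpa [B₂, hc] using h w)
    · exact hw (by rw [hf₂.symm]; simpa [B₂, hc] using h w)
  have hpure : ∀ x y a b, polB q (coord e P (x ⊗ₜ a)) (coord e P (y ⊗ₜ b)) =
      polB (quadOf B₁) x y * polB (quadOf B₂) a b := by
    intro x y a b
    rw [hB₁, hB₂, coord_tmul, coord_tmul, polB_apply, hT]
    show _ = f₁ x y * (c * f₂ a b)
    rw [mul_left_comm, H49.bilin_eq_gram f₁ b1, H49.bilin_eq_gram f₂ b2]
    congr 1
    rw [Finset.sum_mul_sum]
    simp only [Cfsg.Geo.formOfGram, Fintype.sum_prod_type, Matrix.kroneckerMap_apply, id, Finset.sum_mul_sum]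
    refine Finset.sum_congr rfl fun i _ => Finset.sum_congr rfl fun j _ => ?_
    refine Finset.sum_congr rfl fun k _ => Finset.sum_congr rfl fun l _ => ?_
    ring
  have hne : n₁ ≠ n₂ := fun h => Nat.not_even_iff_odd.2 h1o (h ▸ h2e)
  have hcard : n₁ * n₂ = n := by simpa using (Fintype.card_congr e).symm
  have hsame : ∀ {k : ℕ} (Qk : QuadraticForm F (Fin k → F)), (polB Qk).Nondegenerate →
      (Fintype.card F = 3 → 5 ≤ k ∨ (k = 4 ∧ NoTS Qk)) → (∃ t : F, t ≠ 0 ∧ t * t ≠ 1) ∨ Same Qk := by
    intro k Qk hk h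
    by_cases ht : ∃ t : F, t ≠ 0 ∧ t * t ≠ 1
    · exact Or.inl ht
    refine Or.inr ?_
    rcases h (card_eq_three two ht) with h5 | ⟨h4, hts⟩
    · exact same_of_five hk two (by rw [Module.finrank_fin_fun]; exact h5)
    · push Not at ht
      exact same_of_four hk (by rw [Module.finrank_fin_fun]; omega) hts ht
  have hnoTS : n₂ = 4 → NoTS (quadOf B₂) := fun h4 => noTS_of_minus h4 f₂ hf₂m _ fun v hv => by
    have h := polB_self (Q := quadOf B₂) v
    rw [hB₂, hv, mul_zero] at h
    simpa [B₂, hc] using h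
  by_cases hbig : n₁ + 3 ≤ n₂
  · let d : OS F (Fin n₂ → F) (Fin n₁ → F) (Fin n → F) :=
      { Φ := TensorProduct.comm F _ _ ≪≫ₗ coord e P
        QL := quadOf B₂, QS := quadOf B₁, Q := q
        ndL := n2, ndS := n1, nd := hq
        pure := fun a b x y => by
          simp only [LinearEquiv.trans_apply, TensorProduct.comm_tmul, hpure]
          ring
        two := two
        four := by rw [Module.finrank_fin_fun]; omega
        small := fun h => by rw [Module.finrank_fin_fun] at h; omega
        three := by rw [Module.finrank_fin_fun]; exact h1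
        rel := by rw [Module.finrank_fin_fun, Module.finrank_fin_fun]; omega
        ne := by rw [Module.finrank_fin_fun, Module.finrank_fin_fun]; exact hne.symm
        sameS := hsame _ n1 fun h3 => Or.inl (by
          obtain ⟨j, hj⟩ := h1o
          have : n₁ ≠ 3 := fun h => hex ⟨h3, h⟩
          omega)
        wedgeS := by
          rw [Module.finrank_fin_fun]
          obtain ⟨j, hj⟩ := h1o; omega }
    have hgap : Module.finrank F (Fin n₁ → F) + 3 ≤ Module.finrank F (Fin n₂ → F) := by
      rw [Module.finrank_fin_fun, Module.finrank_fin_fun]; exact hbig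
    refine OS.maximal_gl d heven (fun H hH hS _ g hg => OS.all_tens_large hH hS hgap (by
      rw [Module.finrank_fin_fun]; exact h1o) hg) _ fun g => ?_
    rw [mem_tensorProduct_coord]
    constructor
    · rintro ⟨a, b, h⟩
      refine ⟨b, a, d.equiv_ext fun x y => ?_⟩
      rw [d.tens_t]
      exact h y x
    · rintro ⟨b, a, h⟩
      refine ⟨a, b, fun x y => ?_⟩
      exact (congrArg (fun k : (Fin n → F) ≃ₗ[F] (Fin n → F) => k (d.t y x)) h).trans (d.tens_t b a y x)
  · have h5 : 5 ≤ n₁ := by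
      obtain ⟨j, hj⟩ := h1o
      obtain ⟨i, hi⟩ := h2e
      by_contra hlt
      have h3 : n₁ = 3 := by omega
      subst h3
      omega
    let d : OS F (Fin n₁ → F) (Fin n₂ → F) (Fin n → F) :=
      { Φ := coord e P
        QL := quadOf B₁, QS := quadOf B₂, Q := q
        ndL := n1, ndS := n2, nd := hq
        pure := fun a b x y => hpure a b x y
        two := two
        four := by rw [Module.finrank_fin_fun]; omega
        small := fun h => by rw [Module.finrank_fin_fun] at h; omega
        three := by rw [Module.finrank_fin_fun]; omega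
        rel := by
          rw [Module.finrank_fin_fun, Module.finrank_fin_fun]
          obtain ⟨j, hj⟩ := h1o; obtain ⟨i, hi⟩ := h2e; omega
        ne := by rw [Module.finrank_fin_fun, Module.finrank_fin_fun]; exact hne
        sameS := hsame _ n2 fun _ => by
          by_cases h4 : n₂ = 4
          · exact Or.inr ⟨h4, hnoTS h4⟩
          · exact Or.inl (by omega)
        wedgeS := by
          rw [Module.finrank_fin_fun]
          by_cases h4 : n₂ = 4
          · exact Or.inr (Or.inr (hnoTS h4))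
          · exact Or.inr (Or.inl (by omega)) }
    refine OS.maximal_gl d heven (fun H hH hS hdet g hg => OS.all_tens_small hH hS
      (by rw [Module.finrank_fin_fun]; exact h1o) (by rw [Module.finrank_fin_fun]; exact h2e) hdet hg) _
      fun g => ?_
    rw [mem_tensorProduct_coord]
    constructor
    · rintro ⟨a, b, h⟩
      refine ⟨a, b, d.equiv_ext fun x y => ?_⟩
      rw [d.tens_t]
      exact h x y
    · rintro ⟨a, b, h⟩
      refine ⟨a, b, fun x y => ?_⟩
      exact (congrArg (fun k : (Fin n → F) ≃ₗ[F] (Fin n → F) => k (d.t x y)) h).trans (d.tens_t a b x y)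

end H98.TE
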