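import Cfsg.Agent.H98.TensEven.Max
import Cfsg.Agent.H98.TensEven.Four

/-!
The stabiliser of a decomposition of a twelve-dimensional orthogonal space of minus type as a tensor product of a
three-dimensional and a four-dimensional space is maximal.
-/

set_option autoImplicit false
set_option linter.unusedSectionVars false

namespace H98.TE

open H43 H98.TO
open scoped commutatorElement Matrix Kronecker TensorProduct

/-- The stabiliser of a three by four decomposition of a space of minus type is maximal in `Ω`. -/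
theorem tensorTwelveMax {F : Type*} [Field F] [Fintype F]
    (Q : (Fin 12 → F) → F) (hQ : Cfsg.Geo.IsNondegenerateQuadraticForm Q) (hodd : Odd (Fintype.card F))
    (h5 : 5 ≤ Fintype.card F) (e : Fin 12 ≃ Fin 3 × Fin 4) (P : Matrix.GeneralLinearGroup (Fin 12) F)
    (f₁ : (Fin 3 → F) → (Fin 3 → F) → F) (f₂ : (Fin 4 → F) → (Fin 4 → F) → F)
    (hf₁ : Cfsg.Geo.IsSymmetricForm f₁) (hf₂ : Cfsg.Geo.IsSymmetricForm f₂)
    (hf₂m : ¬ Cfsg.Geo.IsPlusTypeOn (fun v : Fin 4 → F => f₂ v v) ⊤)
    (hT : Cfsg.Geo.IsTensorFormStructure id (QuadraticMap.polar Q) f₁ f₂ e P) :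
    Cfsg.Geo.IsMaximalIn (Cfsg.Geo.omegaGL Q) (Cfsg.Geo.tensorProductSubgroup 3 4 e P ⊓ Cfsg.Geo.omegaGL Q) := by
  classical
  obtain ⟨q, rfl, hq⟩ := H45.exists_quadForm hQ
  have two : (2 : F) ≠ 0 := two_ne_zero_of_odd_card hodd
  obtain ⟨c, hc, hT⟩ := hT
  have b1 := hf₁.bilinear
  have b2 := hf₂.bilinear
  let B₁ : LinearMap.BilinForm F (Fin 3 → F) :=
    LinearMap.mk₂ F f₁ b1.add_left b1.smul_left b1.add_right b1.smul_right
  let B₂ : LinearMap.BilinForm F (Fin 4 → F) :=
    c • LinearMap.mk₂ F f₂ b2.add_left b2.smul_left b2.add_right b2.smul_right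
  have hB₁ : polB (quadOf B₁) = B₁ := polB_quadOf two B₁ fun x y => hf₁.symm x y
  have hB₂ : polB (quadOf B₂) = B₂ := polB_quadOf two B₂ fun x y => by simp [B₂, hf₂.symm x y]
  have n1 : (polB (quadOf B₁)).Nondegenerate := by
    rw [hB₁]
    refine ⟨fun a h => ?_, fun a h => ?_⟩ <;> by_contra ha <;> obtain ⟨w, hw⟩ := (hf₁.nondegenerate a ha).2
    · exact hw (h w)
    · exact hw (by rw [hf₁.symm]; exact h w)
  have n2 : (polB (quadOf B₂)).Nondegenerate := by
    rw [hB₂]
    refine ⟨fun a h => ?_, fun a h => ?_⟩ <;> by_contra ha <;> obtain ⟨w, hw⟩ := (hf₂.nondegenerate a ha).2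
    · exact hw (by simpa [B₂, hc] using h w)
    · exact hw (by rw [hf₂.symm]; simpa [B₂, hc] using h w)
  have hpure : ∀ x y a b, polB q (coord e P (x ⊗ₜ a)) (coord e P (y ⊗ₜ b)) =
      polB (quadOf B₁) x y * polB (quadOf B₂) a b := by
    intro x y a b
    rw [hB₁, hB₂, coord_tmul, coord_tmul, polB_apply, hT]
    show _ = f₁ x y * (c * f₂ a b)
    rw [mul_left_comm, H49.bilin_eq_gram f₁ b1, H49.bilin_eq_gram f₂ b2]
    congr 1
    rw [Finset.sum_mul_sum]
    simp only [Cfsg.Geo.formOfGram, Fintype.sum_prod_type, Matrix.kroneckerMap_apply, id, Finset.sum_mul_sum]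
    refine Finset.sum_congr rfl fun i _ => Finset.sum_congr rfl fun j _ => ?_
    refine Finset.sum_congr rfl fun k _ => Finset.sum_congr rfl fun l _ => ?_
    ring
  have hq1 : ∃ t : F, t ≠ 0 ∧ t * t ≠ 1 := by
    by_contra h
    have := card_eq_three two h
    omega
  have hts : NoTS (quadOf B₂) := noTS_of_minus rfl f₂ hf₂m _ fun v hv => by
    have h := polB_self (Q := quadOf B₂) v
    rw [hB₂, hv, mul_zero] at h
    simpa [B₂, hc] using h
  let d : OS F (Fin 4 → F) (Fin 3 → F) (Fin 12 → F) :=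
    { Φ := TensorProduct.comm F _ _ ≪≫ₗ coord e P
      QL := quadOf B₂, QS := quadOf B₁, Q := q
      ndL := n2, ndS := n1, nd := hq
      pure := fun a b x y => by
        simp only [LinearEquiv.trans_apply, TensorProduct.comm_tmul, hpure]
        ring
      two := two
      four := by rw [Module.finrank_fin_fun]
      small := fun _ => ⟨Module.finrank_fin_fun F, hts, hq1⟩
      three := by rw [Module.finrank_fin_fun]
      rel := by rw [Module.finrank_fin_fun, Module.finrank_fin_fun]; omega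
      ne := by rw [Module.finrank_fin_fun, Module.finrank_fin_fun]; omega
      sameS := Or.inl hq1
      wedgeS := Or.inl (Module.finrank_fin_fun F) }
  refine OS.maximal_gl d (by decide) (fun H hH hS hdet g hg => OS.all_tens_four hH hS
    (Module.finrank_fin_fun F) hdet hg) _ fun g => ?_
  rw [mem_tensorProduct_coord]
  constructor
  · rintro ⟨a, b, h⟩
    refine ⟨b, a, d.equiv_ext fun x y => ?_⟩
    rw [d.tens_t]
    exact h y x
  · rintro ⟨b, a, h⟩
    refine ⟨a, b, fun x y => ?_⟩
    exact (congrArg (fun k : (Fin 12 → F) ≃ₗ[F] (Fin 12 → F) => k (d.t y x)) h).trans (d.tens_t b a y x)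

end H98.TE
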