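import Cfsg.Agent.H98.TensEven.Base

/-!
Overgroups of the product group and the unipotent radical of the stabiliser of a singular column.
-/

set_option autoImplicit false
set_option linter.unusedSectionVars false

namespace H98.TE

open H43 H98.TO

variable {F : Type*} [Field F] [Finite F]
  {L : Type*} [AddCommGroup L] [Module F L] [FiniteDimensional F L]
  {S : Type*} [AddCommGroup S] [Module F S] [FiniteDimensional F S]
  {V : Type*} [AddCommGroup V] [Module F V] [FiniteDimensional F V]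

namespace OS

variable (d : OS F L S V)

/-- Overgroups of the product group. -/
structure Over (H : Subgroup (orthGroup d.Q)) : Prop where
  tens_mem : ∀ g, d.IsT g → g ∈ commutator (orthGroup d.Q) → g ∈ H
  neg_mem : negOrth d.Q ∈ H

/-- `y` fixes the column of `u` and is trivial on the quotient of its orthogonal by it, with middle part `T`. -/
structure Qel (u : L) (y : orthGroup d.Q) (T : L →ₗ[F] S →ₗ[F] S) : Prop where
  fixW : ∀ e, y.1 (d.t u e) = d.t u e
  mid : ∀ x, polB d.QL u x = 0 → ∀ e, y.1 (d.t x e) = d.t x e + d.t u (T x e)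

/-- No overgroup element is central in the radical of a singular column. -/
def Small (H : Subgroup (orthGroup d.Q)) : Prop :=
  ∀ u y, d.QL u = 0 → u ≠ 0 → y ∈ H → d.Qel u y 0 → y = 1

variable {d} {H : Subgroup (orthGroup d.Q)}

theorem Over.liftL_mem (hH : d.Over H) {g : orthGroup d.QL} (hg : g ∈ commutator (orthGroup d.QL)) :
    d.liftL g ∈ H :=
  hH.tens_mem _ (d.liftL_isT g) (d.liftL_mem_comm hg)

theorem Over.liftS_mem (hH : d.Over H) {g : orthGroup d.QS} (hg : g ∈ commutator (orthGroup d.QS)) :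
    d.liftS g ∈ H :=
  hH.tens_mem _ (d.liftS_isT g) (d.liftS_mem_comm hg)

theorem Over.sg_mem (hH : d.Over H) {u w : L} (hu : d.QL u = 0) (h : polB d.QL u w = 0) : d.sg u w ∈ H :=
  hH.tens_mem _ (d.sg_isT u w) (d.sg_mem_comm hu h)

theorem Over.refl_mem (hH : d.Over H) (hodd : Odd (Module.finrank F L)) {n : L} (hn : Good d.QL n) :
    d.liftL (refl d.QL n) ∈ H := by
  have h1 := hH.liftL_mem (hn.mem d.ndL d.two hodd d.threeL)
  rw [map_mul, d.liftL_negOrth] at h1
  have := H.mul_mem (H.inv_mem hH.neg_mem) h1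
  rwa [inv_mul_cancel_left] at this

namespace Qel

variable {u : L} {y y' : orthGroup d.Q} {T T' : L →ₗ[F] S →ₗ[F] S}

theorem one (u : L) : d.Qel u 1 0 := ⟨fun e => rfl, fun x _ e => by simp [orth_one_apply]⟩

theorem mul (hy : d.Qel u y T) (hy' : d.Qel u y' T') : d.Qel u (y * y') (T + T') := by
  refine ⟨fun e => by rw [orth_mul_apply, hy'.fixW, hy.fixW], fun x hx e => ?_⟩
  rw [orth_mul_apply, hy'.mid x hx, map_add, hy.mid x hx, hy.fixW, LinearMap.add_apply, LinearMap.add_apply,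
    map_add]
  abel

theorem inv (hy : d.Qel u y T) : d.Qel u y⁻¹ (-T) := by
  refine ⟨fun e => ?_, fun x hx e => ?_⟩
  · conv_lhs => rw [← hy.fixW e, orth_inv_apply_self]
  · refine y.1.injective ?_
    rw [orth_apply_inv_self, map_add, hy.mid x hx, hy.fixW]
    simp

theorem congr_T (hy : d.Qel u y T) (h : ∀ x, polB d.QL u x = 0 → ∀ e, T x e = T' x e) : d.Qel u y T' :=
  ⟨hy.fixW, fun x hx e => by rw [hy.mid x hx, h x hx]⟩

theorem T_self (hy : d.Qel u y T) (hu : d.QL u = 0) (hu0 : u ≠ 0) (e : S) : T u e = 0 := by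
  have := hy.mid u (polB_self_zero hu) e
  rw [hy.fixW, left_eq_add] at this
  exact d.t_injective hu0 (this.trans (map_zero (d.t u)).symm)

theorem C_u (hy : d.Qel u y T) (v : V) : d.C u (y.1 v) = d.C u v :=
  d.S_ext fun e => by rw [d.b_C, d.b_C, ← hy.fixW e, orth_polB_map, hy.fixW]

theorem C_mid (hy : d.Qel u y T) (v : V) {w : L} (hw : polB d.QL u w = 0) (e : S) :
    polB d.QS (d.C w (y.1 v - v)) e = -polB d.QS (d.C u v) (T w e) := by
  have h1 : polB d.Q (y.1 v) (y.1 (d.t w e)) = polB d.Q v (d.t w e) := orth_polB_map y _ _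
  have h2 : polB d.Q (y.1 v) (y.1 (d.t u (T w e))) = polB d.Q v (d.t u (T w e)) := orth_polB_map y _ _
  rw [hy.fixW] at h2
  rw [hy.mid w hw, map_add, h2] at h1
  rw [d.b_C, d.b_C, map_sub, LinearMap.sub_apply]
  linear_combination h1

/-- Elements with zero middle part. -/
theorem zero_shape (hy : d.Qel u y 0) (hu : d.QL u = 0) (hu0 : u ≠ 0) :
    ∃ X : S →ₗ[F] S, (∀ a b, polB d.QS (X a) b = -polB d.QS a (X b)) ∧
      ∀ v, y.1 v = v + d.t u (X (d.C u v)) := by
  obtain ⟨u', hp⟩ := exists_hypPair d.ndL hu hu0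
  have hfix : ∀ z, d.C u z = 0 → y.1 z = z := fun z hz =>
    d.ker_ext hu0 (g := y.1.toLinearMap) (h := LinearMap.id) (fun x e hx => by
      show y.1 (d.t x e) = d.t x e
      rw [hy.mid x hx]; simp) hz
  have hW : ∀ e, y.1 (d.t u' e) - d.t u' e ∈ d.W u := fun e => d.mem_W hu0 fun w hw => by
    refine d.S_ext fun e' => ?_
    rw [hy.C_mid _ hw]
    simp
  let X : S →ₗ[F] S := d.C u' ∘ₗ (y.1.toLinearMap - LinearMap.id) ∘ₗ d.t u'
  have hX : ∀ e, y.1 (d.t u' e) = d.t u' e + d.t u (X e) := fun e => by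
    obtain ⟨z, hz⟩ := hW e
    have : X e = z := by
      show d.C u' (y.1 (d.t u' e) - d.t u' e) = z
      rw [← hz, d.C_t, hp.pair, one_smul]
    rw [this, hz]; abel
  refine ⟨X, fun a b => ?_, fun v => ?_⟩
  · have h := orth_polB_map y (d.t u' a) (d.t u' b)
    simp only [hX, map_add, LinearMap.add_apply, d.f_t, hp.pair, hp.symm.pair, polB_self, hu, mul_zero,
      zero_mul, one_mul, add_zero] at h
    linear_combination h
  · have h0 : d.C u (v - d.t u' (d.C u v)) = 0 := by
      rw [map_sub, d.C_t, hp.symm.pair, one_smul, sub_self]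
    have h1 := hfix _ h0
    rw [map_sub, hX] at h1
    linear_combination (norm := abel) h1

/-- Conjugation by a product isometry fixing the line of `u`. -/
theorem conj (hy : d.Qel u y T) {g : orthGroup d.Q} {a : L ≃ₗ[F] L} {c : S ≃ₗ[F] S}
    (hg : g.1 = d.tens a c) {r : F} (hr : r ≠ 0) (ha : a u = r • u)
    (hperp : ∀ x, polB d.QL u x = 0 → polB d.QL u (a.symm x) = 0)
    {T' : L →ₗ[F] S →ₗ[F] S} (hT' : ∀ x, polB d.QL u x = 0 → ∀ e, T' x e = r • c (T (a.symm x) (c.symm e))) :
    d.Qel u (g * y * g⁻¹) T' := by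
  have hi : ∀ x e, (g⁻¹).1 (d.t x e) = d.t (a.symm x) (c.symm e) := fun x e => by
    refine g.1.injective ?_
    rw [orth_apply_inv_self, hg, d.tens_t, a.apply_symm_apply, c.apply_symm_apply]
  have hau : a.symm u = r⁻¹ • u := by
    refine a.injective ?_
    rw [a.apply_symm_apply, map_smul, ha, smul_smul, inv_mul_cancel₀ hr, one_smul]
  refine ⟨fun e => ?_, fun x hx e => ?_⟩
  · rw [orth_mul_apply, orth_mul_apply, hi, hau, map_smul, LinearMap.smul_apply, map_smul, hy.fixW, map_smul,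
      hg, d.tens_t, ha, c.apply_symm_apply, map_smul, LinearMap.smul_apply, smul_smul, inv_mul_cancel₀ hr,
      one_smul]
  · rw [orth_mul_apply, orth_mul_apply, hi, hy.mid _ (hperp x hx), map_add, hg, d.tens_t, d.tens_t,
      a.apply_symm_apply, c.apply_symm_apply, ha, hT' x hx, map_smul, LinearMap.smul_apply, map_smul]

theorem conj_L (hy : d.Qel u y T) (g : orthGroup d.QL) (hg : g.1 u = u) {T' : L →ₗ[F] S →ₗ[F] S}
    (hT' : ∀ x, polB d.QL u x = 0 → ∀ e, T' x e = T ((g⁻¹).1 x) e) :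
    d.Qel u (d.liftL g * y * (d.liftL g)⁻¹) T' := by
  refine hy.conj (a := g.1) (c := 1) rfl one_ne_zero (by rw [hg, one_smul]) (fun x hx => ?_) fun x hx e => ?_
  · have := orth_polB_map g u (g.1.symm x)
    rw [hg, g.1.apply_symm_apply] at this
    rw [← this, hx]
  · rw [hT' x hx, one_smul]
    rfl

theorem conj_S (hy : d.Qel u y T) (g : orthGroup d.QS) {T' : L →ₗ[F] S →ₗ[F] S}
    (hT' : ∀ x, polB d.QL u x = 0 → ∀ e, T' x e = g.1 (T x ((g⁻¹).1 e))) :
    d.Qel u (d.liftS g * y * (d.liftS g)⁻¹) T' := by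
  refine hy.conj (a := 1) (c := g.1) rfl one_ne_zero (one_smul F u).symm (fun x hx => hx) fun x hx e => ?_
  rw [hT' x hx, one_smul]
  rfl

/-- The middle part of a rank-one element on the whole orthogonal of the column. -/
theorem rank_one_apply (hy : d.Qel u y' T') (hu0 : u ≠ 0) {n : L} {R : S →ₗ[F] S}
    (hR : ∀ x, polB d.QL u x = 0 → ∀ e, T' x e = polB d.QL x n • R e) {z : V} (hz : d.C u z = 0) :
    y'.1 z = z + d.t u (R (d.C n z)) :=
  d.ker_ext hu0 (g := y'.1.toLinearMap) (h := LinearMap.id + d.t u ∘ₗ R ∘ₗ d.C n) (fun x e hx => by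
    show y'.1 (d.t x e) = d.t x e + d.t u (R (d.C n (d.t x e)))
    rw [hy.mid x hx, hR x hx, d.C_t, map_smul R]) hz

/-- A commuting rank-one element gives self-adjointness. -/
theorem adjoint_of_comm (hy : d.Qel u y T) (hy' : d.Qel u y' T') (hu : d.QL u = 0) (hu0 : u ≠ 0) {n : L}
    (hn : polB d.QL u n = 0) {R : S →ₗ[F] S} (hRs : ∀ a b, polB d.QS (R a) b = polB d.QS a (R b))
    (hR : ∀ x, polB d.QL u x = 0 → ∀ e, T' x e = polB d.QL x n • R e) (hcomm : y * y' = y' * y) (a b : S) :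
    polB d.QS (T n (R a)) b = polB d.QS a (T n (R b)) := by
  obtain ⟨u', hp⟩ := exists_hypPair d.ndL hu hu0
  set v := d.t u' a with hv
  have hCv : d.C u v = a := by rw [hv, d.C_t, hp.symm.pair, one_smul]
  set z := y.1 v - v with hz
  set z' := y'.1 v - v with hz'
  have hCz : d.C u z = 0 := by rw [hz, map_sub, hy.C_u, sub_self]
  have hmem : z' + d.t n (R a) ∈ d.W u := d.mem_W hu0 fun w hw => d.S_ext fun e => by
    rw [map_add, map_add, LinearMap.add_apply, hz', hy'.C_mid v hw, hCv, hR w hw, d.C_t, map_smul,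
      map_smul, LinearMap.smul_apply, hRs, polB_comm w n, smul_eq_mul, map_zero, LinearMap.zero_apply]
    ring
  obtain ⟨e0, he0⟩ := hmem
  have hyz' : y.1 z' = z' - d.t u (T n (R a)) := by
    have : z' = d.t u e0 - d.t n (R a) := eq_sub_of_add_eq he0.symm
    rw [this, map_sub, hy.fixW, hy.mid n hn]
    abel
  have hy'z : y'.1 z = z + d.t u (R (d.C n z)) := hy'.rank_one_apply hu0 hR hCz
  have h1 : y.1 (y'.1 v) = y'.1 (y.1 v) := by rw [← orth_mul_apply, hcomm, orth_mul_apply]
  have e1 : y'.1 v = v + z' := by rw [hz']; abel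
  have e2 : y.1 v = v + z := by rw [hz]; abel
  rw [e1, e2, map_add, map_add, hyz', hy'z, e1, e2] at h1
  have h2 : d.t u (T n (R a) + R (d.C n z)) = 0 := by
    rw [map_add]; linear_combination (norm := abel) -h1
  have h3 : T n (R a) + R (d.C n z) = 0 := d.t_injective hu0 (h2.trans (map_zero (d.t u)).symm)
  have h4 := congrArg (fun x => polB d.QS x b) h3
  simp only [map_add, LinearMap.add_apply, hRs, hz, hy.C_mid v hn, hCv, map_zero, LinearMap.zero_apply] at h4
  linear_combination h4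

/-- Two radical elements of a small overgroup commute. -/
theorem comm_of_small (hS : d.Small H) (hu : d.QL u = 0) (hu0 : u ≠ 0) (hy : d.Qel u y T)
    (hy' : d.Qel u y' T') (hm : y ∈ H) (hm' : y' ∈ H) : y * y' = y' * y := by
  have h := hS u _ hu hu0 (mul_mem (mul_mem (mul_mem hm hm') (inv_mem hm)) (inv_mem hm'))
    ((((hy.mul hy').mul hy.inv).mul hy'.inv).congr_T fun x _ e => by simp)
  rwa [mul_inv_eq_one, mul_inv_eq_iff_eq_mul] at h

end Qel

theorem sg_qel (u w : L) (hu : d.QL u = 0) (h : polB d.QL u w = 0) :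
    d.Qel u (d.sg u w) (-(((polB d.QL).flip w).smulRight (LinearMap.id : S →ₗ[F] S))) := by
  refine ⟨fun e => ?_, fun x hx e => ?_⟩
  · rw [d.sg_t hu h, polB_self_zero hu, h]; simp
  · rw [d.sg_t hu h, polB_comm x u, hx]
    simp [sub_eq_add_neg]

end OS

end H98.TE
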