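import Cfsg.Agent.H98.TensOrth.Wedge

/-!
Facts on a quadratic space of dimension three, at least five, or four without singular planes.
-/

set_option autoImplicit false
set_option linter.unusedSectionVars false
set_option linter.unusedSimpArgs false

namespace H98.TE

open H43 H98.TO
open scoped commutatorElement

variable {F : Type*} [Field F] [Finite F] {W : Type*} [AddCommGroup W] [Module F W] [FiniteDimensional F W]
  {Q : QuadraticForm F W}

/-- Orthogonal vectors of the same value beside every hyperbolic pair. -/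
def Same (Q : QuadraticForm F W) : Prop :=
  ∀ {c c' a : W}, HypPair Q c c' → Q a ≠ 0 → polB Q c a = 0 → polB Q c' a = 0 →
    ∃ a', polB Q c a' = 0 ∧ polB Q c' a' = 0 ∧ polB Q a a' = 0 ∧ Q a' = Q a

/-- No two independent orthogonal singular vectors. -/
def NoTS (Q : QuadraticForm F W) : Prop :=
  ∀ u w : W, Q u = 0 → Q w = 0 → polB Q u w = 0 → u ≠ 0 → w ∈ F ∙ u

theorem same_of_five (hQ : (polB Q).Nondegenerate) (h2 : (2 : F) ≠ 0) (h5 : 5 ≤ Module.finrank F W) : Same Q :=
  fun h ha hca hca' => exists_orth_same hQ h2 h5 h ha hca hca'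

/-- Over the field of three elements, without singular planes. -/
theorem same_of_four (hQ : (polB Q).Nondegenerate) (hd : 4 ≤ Module.finrank F W) (hts : NoTS Q)
    (hsq : ∀ t : F, t ≠ 0 → t * t = 1) : Same Q := by
  intro c c' a h ha hca hca'
  obtain ⟨x, hx, hx0⟩ : ∃ x ∈ (polB Q).orthogonal (Submodule.span F ({c, c', a} : Set W)), x ≠ 0 := by
    refine Submodule.exists_mem_ne_zero_of_ne_bot fun hbot => ?_
    have h1 := finrank_orth_add hQ (Submodule.span F ({c, c', a} : Set W))
    rw [hbot, finrank_bot] at h1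
    have h3 : Module.finrank F (Submodule.span F ({c, c', a} : Set W)) ≤ 3 := by
      classical
      have := finrank_span_finset_le_card (R := F) ({c, c', a} : Finset W)
      rw [Set.finrank] at this
      exact le_trans (le_of_eq (by congr 2 <;> simp)) (this.trans Finset.card_le_three)
    omega
  rw [mem_orth_span] at hx
  have x1 := hx c (by simp)
  have x2 := hx c' (by simp)
  have x3 := hx a (by simp)
  have key : ∀ z, polB Q c z = 0 → polB Q c' z = 0 → Q z = 0 → z = 0 := fun z z1 z2 hz => by
    obtain ⟨s, rfl⟩ := Submodule.mem_span_singleton.1 (hts c z h.left hz z1 h.left_ne_zero)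
    rw [map_smul, h.symm.pair, smul_eq_mul, mul_one] at z2
    rw [z2, zero_smul]
  refine ⟨x, x1, x2, x3, ?_⟩
  have hQx : Q x ≠ 0 := fun h0 => hx0 (key x x1 x2 h0)
  by_contra hne
  have hneg : Q x + Q a = 0 := by
    have e1 := hsq _ hQx
    have e2 := hsq _ ha
    have e3 : (Q x - Q a) * (Q x + Q a) = 0 := by linear_combination e1 - e2
    exact (mul_eq_zero.1 e3).resolve_left (sub_ne_zero.2 hne)
  have hz := key (x + a) (by rw [map_add, x1, hca, add_zero]) (by rw [map_add, x2, hca', add_zero])
    (by rw [qmap_add, polB_comm, x3, add_zero, hneg])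
  rw [eq_neg_of_add_eq_zero_left hz, qmap_neg] at hne
  exact hne rfl

/-- A self-adjoint map which is isotropic at all singular vectors is scalar. -/
theorem selfAdj_scalar (hQ : (polB Q).Nondegenerate) (h2 : (2 : F) ≠ 0) (h3 : 3 ≤ Module.finrank F W)
    (hq : (∃ t : F, t ≠ 0 ∧ t * t ≠ 1) ∨ Same Q) (T : W →ₗ[F] W)
    (hT : ∀ x y, polB Q (T x) y = polB Q x (T y)) (h : ∀ n, Q n = 0 → polB Q (T n) n = 0) :
    ∃ r : F, ∀ x, T x = r • x := by
  obtain ⟨u, hu0, hu⟩ := exists_sing hQ h3
  obtain ⟨u', hp⟩ := exists_hypPair hQ hu hu0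
  refine ⟨polB Q (T u) u', fun x => sub_eq_zero.1 ?_⟩
  set r := polB Q (T u) u'
  set T' : W →ₗ[F] W := T - r • LinearMap.id
  show T' x = 0
  have hT' : ∀ x y, polB Q (T' x) y = polB Q x (T' y) := fun x y => by simp [T', hT]
  have h' : ∀ n, Q n = 0 → polB Q (T' n) n = 0 := fun n hn => by
    simp [T', h n hn, polB_self, hn]
  have huu : polB Q (T' u) u' = 0 := by simp [T', r, hp.pair]
  have main : ∀ c c', HypPair Q c c' → polB Q (T' c) c' = 0 → ∀ a, polB Q c a = 0 → polB Q c' a = 0 →
      polB Q (T' a) a = 0 ∧ polB Q (T' c') a = Q a * polB Q (T' c) a := by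
    intro c c' hc hcc a ha ha'
    have e : ∀ t : F, 2 * t * polB Q (T' c') a + t * t * polB Q (T' a) a
        - 2 * (t * t * t) * Q a * polB Q (T' c) a = 0 := by
      intro t
      have hz := h' (c' + t • a + (-(t * t * Q a)) • c) (by
        rw [qmap_add_smul, qmap_add_smul, hc.right, hc.left, ha', map_add, LinearMap.add_apply, hc.symm.pair,
          map_smul, LinearMap.smul_apply, polB_comm a c, ha, smul_zero]
        ring)
      simp only [map_add, map_smul, LinearMap.add_apply, LinearMap.smul_apply, smul_eq_mul, h' c hc.left,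
        h' c' hc.right, hcc, hT' a c', hT' c' c, hT' a c] at hz
      rw [polB_comm c' (T' c), polB_comm a (T' c'), polB_comm a (T' c), hcc] at hz
      linear_combination hz
    have e1 := e 1
    have e2 := e (-1)
    have e3 : (2 : F) * polB Q (T' a) a = 0 := by linear_combination e1 + e2
    have e4 := (mul_eq_zero.1 e3).resolve_left h2
    refine ⟨e4, sub_eq_zero.1 ((mul_eq_zero.1 ?_).resolve_left h2)⟩
    linear_combination e1 - e4
  have huu' : polB Q (T' u') u = 0 := by rw [hT', polB_comm, huu]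
  have hXY : ∀ a, polB Q u a = 0 → polB Q u' a = 0 →
      polB Q (T' u') a = 0 ∧ polB Q (T' u) a = 0 ∧ polB Q (T' a) a = 0 := by
    intro a ha ha'
    obtain ⟨hφ, hX⟩ := main u u' hp huu a ha ha'
    obtain ⟨-, hY⟩ := main u' u hp.symm huu' a ha' ha
    suffices hY0 : polB Q (T' u) a = 0 from ⟨by rw [hX, hY0, mul_zero], hY0, hφ⟩
    rcases eq_or_ne (Q a) 0 with h0 | h0
    · rw [hY, h0, zero_mul]
    rcases hq with ⟨t, ht, ht1⟩ | hsame
    · obtain ⟨-, hXt⟩ := main u u' hp huu (t • a) (by simp [ha]) (by simp [ha'])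
      simp only [map_smul, smul_eq_mul, qmap_smul] at hXt
      have e : t * (1 - t * t) * (Q a * polB Q (T' u) a) = 0 := by
        linear_combination hXt - t * hX
      have h1 : t * (1 - t * t) ≠ 0 := mul_ne_zero ht (sub_ne_zero.2 (Ne.symm ht1))
      exact (mul_eq_zero.1 ((mul_eq_zero.1 e).resolve_left h1)).resolve_left h0
    · obtain ⟨a', hb, hb', haa, hQ'⟩ := hsame hp h0 ha ha'
      obtain ⟨-, hX'⟩ := main u u' hp huu a' hb hb'
      obtain ⟨-, hp1⟩ := main u u' hp huu (a + a') (by simp [ha, hb]) (by simp [ha', hb'])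
      obtain ⟨-, hm1⟩ := main u u' hp huu (a - a') (by simp [ha, hb]) (by simp [ha', hb'])
      simp only [map_add, map_sub, qmap_add, qmap_sub, haa, hQ', hX, hX'] at hp1 hm1
      have e : (2 * Q a) * polB Q (T' u) a = 0 := by linear_combination -hp1 - hm1
      exact (mul_eq_zero.1 e).resolve_left (mul_ne_zero h2 h0)
  refine hQ.1 _ fun y => ?_
  have haa' : ∀ a b, polB Q u a = 0 → polB Q u' a = 0 → polB Q u b = 0 → polB Q u' b = 0 →
      polB Q (T' a) b = 0 := by
    intro a b a1 a2 b1 b2
    have := (hXY (a + b) (by simp [a1, b1]) (by simp [a2, b2])).2.2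
    simp only [map_add, LinearMap.add_apply, (hXY a a1 a2).2.2, (hXY b b1 b2).2.2] at this
    rw [hT' b a, polB_comm b (T' a)] at this
    exact (mul_eq_zero.1 (show (2 : F) * polB Q (T' a) b = 0 by linear_combination this)).resolve_left h2
  have hx1 := pairProj_left hp x
  have hx2 := pairProj_right hp x
  have hy1 := pairProj_left hp y
  have hy2 := pairProj_right hp y
  rw [decomp_pair (Q := Q) u u' x, decomp_pair (Q := Q) u u' y]
  simp only [map_add, map_smul, LinearMap.add_apply, LinearMap.smul_apply, smul_eq_mul, h' u hu,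
    h' u' hp.right, huu, huu', haa' _ _ hx1 hx2 hy1 hy2, (hXY _ hy1 hy2).1, (hXY _ hy1 hy2).2.1,
    hT' (pairProj Q u u' x) u, hT' (pairProj Q u u' x) u',
    polB_comm (pairProj Q u u' x) (T' u), polB_comm (pairProj Q u u' x) (T' u'),
    (hXY _ hx1 hx2).1, (hXY _ hx1 hx2).2.1, mul_zero, add_zero]

theorem scalar_of_comm (hQ : (polB Q).Nondegenerate) (h2 : (2 : F) ≠ 0) (h3 : 3 ≤ Module.finrank F W)
    (hq : (∃ t : F, t ≠ 0 ∧ t * t ≠ 1) ∨ Same Q) (T : W →ₗ[F] W)
    (hT : ∀ x y, polB Q (T x) y = polB Q x (T y))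
    (hc : ∀ n m, Q n = 0 → polB Q n m = 0 → ∀ x,
      T ((eichler Q n m).1 (T ((eichler Q n (-m)).1 x))) =
        (eichler Q n m).1 (T ((eichler Q n (-m)).1 (T x)))) :
    ∃ r : F, ∀ x, T x = r • x := by
  refine selfAdj_scalar hQ h2 h3 hq T hT fun n hn => ?_
  rcases eq_or_ne n 0 with rfl | hn0
  · simp
  by_contra hτ
  -- the even part of the conjugate
  let G : W → W → W := fun m x =>
    T x - (Q m * polB Q x n) • T n
      + (polB Q x m * polB Q (T n) n - polB Q x n * polB Q (T m) n) • m
      - (polB Q x m * polB Q (T n) m - polB Q x n * polB Q (T m) m) • n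
      - (Q m * polB Q (T x) n) • n
      + (Q m * Q m * polB Q x n * polB Q (T n) n) • n
  have hG : ∀ m, polB Q n m = 0 → ∀ x, T (G m x) = G m (T x) := by
    intro m hm x
    have hm' : polB Q n (-m) = 0 := by rw [map_neg, hm, neg_zero]
    have key : ∀ y, (2 : F) • G m y =
        (eichler Q n m).1 (T ((eichler Q n (-m)).1 y)) + (eichler Q n (-m)).1 (T ((eichler Q n m).1 y)) := by
      intro y
      simp only [G, eichler_apply hn hm, eichler_apply hn hm', map_add, map_sub, map_smul, map_neg, qmap_neg,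
        LinearMap.add_apply, LinearMap.sub_apply, LinearMap.smul_apply, LinearMap.neg_apply, smul_eq_mul]
      module
    have e := congrArg₂ (· + ·) (hc n m hn hm x) (hc n (-m) hn hm' x)
    simp only [neg_neg] at e
    rw [← map_add, ← key, ← key, map_smul] at e
    exact (smul_right_inj h2).1 e
  obtain ⟨n', hp⟩ := exists_hypPair hQ hn hn0
  obtain ⟨a, ha, ha', hQa⟩ := exists_aniso_orth_pair hQ h3 hp
  have hZ : ∀ x, polB Q x n • T n = polB Q (T x) n • n := by
    intro x
    suffices h : (Q a * Q a * polB Q (T n) n) • (polB Q x n • T n - polB Q (T x) n • n) = 0 from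
      sub_eq_zero.1 ((smul_eq_zero.1 h).resolve_left (mul_ne_zero (mul_ne_zero hQa hQa) hτ))
    rcases hq with ⟨t, ht, ht1⟩ | hsame
    · have e1 := hG a ha x
      have e2 := hG (t • a) (by rw [map_smul, ha, smul_zero]) x
      simp only [G, map_add, map_sub, map_smul, qmap_smul, smul_eq_mul, LinearMap.smul_apply] at e1 e2
      have hne : t * t * (t * t - 1) ≠ 0 := mul_ne_zero (mul_ne_zero ht ht) (sub_ne_zero.2 ht1)
      refine (smul_eq_zero.1 ?_).resolve_left hne
      linear_combination (norm := module) e2 - (t * t) • e1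
    · obtain ⟨a', hb, -, haa, hQ'⟩ := hsame hp hQa ha ha'
      have e1 := hG a ha x
      have e2 := hG a' hb x
      have e3 := hG (a + a') (by rw [map_add, ha, hb, add_zero]) x
      have e4 := hG (a - a') (by rw [map_sub, ha, hb, sub_zero]) x
      simp only [G, map_add, map_sub, map_smul, qmap_add, qmap_sub, haa, hQ', smul_eq_mul,
        LinearMap.add_apply, LinearMap.sub_apply, LinearMap.smul_apply] at e1 e2 e3 e4
      have h4 : (4 : F) ≠ 0 := by
        rw [show (4 : F) = 2 * 2 by norm_num]; exact mul_ne_zero h2 h2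
      refine (smul_eq_zero.1 ?_).resolve_left h4
      linear_combination (norm := module) e3 + e4 - (2 : F) • e1 - (2 : F) • e2
  have := hZ n'
  rw [hp.symm.pair, one_smul] at this
  apply hτ
  rw [this, map_smul, LinearMap.smul_apply, polB_self, hn, mul_zero, smul_zero]

/-- A subspace of a plane orthogonal to a hyperbolic pair, containing the rotations of one of its vectors. -/
theorem le_of_plane (hQ : (polB Q).Nondegenerate) (h2 : (2 : F) ≠ 0) {n n' w : W} (hp : HypPair Q n n')
    (hts : NoTS Q) (hw0 : w ≠ 0) (hwA : w ∈ (polB Q).orthogonal (Submodule.span F {n, n'}))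
    (hd : Module.finrank F ((polB Q).orthogonal (Submodule.span F ({n, n'} : Set W))) ≤ 2) (J : Submodule F W)
    (hwJ : w ∈ J) (hrot : ∀ a b, a ∈ (polB Q).orthogonal (Submodule.span F {n, n'}) →
      b ∈ (polB Q).orthogonal (Submodule.span F {n, n'}) → Q a ≠ 0 → Q b ≠ 0 → (refl Q a).1 ((refl Q b).1 w) ∈ J) :
    (polB Q).orthogonal (Submodule.span F {n, n'}) ≤ J := by
  set A := (polB Q).orthogonal (Submodule.span F ({n, n'} : Set W)) with hA
  have hQ0 : ∀ z ∈ A, z ≠ 0 → Q z ≠ 0 := fun z hz hz0 hQz => by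
    obtain ⟨z1, z2⟩ := mem_orth_pair.1 hz
    obtain ⟨s, rfl⟩ := Submodule.mem_span_singleton.1 (hts n z hp.left hQz z1 hp.left_ne_zero)
    rw [map_smul, hp.symm.pair, smul_eq_mul, mul_one] at z2
    exact hz0 (by rw [z2, zero_smul])
  have hQw := hQ0 w hwA hw0
  intro x hx
  set z := x - (polB Q x w / (2 * Q w)) • w with hz
  have hzA : z ∈ A := A.sub_mem hx (A.smul_mem _ hwA)
  have hzw : polB Q z w = 0 := by
    rw [hz, map_sub, map_smul, LinearMap.sub_apply, LinearMap.smul_apply, polB_self, smul_eq_mul,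
      div_mul_cancel₀ _ (mul_ne_zero h2 hQw), sub_self]
  suffices z ∈ J by
    have h := J.add_mem this (J.smul_mem (polB Q x w / (2 * Q w)) hwJ)
    rwa [hz, sub_add_cancel] at h
  have hwz : w + z ∈ A := A.add_mem hwA hzA
  rcases eq_or_ne (w + z) 0 with h0 | h0
  · rw [eq_neg_of_add_eq_zero_right h0]
    exact J.neg_mem hwJ
  have h := J.add_mem (hrot w (w + z) hwA hwz hQw (hQ0 _ hwz h0)) hwJ
  rw [refl_apply (w + z) w, map_add (polB Q w), polB_self, polB_comm w z, hzw, add_zero, map_sub, map_smul,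
    map_add (refl Q w).1, refl_self hQw, refl_fix hzw] at h
  have hcoef : (Q (w + z))⁻¹ * (2 * Q w) ≠ 0 := mul_ne_zero (inv_ne_zero (hQ0 _ hwz h0)) (mul_ne_zero h2 hQw)
  rw [show -w - ((Q (w + z))⁻¹ * (2 * Q w)) • (-w + z) + w =
    ((Q (w + z))⁻¹ * (2 * Q w)) • w - ((Q (w + z))⁻¹ * (2 * Q w)) • z by module] at h
  exact (J.smul_mem_iff hcoef).1 ((J.sub_mem_iff_right (J.smul_mem _ hwJ)).1 h)

/-- A nonzero invariant additive set of skew maps contains all wedges with all multiples. -/
theorem wedge_mem (hQ : (polB Q).Nondegenerate) (h2 : (2 : F) ≠ 0) (h3 : 3 ≤ Module.finrank F W)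
    (hd' : Module.finrank F W = 3 ∨ 5 ≤ Module.finrank F W ∨ NoTS Q) (A : AddSubgroup (W →ₗ[F] W))
    (hskew : ∀ X ∈ A, ∀ a b, polB Q (X a) b = -polB Q a (X b))
    (hinv : ∀ g ∈ commutator (orthGroup Q), ∀ X ∈ A, conjMap g X ∈ A) (hne : A ≠ ⊥) (a b : W) (r : F) :
    r • wedge Q a b ∈ A := by
  classical
  haveI := Fintype.ofFinite F
  obtain ⟨p, hp⟩ := CharP.exists F
  haveI := hp
  haveI : Fact p.Prime := ⟨CharP.char_is_prime F p⟩
  haveI : Finite W := Module.finite_of_finite F
  haveI : Finite (W →ₗ[F] W) := Module.finite_of_finite F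
  obtain ⟨n, hn0, hn⟩ := exists_sing hQ h3
  obtain ⟨n', hpn⟩ := exists_hypPair hQ hn hn0
  have hnn := polB_self_zero hn
  -- a fixed point of the unipotent group at `n`
  set M := LinearMap.ker (polB Q n) with hM
  letI : MulAction (Multiplicative M) A :=
    { smul := fun m X => ⟨conjMap (eichler Q n (m.toAdd : W)) X.1,
        hinv _ (eichler_mem_comm hQ h2 h3 hn m.toAdd.2) _ X.2⟩
      one_smul := fun X => Subtype.ext (LinearMap.ext fun x => by
        show (eichler Q n (0 : W)).1 (X.1 (((eichler Q n (0 : W)))⁻¹.1 x)) = X.1 x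
        rw [eichler_zero hn, inv_one, orth_one_apply, orth_one_apply])
      mul_smul := fun m m' X => Subtype.ext (by
        show conjMap (eichler Q n ((m.toAdd : W) + (m'.toAdd : W))) X.1 =
          conjMap (eichler Q n (m.toAdd : W)) (conjMap (eichler Q n (m'.toAdd : W)) X.1)
        rw [← conjMap_mul, eichler_mul hn m.toAdd.2 m'.toAdd.2]) }
  have hpg : IsPGroup p (Multiplicative M) := by
    obtain ⟨k, -, hk⟩ := FiniteField.card F p
    refine IsPGroup.of_card (n := k * Module.finrank F M) ?_
    rw [Nat.card_congr Multiplicative.toAdd, Module.natCard_eq_pow_finrank (K := F), Nat.card_eq_fintype_card,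
      hk, ← pow_mul]
  have hpA : p ∣ Nat.card A := by
    obtain ⟨X, hX, hX0⟩ := A.ne_bot_iff_exists_ne_zero.1 hne |>.elim fun X h =>
      (⟨X.1, X.2, fun h' => h (Subtype.ext h')⟩ : ∃ X ∈ A, X ≠ 0)
    have e : addOrderOf (⟨X, hX⟩ : A) = p := addOrderOf_eq_prime
      (Subtype.ext (by rw [AddSubgroup.coe_nsmul, ← Nat.cast_smul_eq_nsmul F]; simp))
      (fun h => hX0 (congrArg Subtype.val h))
    rw [← e]; exact addOrderOf_dvd_natCard _
  obtain ⟨X₀, hfix, hX₀⟩ := hpg.exists_fixed_point_of_prime_dvd_card_of_fixed_point (α := A) hpA (a := 0)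
    (fun m => Subtype.ext (map_zero (conjMap (eichler Q n (m.toAdd : W)))))
  obtain ⟨X, hXA⟩ := X₀
  have hX0 : X ≠ 0 := fun h => hX₀ (Subtype.ext h.symm)
  have hcm : ∀ m, polB Q n m = 0 → ∀ x, X ((eichler Q n m).1 x) = (eichler Q n m).1 (X x) := by
    intro m hm x
    have h := congrArg Subtype.val (hfix (Multiplicative.ofAdd (⟨m, hm⟩ : M)))
    have h' := LinearMap.congr_fun (show conjMap (eichler Q n m) X = X from h) ((eichler Q n m).1 x)
    rw [conjMap_apply, orth_inv_apply_self] at h'
    exact h'.symm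
  have hsk := hskew X hXA
  have hXnn : polB Q (X n) n = 0 := by
    have := hsk n n
    rw [polB_comm n (X n)] at this
    exact (mul_eq_zero.1 (show (2 : F) * polB Q (X n) n = 0 by linear_combination this)).resolve_left h2
  obtain ⟨a₀, ha₀, ha₀', hQa₀⟩ := exists_aniso_orth_pair hQ h3 hpn
  have hXn : X n = 0 := by
    have horth : ∀ m, polB Q n m = 0 → polB Q (X n) m = 0 := fun m hm => by
      have := hcm m hm n
      rw [eichler_fix hn hm hnn hm, eichler_apply hn hm, hXnn] at this
      simp only [zero_smul, add_zero, mul_zero, sub_zero, eq_comm (a := X n), sub_eq_self] at this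
      exact (smul_eq_zero.1 this).resolve_right hn0
    set s := polB Q (X n) n' with hs
    have hXn' : X n = s • n := sub_eq_zero.1 (hQ.1 _ fun y => by
      have := horth (y - polB Q n y • n') (by simp [hpn.pair])
      simp only [map_sub, map_smul, smul_eq_mul, ← hs] at this
      simp only [map_sub, map_smul, LinearMap.sub_apply, LinearMap.smul_apply, smul_eq_mul]
      linear_combination this)
    suffices s = 0 by rw [hXn', this, zero_smul]
    have hn'n : polB Q (X n') n = -s := by rw [hsk, polB_comm]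
    have hma : polB Q n (-a₀) = 0 := by rw [map_neg, ha₀, neg_zero]
    have e1 := hcm a₀ ha₀ n'
    have e2 := hcm (-a₀) hma n'
    simp only [eichler_apply hn ha₀, eichler_apply hn hma, hpn.symm.pair, ha₀', map_neg, qmap_neg, map_add,
      map_sub, map_smul, hn'n, hXn'] at e1 e2
    have e3 : (2 * (2 * s * Q a₀)) • n = 0 := by linear_combination (norm := module) -e1 - e2
    have := (smul_eq_zero.1 e3).resolve_right hn0
    simpa [mul_eq_zero, h2, hQa₀] using this
  set w := X n' with hwdef
  have hwn : polB Q w n = 0 := by rw [hwdef, hsk, hXn, map_zero, neg_zero]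
  have hwn' : polB Q w n' = 0 := by
    have := hsk n' n'
    rw [polB_comm n' (X n')] at this
    exact (mul_eq_zero.1 (show (2 : F) * polB Q (X n') n' = 0 by linear_combination this)).resolve_left h2
  have hXm : ∀ m, polB Q n m = 0 → X m = -(polB Q w m) • n := by
    intro m hm
    have := hcm m hm n'
    rw [eichler_apply hn hm, eichler_apply hn hm, hpn.symm.pair, ← hwdef, hwn] at this
    simp only [map_add, map_sub, map_smul, hXn, ← hwdef, smul_zero, sub_zero, one_smul, zero_smul, add_zero,
      mul_zero] at this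
    linear_combination (norm := module) this
  have hXw : X = wedge Q n w := LinearMap.ext fun x => by
    have e := hXm (x - polB Q x n • n') (by rw [map_sub, map_smul, hpn.pair, polB_comm n x]; simp)
    rw [map_sub, map_smul, ← hwdef, map_sub, map_smul, hwn', smul_eq_mul, mul_zero, sub_zero] at e
    rw [wedge_apply, polB_comm x w]
    linear_combination (norm := module) e
  have hw0 : w ≠ 0 := fun h => hX0 (by
    rw [hXw, h]; exact LinearMap.ext fun x => by simp [wedge_apply])
  -- all multiples, using squares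
  have hsq : ∀ s : F, s ≠ 0 → (s * s) • wedge Q n w ∈ A := by
    intro s hs
    obtain ⟨g, hg, hgn, hgf⟩ := exists_scale_sq hpn hs
    have := hinv g hg X hXA
    rw [hXw, conjMap_wedge, hgn, hgf w hwn hwn', wedge_swap, wedge_smul, ← smul_neg, ← wedge_swap] at this
    exact this
  have hmul : ∀ s : F, s • wedge Q n w ∈ A := by
    intro s
    obtain ⟨x, y, hxy⟩ := exists_sum_sq_eq (one_ne_zero (α := F)) one_ne_zero s
    have hx : ∀ z : F, (z * z) • wedge Q n w ∈ A := fun z => by
      rcases eq_or_ne z 0 with rfl | hz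
      · simp [A.zero_mem]
      · exact hsq z hz
    have := A.add_mem (hx x) (hx y)
    rwa [← add_smul, show x * x + y * y = s by linear_combination hxy] at this
  -- the submodule of multiples
  let K : Submodule F (W →ₗ[F] W) :=
    { carrier := {X | ∀ s : F, s • X ∈ A}
      zero_mem' := fun s => by rw [smul_zero]; exact A.zero_mem
      add_mem' := fun hX hY s => by rw [smul_add]; exact A.add_mem (hX s) (hY s)
      smul_mem' := fun c X hX s => by rw [smul_smul]; exact hX _ }
  have hKinv : ∀ g ∈ commutator (orthGroup Q), ∀ X ∈ K, conjMap g X ∈ K := fun g hg X hX s => by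
    rw [← map_smul]; exact hinv g hg _ (hX s)
  let J : W → Submodule F W := fun z =>
    K.comap ({ toFun := fun b => wedge Q z b, map_add' := wedge_add z, map_smul' := fun s b => wedge_smul s z b } :
      W →ₗ[F] (W →ₗ[F] W))
  have hJ : ∀ z b, b ∈ J z ↔ wedge Q z b ∈ K := fun z b => Iff.rfl
  -- the orthogonal of `n`
  have hperp : ∀ m, polB Q n m = 0 → m ∈ J n := by
    set A' := (polB Q).orthogonal (Submodule.span F {n, n'}) with hA'
    have hAd := finrank_orth_add hQ (Submodule.span F ({n, n'} : Set W))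
    have hsp : Module.finrank F (Submodule.span F ({n, n'} : Set W)) = 2 := by
      have e : ({n, n'} : Set W) = Set.range ![n, n'] := by simp [Matrix.range_cons, Set.pair_comm]
      rw [e, finrank_span_eq_card hpn.linearIndependent]
      simp
    rw [hsp, ← hA'] at hAd
    have hnd := hpn.restrict_nondeg hQ
    rw [← hA'] at hnd
    have hwA : w ∈ A' := mem_orth_pair.2 ⟨by rw [polB_comm]; exact hwn, by rw [polB_comm]; exact hwn'⟩
    have hnJ : n ∈ J n := by rw [hJ, wedge_self]; exact K.zero_mem
    have hwJ : w ∈ J n := hmul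
    have hrot : ∀ a b, a ∈ A' → b ∈ A' → Q a ≠ 0 → Q b ≠ 0 → (refl Q a).1 ((refl Q b).1 w) ∈ J n := by
      have key : ∀ {p p' : W}, HypPair Q p p' → ∀ z c, z ∈ J p → polB Q p z = 0 → polB Q p' z = 0 →
          polB Q p c = 0 → polB Q p' c = 0 → Q c ≠ 0 → (refl Q c).1 z ∈ J p' := by
        intro p p' hp z c hz hpz hp'z hpc hp'c hQc
        have hc' : polB Q p' (-c) = 0 := by rw [map_neg, hp'c, neg_zero]
        have i1 := hKinv _ (eichler_mem_comm hQ h2 h3 hp.right hp'c) (wedge Q p z) hz
        have i2 := hKinv _ (eichler_mem_comm hQ h2 h3 hp.right hc') (wedge Q p z) hz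
        rw [conjMap_wedge] at i1 i2
        have e := K.sub_mem (K.add_mem i1 i2) (K.smul_mem (2 : F) ((hJ p z).1 hz))
        rw [show wedge Q ((eichler Q p' c).1 p) ((eichler Q p' c).1 z) +
            wedge Q ((eichler Q p' (-c)).1 p) ((eichler Q p' (-c)).1 z) - (2 : F) • wedge Q p z =
            (-(2 * Q c)) • wedge Q p' ((refl Q c).1 z) by
          ext x
          simp only [eichler_apply hp.right hp'c, eichler_apply hp.right hc', hp.pair, hpc, polB_comm z p', hp'z,
            map_neg, qmap_neg, refl_apply, LinearMap.add_apply, LinearMap.sub_apply, LinearMap.smul_apply,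
            wedge_apply, map_add, map_sub, map_smul, smul_eq_mul]
          match_scalars <;> field_simp <;> ring] at e
        exact (hJ _ _).2 ((K.smul_mem_iff (neg_ne_zero.2 (mul_ne_zero h2 hQc))).1 e)
      intro a b ha hb hQa hQb
      obtain ⟨ha1, ha2⟩ := mem_orth_pair.1 ha
      obtain ⟨hb1, hb2⟩ := mem_orth_pair.1 hb
      obtain ⟨hw1, hw2⟩ := mem_orth_pair.1 hwA
      have hbw1 : polB Q n ((refl Q b).1 w) = 0 := by
        rw [refl_apply, map_sub, map_smul, hw1, hb1, smul_zero, sub_zero]
      have hbw2 : polB Q n' ((refl Q b).1 w) = 0 := by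
        rw [refl_apply, map_sub, map_smul, hw2, hb2, smul_zero, sub_zero]
      exact key hpn.symm _ a (key hpn w b hwJ hw1 hw2 hb1 hb2 hQb) hbw2 hbw1 ha2 ha1 hQa
    have hA'J : A' ≤ J n := by
      by_cases hd3 : Module.finrank F W = 3
      · intro z hz
        have h1 : Module.finrank F A' = 1 := by omega
        obtain ⟨s, hs⟩ := (finrank_eq_one_iff_of_nonzero' (⟨w, hwA⟩ : A') (fun h => hw0 (congrArg Subtype.val h))).1
          h1 ⟨z, hz⟩
        have hs' : s • w = z := congrArg Subtype.val hs
        exact hs' ▸ (J n).smul_mem s hwJ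
      · by_cases hd5 : 5 ≤ Module.finrank F W
        swap
        · exact le_of_plane hQ h2 hpn (hd'.resolve_left hd3 |>.resolve_left hd5) hw0 hwA (by rw [← hA']; omega)
            (J n) hwJ fun a b ha hb hQa hQb => hrot a b ha hb hQa hQb
        have hd : 3 ≤ Module.finrank F A' := by omega
        have hstep : ∀ z v : A', (z : W) ∈ J n → Q (v : W) = 0 → polB Q (z : W) (v : W) ≠ 0 → (v : W) ∈ J n := by
          intro z v hz hv hzv
          have hv0 : v ≠ 0 := fun h => hzv (by rw [h]; simp)
          obtain ⟨v', hpv⟩ := exists_hypPair (Q := Q.restrict A') hnd hv hv0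
          obtain ⟨m, hm, -, hQm⟩ := exists_aniso_orth_pair (Q := Q.restrict A') hnd hd hpv
          change polB Q (v : W) (m : W) = 0 at hm
          change Q (m : W) ≠ 0 at hQm
          have hfix : ∀ μ, polB Q (v : W) μ = 0 → polB Q n μ = 0 → (eichler Q (v : W) μ).1 n = n :=
            fun μ h1 h2' => eichler_fix hv h1 (by
              have := (mem_orth_pair.1 v.2).1; exact this) h2'
          have hnm : polB Q n (m : W) = 0 := (mem_orth_pair.1 m.2).1
          have hm' : polB Q (v : W) (-(m : W)) = 0 := by rw [map_neg, hm, neg_zero]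
          have i1 := hKinv _ (eichler_mem_comm hQ h2 h3 hv hm) (wedge Q n z) hz
          have i2 := hKinv _ (eichler_mem_comm hQ h2 h3 hv hm') (wedge Q n z) hz
          rw [conjMap_wedge, hfix _ hm hnm, ← hJ] at i1
          rw [conjMap_wedge, hfix _ hm' (by rw [map_neg, hnm, neg_zero]), ← hJ]
            at i2
          have e := (J n).sub_mem ((J n).add_mem i1 i2) ((J n).smul_mem (2 : F) hz)
          rw [show (eichler Q (v : W) (m : W)).1 z + (eichler Q (v : W) (-(m : W))).1 z - (2 : F) • (z : W) =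
            (-(2 * (Q (m : W) * polB Q (z : W) v))) • (v : W) by
              simp only [eichler_apply hv hm, eichler_apply hv hm', map_neg, qmap_neg]; module] at e
          exact ((J n).smul_mem_iff (neg_ne_zero.2 (mul_ne_zero h2 (mul_ne_zero hQm hzv)))).1 e
        obtain ⟨v₁, hv₁, hwv₁⟩ : ∃ v₁ : A', Q (v₁ : W) = 0 ∧ polB Q w (v₁ : W) ≠ 0 := by
          by_contra hcon
          push Not at hcon
          have h1 : polB (Q.restrict A') ⟨w, hwA⟩ = 0 :=
            hom_zero_of_singular (Q := Q.restrict A') hnd h2 hd _ fun z hz => hcon z hz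
          exact hw0 (congrArg Subtype.val (hnd.1 _ fun z => LinearMap.congr_fun h1 z))
        have hv₁J := hstep ⟨w, hwA⟩ v₁ hwJ hv₁ hwv₁
        have h1 : (J n).mkQ ∘ₗ A'.subtype = 0 :=
          hom_zero_of_nonorth (Q := Q.restrict A') hnd h2 hd _ (n := v₁) hv₁
            (fun h => hwv₁ (by rw [h]; simp)) fun z hz hz' => by
              simp only [LinearMap.comp_apply, Submodule.subtype_apply, Submodule.mkQ_apply,
                Submodule.Quotient.mk_eq_zero]
              exact hstep v₁ z hv₁J hz hz'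
        intro z hz
        simpa [Submodule.Quotient.mk_eq_zero] using LinearMap.congr_fun h1 ⟨z, hz⟩
    intro m hm
    rw [decomp_pair (Q := Q) n n' m, polB_comm m n, hm, zero_smul, add_zero]
    exact (J n).add_mem ((J n).smul_mem _ hnJ)
      (hA'J (mem_orth_pair.2 ⟨pairProj_left hpn m, pairProj_right hpn m⟩))
  -- every singular vector
  have hall : ∀ z, Q z = 0 → ∀ m, polB Q z m = 0 → m ∈ J z := by
    intro z hz m hm
    rcases eq_or_ne z 0 with rfl | hz0
    · rw [hJ, show wedge Q (0 : W) m = 0 from LinearMap.ext fun x => by simp [wedge_apply]]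
      exact K.zero_mem
    obtain ⟨g, hg, s, hs, hgn⟩ := move hQ h2 h3 hn hn0 hz hz0
    have hm' : polB Q n ((g⁻¹).1 m) = 0 := by
      rw [← orth_polB_map g, orth_apply_inv_self, hgn, map_smul, LinearMap.smul_apply, hm, smul_zero]
    have := hKinv g hg (wedge Q n ((g⁻¹).1 m)) (hperp _ hm')
    rw [conjMap_wedge, orth_apply_inv_self, hgn, wedge_swap, wedge_smul,
      ← smul_neg, ← wedge_swap] at this
    exact (K.smul_mem_iff hs).1 this
  have hsing : ∀ z z', Q z = 0 → Q z' = 0 → z' ∈ J z := by
    intro z z' hz hz'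
    by_cases h0 : polB Q z z' = 0
    · exact hall z hz z' h0
    set k := polB Q z z'
    set z₁ := k⁻¹ • z' with hz₁
    have hq : HypPair Q z z₁ := ⟨hz, by rw [hz₁, qmap_smul, hz', mul_zero],
      by rw [hz₁, map_smul, smul_eq_mul]; exact inv_mul_cancel₀ h0⟩
    obtain ⟨c, hc, hc', hQc⟩ := exists_aniso_orth_pair hQ h3 hq
    have i0 := hall z hz c hc
    have i1 := hKinv _ (eichler_mem_comm hQ h2 h3 hq.right hc') (wedge Q z c) i0
    have i2 := hall z₁ hq.right c hc'
    rw [conjMap_wedge] at i1
    rw [hJ] at i0 i2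
    have e := K.add_mem (K.sub_mem i0 i1) (K.smul_mem (Q c) i2)
    rw [show wedge Q z c - wedge Q ((eichler Q z₁ c).1 z) ((eichler Q z₁ c).1 c) + Q c • wedge Q z₁ c
        = (2 * Q c) • wedge Q z z₁ by
      ext x
      simp only [eichler_apply hq.right hc', hq.pair, polB_comm c z₁, hc', hc, polB_self,
        LinearMap.add_apply, LinearMap.sub_apply, LinearMap.smul_apply, wedge_apply, map_add, map_sub, map_smul,
        smul_eq_mul]
      module] at e
    have h1 : z₁ ∈ J z := (K.smul_mem_iff (mul_ne_zero h2 hQc)).1 e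
    exact ((J z).smul_mem_iff (inv_ne_zero h0)).1 h1
  have hfull : ∀ z, Q z = 0 → ∀ m, m ∈ J z := fun z hz m => by
    simpa [Submodule.Quotient.mk_eq_zero] using LinearMap.congr_fun
      (hom_zero_of_singular hQ h2 h3 (J z).mkQ fun z' hz' => by
        rw [Submodule.mkQ_apply, Submodule.Quotient.mk_eq_zero]; exact hsing z z' hz hz') m
  have h1 : b ∈ J a := by
    have hfull' : ∀ m, Q m = 0 → m ∈ J a := fun m hm => by
      rw [hJ, wedge_swap]; exact K.neg_mem (hfull m hm a)
    simpa [Submodule.Quotient.mk_eq_zero] using LinearMap.congr_fun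
      (hom_zero_of_singular hQ h2 h3 (J a).mkQ fun z' hz' => by
        rw [Submodule.mkQ_apply, Submodule.Quotient.mk_eq_zero]; exact hfull' z' hz') b
  exact h1 r

end H98.TE
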