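import Cfsg.Agent.H98.TensEven.Root
import Cfsg.Agent.H98.TensEven.Eig
import Cfsg.Agent.H98.TensOrth.Wedge

/-!
Subspaces spanned by pure tensors, determinants and involutions of the product.
-/

set_option autoImplicit false
set_option linter.unusedSectionVars false

namespace H98.TE

open H43 H98.TO
open scoped TensorProduct

variable {F : Type*} [Field F] [Finite F]
  {L : Type*} [AddCommGroup L] [Module F L] [FiniteDimensional F L]
  {S : Type*} [AddCommGroup S] [Module F S] [FiniteDimensional F S]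
  {V : Type*} [AddCommGroup V] [Module F V] [FiniteDimensional F V]

namespace OS

/-- The span of the products of two subspaces. -/
noncomputable def TP (d : OS F L S V) (R : Submodule F L) (U : Submodule F S) : Submodule F V :=
  LinearMap.range (d.Φ.toLinearMap ∘ₗ TensorProduct.map R.subtype U.subtype)

/-- The span of the columns of a subspace. -/
noncomputable def TS (d : OS F L S V) (R : Submodule F L) : Submodule F V := d.TP R ⊤

variable {d : OS F L S V}

theorem t_mem_TP {R : Submodule F L} {U : Submodule F S} {x : L} (hx : x ∈ R) {e : S} (he : e ∈ U) :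
    d.t x e ∈ d.TP R U :=
  ⟨(⟨x, hx⟩ : R) ⊗ₜ ⟨e, he⟩, by simp [d.t_apply]⟩

theorem t_mem_TS {R : Submodule F L} {x : L} (hx : x ∈ R) (e : S) : d.t x e ∈ d.TS R :=
  t_mem_TP hx Submodule.mem_top

theorem TP_le {R : Submodule F L} {U : Submodule F S} {X : Submodule F V}
    (h : ∀ x ∈ R, ∀ e ∈ U, d.t x e ∈ X) : d.TP R U ≤ X := by
  rintro _ ⟨v, rfl⟩
  induction v using TensorProduct.induction_on with
  | zero => rw [map_zero]; exact zero_mem _
  | tmul x e => simpa [d.t_apply] using h x x.2 e e.2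
  | add v w hv hw => rw [map_add]; exact add_mem hv hw

theorem TS_le {R : Submodule F L} {X : Submodule F V} (h : ∀ x ∈ R, ∀ e, d.t x e ∈ X) : d.TS R ≤ X :=
  TP_le fun x hx e _ => h x hx e

theorem TP_le_TS {R R' : Submodule F L} {U : Submodule F S} (h : R ≤ R') : d.TP R U ≤ d.TS R' :=
  TP_le fun _ hx e _ => t_mem_TS (h hx) e

theorem finrank_TP (R : Submodule F L) (U : Submodule F S) :
    Module.finrank F (d.TP R U) = Module.finrank F R * Module.finrank F U := by
  obtain ⟨ψ₁, hψ₁⟩ := LinearMap.exists_leftInverse_of_injective R.subtype (Submodule.ker_subtype _)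
  obtain ⟨ψ₂, hψ₂⟩ := LinearMap.exists_leftInverse_of_injective U.subtype (Submodule.ker_subtype _)
  have hinj : Function.Injective (d.Φ.toLinearMap ∘ₗ TensorProduct.map R.subtype U.subtype) := by
    refine d.Φ.injective.comp (Function.LeftInverse.injective (g := TensorProduct.map ψ₁ ψ₂) fun v => ?_)
    rw [← LinearMap.comp_apply, ← TensorProduct.map_comp, hψ₁, hψ₂, TensorProduct.map_id, LinearMap.id_apply]
  exact (LinearMap.finrank_range_of_inj hinj).trans Module.finrank_tensorProduct

theorem finrank_TS (R : Submodule F L) :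
    Module.finrank F (d.TS R) = Module.finrank F R * Module.finrank F S := by
  rw [TS, finrank_TP, finrank_top]

theorem fix_TS {R : Submodule F L} {g : orthGroup d.Q} (h : ∀ x ∈ R, ∀ e, g.1 (d.t x e) = d.t x e) {v : V}
    (hv : v ∈ d.TS R) : g.1 v = v := by
  have h1 : d.TS R ≤ LinearMap.ker ((g.1 : V →ₗ[F] V) - 1) := TS_le fun x hx e => by
    simp [sub_eq_zero, h x hx e]
  simpa [sub_eq_zero] using h1 hv

theorem map_TS {R R' : Submodule F L} {g : orthGroup d.Q} (h : ∀ x ∈ R, ∀ e, g.1 (d.t x e) ∈ d.TS R') {v : V}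
    (hv : v ∈ d.TS R) : g.1 v ∈ d.TS R' :=
  (TS_le (X := (d.TS R').comap g.1.toLinearMap) h) hv

theorem TS_orth (R : Submodule F L) :
    (polB d.Q).orthogonal (d.TS R) = d.TS ((polB d.QL).orthogonal R) := by
  symm
  refine Submodule.eq_of_le_of_finrank_le (TS_le fun y hy e v hv => ?_) ?_
  · have h : d.TS R ≤ LinearMap.ker ((polB d.Q).flip (d.t y e)) := TS_le fun x hx e' => by
      show polB d.Q (d.t x e') (d.t y e) = 0
      rw [d.f_t, hy x hx, zero_mul]
    exact h hv
  · have h1 := finrank_orth_add d.nd (d.TS R)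
    rw [finrank_TS, d.finrank_eq] at h1
    rw [finrank_TS, ← finrank_orth_add d.ndL R, Nat.add_mul] at *
    omega

theorem mem_TS_iff {R : Submodule F L} {v : V} :
    v ∈ d.TS R ↔ ∀ w ∈ (polB d.QL).orthogonal R, d.C w v = 0 := by
  constructor
  · intro hv w hw
    refine d.S_ext fun e => ?_
    rw [d.b_C, map_zero, LinearMap.zero_apply]
    have h := t_mem_TS (d := d) hw e
    rw [← TS_orth] at h
    exact h v hv
  · intro h
    have e : d.TS R = (polB d.Q).orthogonal (d.TS ((polB d.QL).orthogonal R)) := by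
      rw [← TS_orth, LinearMap.BilinForm.orthogonal_orthogonal d.nd (polB_isRefl d.Q)]
    rw [e]
    intro z hz
    have h1 : d.TS ((polB d.QL).orthogonal R) ≤ LinearMap.ker (polB d.Q v) := TS_le fun w hw e' => by
      rw [LinearMap.mem_ker, ← d.b_C, h w hw, map_zero, LinearMap.zero_apply]
    show polB d.Q z v = 0
    rw [polB_comm]
    exact h1 hz

theorem of_t_mem_TS {R : Submodule F L} {x : L} {e : S} (he : e ≠ 0) (h : d.t x e ∈ d.TS R) : x ∈ R := by
  rw [← LinearMap.BilinForm.orthogonal_orthogonal d.ndL (polB_isRefl d.QL) R]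
  intro w hw
  have h1 := mem_TS_iff.1 h w hw
  rw [d.C_t, smul_eq_zero] at h1
  show polB d.QL w x = 0
  rw [polB_comm]
  exact h1.resolve_right he

/-- A direct orthogonal decomposition passes to the columns. -/
theorem TS_inf_orth {P : Submodule F L} (hP : P ⊓ (polB d.QL).orthogonal P = ⊥) :
    d.TS P ⊓ d.TS ((polB d.QL).orthogonal P) = ⊥ := by
  have h1 := Submodule.finrank_sup_add_finrank_inf_eq (d.TS P) (d.TS ((polB d.QL).orthogonal P))
  have h2 := Submodule.finrank_sup_add_finrank_inf_eq P ((polB d.QL).orthogonal P)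
  rw [hP, finrank_bot] at h2
  have h3 := finrank_orth_add d.ndL P
  have hPsup : P ⊔ (polB d.QL).orthogonal P = ⊤ := Submodule.eq_top_of_finrank_eq (by omega)
  have hsup : d.TS P ⊔ d.TS ((polB d.QL).orthogonal P) = ⊤ := by
    rw [eq_top_iff]
    rintro v -
    have h4 : (d.TS P ⊔ d.TS ((polB d.QL).orthogonal P)).mkQ = 0 := d.hom_ext fun x e => by
      simp only [Submodule.mkQ_apply, LinearMap.zero_apply, Submodule.Quotient.mk_eq_zero]
      obtain ⟨a, ha, b, hb, rfl⟩ := Submodule.mem_sup.1 (show x ∈ P ⊔ (polB d.QL).orthogonal P by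
        rw [hPsup]; trivial)
      rw [map_add, LinearMap.add_apply]
      exact Submodule.add_mem_sup (t_mem_TS ha e) (t_mem_TS hb e)
    simpa [Submodule.Quotient.mk_eq_zero] using LinearMap.congr_fun h4 v
  rw [hsup, finrank_top, finrank_TS, finrank_TS, d.finrank_eq, ← h3, Nat.add_mul] at h1
  exact Submodule.finrank_eq_zero.1 (by omega)

/-! Involutions of the first factor. -/

theorem liftL_pos {α : orthGroup d.QL} {v : V} (hv : v ∈ d.TS (pos α)) : (d.liftL α).1 v = v :=
  fix_TS (fun x hx e => by rw [d.liftL_t, mem_pos.1 hx]) hv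

theorem liftL_neg {α : orthGroup d.QL} {v : V} (hv : v ∈ d.TS (neg α)) : (d.liftL α).1 v = -v := by
  have h1 : d.TS (neg α) ≤ LinearMap.ker (((d.liftL α).1 : V →ₗ[F] V) + 1) := TS_le fun x hx e => by
    simp [d.liftL_t, mem_neg.1 hx]
  simpa [add_eq_zero_iff_eq_neg] using h1 hv

theorem liftL_sq {α : orthGroup d.QL} (hα : α * α = 1) : d.liftL α * d.liftL α = 1 := by
  rw [← map_mul, hα, map_one]

theorem resid_liftL {α : orthGroup d.QL} (hα : α * α = 1) : resid (d.liftL α) = d.TS (neg α) := by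
  refine le_antisymm ?_ fun v hv => ?_
  · rintro _ ⟨v, rfl⟩
    have h : (d.TS (neg α)).mkQ ∘ₗ resMap (d.liftL α) = 0 := d.hom_ext fun x e => by
      simp only [LinearMap.comp_apply, Submodule.mkQ_apply, LinearMap.zero_apply, Submodule.Quotient.mk_eq_zero,
        resMap_apply, d.liftL_t]
      rw [← LinearMap.sub_apply, ← map_sub]
      exact t_mem_TS (sub_mem_neg hα x) e
    simpa [Submodule.Quotient.mk_eq_zero] using LinearMap.congr_fun h v
  · rw [resid_invol d.two (liftL_sq hα)]
    exact mem_neg.2 (liftL_neg hv)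

theorem neg_liftL {α : orthGroup d.QL} (hα : α * α = 1) : neg (d.liftL α) = d.TS (neg α) := by
  rw [← resid_invol d.two (liftL_sq hα), resid_liftL hα]

theorem pos_liftL {α : orthGroup d.QL} (hα : α * α = 1) {v : V} (hv : (d.liftL α).1 v = v) :
    v ∈ d.TS (pos α) := by
  have h : (d.TS (pos α)).mkQ ∘ₗ (LinearMap.id + (d.liftL α).1.toLinearMap) = 0 := d.hom_ext fun x e => by
    simp only [LinearMap.comp_apply, Submodule.mkQ_apply, LinearMap.zero_apply, Submodule.Quotient.mk_eq_zero,
      LinearMap.add_apply, LinearMap.id_apply, LinearEquiv.coe_coe, d.liftL_t]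
    rw [← LinearMap.add_apply, ← map_add]
    exact t_mem_TS (add_mem_pos hα x) e
  have h1 := LinearMap.congr_fun h v
  simp only [LinearMap.comp_apply, Submodule.mkQ_apply, LinearMap.zero_apply, Submodule.Quotient.mk_eq_zero,
    LinearMap.add_apply, LinearMap.id_apply, LinearEquiv.coe_coe, hv, ← two_smul F v] at h1
  exact ((d.TS (pos α)).smul_mem_iff d.two).1 h1

/-- Elements commuting with an involution of the first factor preserve its eigenspaces. -/
theorem commute_pos {α : orthGroup d.QL} (hα : α * α = 1) {z : orthGroup d.Q} (hz : Commute z (d.liftL α))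
    {v : V} (hv : v ∈ d.TS (pos α)) : z.1 v ∈ d.TS (pos α) := by
  refine pos_liftL hα ?_
  rw [← orth_mul_apply, ← hz.eq, orth_mul_apply, liftL_pos hv]

theorem commute_neg {α : orthGroup d.QL} (hα : α * α = 1) {z : orthGroup d.Q} (hz : Commute z (d.liftL α))
    {v : V} (hv : v ∈ d.TS (neg α)) : z.1 v ∈ d.TS (neg α) := by
  rw [← neg_liftL hα, mem_neg, ← orth_mul_apply, ← hz.eq, orth_mul_apply, liftL_neg hv, map_neg]

/-! Determinants and spinor norms. -/

theorem detHom_liftS (γ : orthGroup d.QS) :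
    detHom d.Q (d.liftS γ) = detHom d.QS γ ^ Module.finrank F L := by
  classical
  apply Units.ext
  rw [coe_detHom, Units.val_pow_eq_pow_val, coe_detHom,
    show ((d.liftS γ).1 : V →ₗ[F] V) = d.Φ.toLinearMap ∘ₗ
      TensorProduct.map LinearMap.id (γ.1 : S →ₗ[F] S) ∘ₗ d.Φ.symm.toLinearMap from rfl, LinearMap.det_conj]
  let bL := Module.finBasis F L
  let bS := Module.finBasis F S
  rw [← LinearMap.det_toMatrix (bL.tensorProduct bS), TensorProduct.toMatrix_map, Matrix.det_kronecker,
    LinearMap.toMatrix_id, Matrix.det_one, one_pow, one_mul, LinearMap.det_toMatrix, Fintype.card_fin]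

theorem detHom_liftL (hs : Even (Module.finrank F S)) (α : orthGroup d.QL) :
    detHom d.Q (d.liftL α) = 1 := by
  classical
  apply Units.ext
  rw [coe_detHom, Units.val_one,
    show ((d.liftL α).1 : V →ₗ[F] V) = d.Φ.toLinearMap ∘ₗ
      TensorProduct.map (α.1 : L →ₗ[F] L) LinearMap.id ∘ₗ d.Φ.symm.toLinearMap from rfl, LinearMap.det_conj]
  let bL := Module.finBasis F L
  let bS := Module.finBasis F S
  rw [← LinearMap.det_toMatrix (bL.tensorProduct bS), TensorProduct.toMatrix_map, Matrix.det_kronecker,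
    LinearMap.toMatrix_id, Matrix.det_one, one_pow, mul_one, LinearMap.det_toMatrix, Fintype.card_fin,
    ← coe_detHom]
  rcases detHom_cases d.ndL α with h | h <;> simp [h, hs.neg_one_pow]

/-- The reflection of the first factor as a product of reflections. -/
theorem liftL_refl_prod {n : L} (hn : d.QL n ≠ 0) {m : ℕ} (b : Module.Basis (Fin m) F S)
    (hb : ∀ i j, i ≠ j → polB d.QS (b i) (b j) = 0) :
    d.liftL (refl d.QL n) = (List.ofFn fun i => refl d.Q (d.t n (b i))).prod := by
  have hne : ∀ i, polB d.QS (b i) (b i) ≠ 0 := fun i h0 => b.ne_zero i (d.ndS.1 _ fun z => by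
    have : polB d.QS (b i) = 0 := b.ext fun j => by
      by_cases hij : i = j
      · rw [← hij, h0, LinearMap.zero_apply]
      · rw [hb i j hij, LinearMap.zero_apply]
    rw [this, LinearMap.zero_apply])
  have key : ∀ (l : List (Fin m)), l.Nodup → ∀ a j,
      (l.map fun i => refl d.Q (d.t n (b i))).prod.1 (d.t a (b j)) =
        if j ∈ l then d.t ((refl d.QL n).1 a) (b j) else d.t a (b j) := by
    intro l
    induction l with
    | nil => intro _ a j; simp [orth_one_apply]
    | cons i l ih =>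
      intro hnd a j
      rw [List.nodup_cons] at hnd
      rw [List.map_cons, List.prod_cons, orth_mul_apply, ih hnd.2]
      by_cases hij : j = i
      · subst hij
        rw [if_neg hnd.1, if_pos (List.mem_cons_self ..), refl_apply, d.f_t, d.Q_t, refl_apply, map_sub,
          map_smul, LinearMap.sub_apply, LinearMap.smul_apply]
        have h1 : d.QS (b j) ≠ 0 := fun h => hne j (by rw [polB_self, h, mul_zero])
        rw [polB_self]
        match_scalars <;> field_simp [d.two]
      · have hfix : ∀ x, (refl d.Q (d.t n (b i))).1 (d.t x (b j)) = d.t x (b j) := fun x =>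
          refl_fix (by rw [d.f_t, hb j i hij, mul_zero])
        by_cases hjl : j ∈ l
        · rw [if_pos hjl, if_pos (List.mem_cons_of_mem _ hjl), hfix]
        · rw [if_neg hjl, if_neg (fun h => (List.mem_cons.1 h).elim hij hjl), hfix]
  refine d.orth_ext' fun a x => ?_
  have h1 : (d.liftL (refl d.QL n)).1.toLinearMap ∘ₗ d.t a =
      ((List.ofFn fun i => refl d.Q (d.t n (b i))).prod).1.toLinearMap ∘ₗ d.t a := b.ext fun j => by
    rw [LinearMap.comp_apply, LinearMap.comp_apply, List.ofFn_eq_map]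
    show (d.liftL (refl d.QL n)).1 (d.t a (b j)) = _
    rw [d.liftL_t]
    exact ((key _ (List.nodup_finRange m) a j).trans (if_pos (List.mem_finRange j))).symm
  exact LinearMap.congr_fun h1 x

/-- All reflections of the first factor lie in an overgroup. -/
theorem liftL_refl_mem {H : Subgroup (orthGroup d.Q)} (hH : d.Over H) (hodd : Odd (Module.finrank F L))
    (hs : Even (Module.finrank F S)) {n : L} (hn : d.QL n ≠ 0) : d.liftL (refl d.QL n) ∈ H := by
  classical
  haveI := Fintype.ofFinite F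
  have hchar : ringChar F ≠ 2 := fun h => d.two (by
    have := ringChar.Nat.cast_ringChar (R := F)
    rw [h] at this
    exact_mod_cast this)
  obtain ⟨α, hα⟩ := FiniteField.exists_nonsquare hchar
  obtain ⟨m, hm⟩ := Nat.exists_eq_add_of_le (show 1 ≤ Module.finrank F S by have := d.three; omega)
  obtain ⟨b, hb, -, -⟩ := exists_orth_basis d.two (polB d.QS) ⟨fun x y => polB_comm x y⟩ d.ndS (n := m)
    (by omega) α hα
  have hb0 : ∀ i, d.QS (b i) ≠ 0 := fun i h0 => b.ne_zero i (d.ndS.1 _ fun z => by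
    have : polB d.QS (b i) = 0 := b.ext fun j => by
      by_cases hij : i = j
      · rw [← hij, polB_self, h0, mul_zero, LinearMap.zero_apply]
      · rw [hb i j hij, LinearMap.zero_apply]
    rw [this, LinearMap.zero_apply])
  have hgen : ReflGenerates F V := reflGenerates_of_two_ne_zero d.two
  have hinv : ∀ n, d.QL n ≠ 0 → invHom d.nd hgen (d.liftL (refl d.QL n)) =
      ∏ i, ((Multiplicative.ofAdd 1, sqc (2 * d.QS (b i))) : Multiplicative (ZMod 2) × SqClass F) := by
    intro n hn
    rw [liftL_refl_prod hn b hb, map_list_prod, List.map_ofFn, List.prod_ofFn]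
    have e : ∀ i, invHom d.nd hgen (refl d.Q (d.t n (b i))) =
        ((1, sqc (d.QL n)) : Multiplicative (ZMod 2) × SqClass F) *
          (Multiplicative.ofAdd 1, sqc (2 * d.QS (b i))) := fun i => by
      have h1 : d.Q (d.t n (b i)) = d.QL n * (2 * d.QS (b i)) := by rw [d.Q_t]; ring
      have h2 : 2 * d.QS (b i) ≠ 0 := mul_ne_zero d.two (hb0 i)
      rw [invHom_refl d.nd hgen (by rw [h1]; exact mul_ne_zero hn h2), h1, sqc_mul hn h2, Prod.mk_mul_mk, one_mul]
    simp only [Function.comp_def, e]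
    rw [Finset.prod_mul_distrib, Finset.prod_const, Finset.card_univ, Fintype.card_fin]
    obtain ⟨k, hk⟩ := hs
    have hsq : ((1, sqc (d.QL n)) : Multiplicative (ZMod 2) × SqClass F) ^ (m + 1) = 1 := by
      rw [show m + 1 = k + k by omega, pow_add, ← mul_pow, Prod.mk_mul_mk, one_mul, sqClass_mul_self,
        Prod.mk_one_one, one_pow]
    rw [hsq, one_mul]
  obtain ⟨u, hu0, hu⟩ := exists_sing d.ndL d.threeL
  obtain ⟨u', hp⟩ := exists_hypPair d.ndL hu hu0
  obtain ⟨a, -, hg⟩ := exists_good hp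
  have h2 : d.liftL (refl d.QL n) * d.liftL (refl d.QL (u + a • u')) ∈ commutator (orthGroup d.Q) := by
    have h3 := d.three
    have h4 := d.four
    rw [commutator_eq_invKer d.nd hgen (by rw [d.finrank_eq]; nlinarith), MonoidHom.mem_ker, map_mul, hinv n hn,
      ← hinv _ hg.1, ← map_mul, ← map_mul, refl_sq, map_one, map_one]
  have h3 := mul_mem (hH.tens_mem _ ((d.liftL_isT _).mul (d.liftL_isT _)) h2) (hH.refl_mem hodd hg)
  rwa [mul_assoc, ← map_mul, refl_sq, map_one, mul_one] at h3

/-! Normal forms of products. -/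

/-- A product fixing an anisotropic column comes from the first factor. -/
theorem eq_liftL_of_fix {g : orthGroup d.Q} (hg : d.IsT g) {n : L} (hn : d.QL n ≠ 0)
    (hfix : ∀ e, g.1 (d.t n e) = d.t n e) : ∃ α : orthGroup d.QL, g = d.liftL α ∧ α.1 n = n := by
  obtain ⟨a, c, hac⟩ := hg
  obtain ⟨e₁, e₂, he₁, he₁₂⟩ := exists_bS_one (d := d)
  have hB : polB d.QL n n ≠ 0 := by rw [polB_self]; exact mul_ne_zero d.two hn
  have hce : ∀ e, polB d.QL (a n) n • c e = polB d.QL n n • e := fun e => by
    have h := congrArg (d.C n) (hfix e)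
    rwa [hac, d.tens_t, d.C_t, d.C_t] at h
  have hk : polB d.QL (a n) n ≠ 0 := fun h0 => by
    have h := hce e₁
    rw [h0, zero_smul, eq_comm, smul_eq_zero] at h
    exact h.elim hB he₁
  set r := polB d.QL n n / polB d.QL (a n) n with hr
  have hr0 : r ≠ 0 := div_ne_zero hB hk
  have hc : ∀ e, c e = r • e := fun e => by
    rw [hr, div_eq_inv_mul, mul_smul, ← hce e, smul_smul, inv_mul_cancel₀ hk, one_smul]
  have hg' : ∀ x e, g.1 (d.t x e) = d.t (r • a x) e := fun x e => by
    rw [hac, d.tens_t, hc, map_smul, map_smul, LinearMap.smul_apply]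
  let α : orthGroup d.QL := ⟨a ≪≫ₗ LinearEquiv.smulOfNeZero F L r hr0, fun x => by
    show d.QL (r • a x) = d.QL x
    refine mul_left_cancel₀ d.two ?_
    rw [← polB_self, ← polB_self]
    have h := orth_polB_map g (d.t x e₁) (d.t x e₂)
    rwa [hg', hg', d.f_t, d.f_t, he₁₂, mul_one, mul_one] at h⟩
  refine ⟨α, d.orth_ext' fun x e => by rw [hg', d.liftL_t]; rfl, ?_⟩
  show r • a n = n
  exact d.t_left_ne he₁ (by rw [← hg', hfix])

/-- Involutory products split into involutions. -/
theorem invol_factors (hodd : Odd (Module.finrank F L)) {g : orthGroup d.Q} (hg : d.IsT g) (hgg : g * g = 1) :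
    ∃ (α : orthGroup d.QL) (γ : orthGroup d.QS), g = d.liftL α * d.liftS γ ∧ α * α = 1 ∧ γ * γ = 1 := by
  obtain ⟨a, c, hac⟩ := hg
  obtain ⟨u, hu0, hu⟩ := exists_sing d.ndL d.threeL
  obtain ⟨u', hp⟩ := exists_hypPair d.ndL hu hu0
  obtain ⟨e₁, e₂, he₁, he₁₂⟩ := exists_bS_one (d := d)
  set k := polB d.QL (a u) (a u') with hk
  have hcs : ∀ e e', k * polB d.QS (c e) (c e') = polB d.QS e e' := fun e e' => by
    rw [hk, isom_factors hac, hp.pair, one_mul]
  have hk0 : k ≠ 0 := fun h0 => by
    have h := hcs e₁ e₂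
    rw [h0, zero_mul, he₁₂] at h
    exact zero_ne_one h
  have has : ∀ x y, polB d.QL (a x) (a y) = k * polB d.QL x y := fun x y => by
    have h2 := hcs e₁ e₂
    have h3 := isom_factors hac x y e₁ e₂
    rw [he₁₂] at h2 h3
    linear_combination k * h3 - polB d.QL (a x) (a y) * h2
  obtain ⟨r, hr⟩ := simil_square d.ndL hodd a.toLinearMap hk0 has
  have hr0 : r ≠ 0 := fun h => hk0 (by rw [hr, h, mul_zero])
  let α : orthGroup d.QL := ⟨a ≪≫ₗ LinearEquiv.smulOfNeZero F L r⁻¹ (inv_ne_zero hr0), fun x => by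
    show d.QL (r⁻¹ • a x) = d.QL x
    refine mul_left_cancel₀ d.two ?_
    rw [qmap_smul, mul_left_comm, ← polB_self, ← polB_self, has, hr]
    field_simp⟩
  let γ : orthGroup d.QS := ⟨c ≪≫ₗ LinearEquiv.smulOfNeZero F S r hr0, fun e => by
    show d.QS (r • c e) = d.QS e
    refine mul_left_cancel₀ d.two ?_
    rw [qmap_smul, mul_left_comm, ← polB_self, ← polB_self, ← hcs e e, hr]⟩
  have hg' : g = d.liftL α * d.liftS γ := d.orth_ext' fun x e => by
    rw [orth_mul_apply, d.liftS_t, d.liftL_t, hac, d.tens_t]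
    show d.t (a x) (c e) = d.t (r⁻¹ • a x) (r • c e)
    rw [map_smul (d.t (r⁻¹ • a x)), map_smul, LinearMap.smul_apply, smul_smul, mul_inv_cancel₀ hr0, one_smul]
  have hsq : ∀ x e, d.t (α.1 (α.1 x)) (γ.1 (γ.1 e)) = d.t x e := fun x e => by
    have h : (g * g).1 (d.t x e) = d.t x e := by rw [hgg]; rfl
    rwa [hg', orth_mul_apply, orth_mul_apply, orth_mul_apply, d.liftS_t, d.liftL_t, d.liftS_t, d.liftL_t] at h
  obtain ⟨z, hz⟩ := exists_polB_eq d.ndS (show γ.1 (γ.1 e₁) ≠ 0 by simpa using he₁) 1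
  set lam := polB d.QS e₁ z
  have hα2 : ∀ x, α.1 (α.1 x) = lam • x := fun x => by
    have h := congrArg (d.D z) (hsq x e₁)
    rwa [d.D_t, d.D_t, hz, one_smul] at h
  have hlam : lam * lam = 1 := by
    have h : polB d.QL (α.1 (α.1 u)) (α.1 (α.1 u')) = 1 := by rw [orth_polB_map, orth_polB_map, hp.pair]
    rw [hα2, hα2] at h
    simpa [hp.pair] using h
  have hlam1 : lam = 1 := by
    refine (mul_self_eq_one_iff.1 hlam).resolve_right fun hneg => ?_
    obtain ⟨x, hx, hx0⟩ := exists_ker_skew d.ndL d.two hodd α.1.toLinearMap fun x y => by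
      show polB d.QL (α.1 x) y = -polB d.QL x (α.1 y)
      rw [← orth_polB_map α (α.1 x) y, hα2, hneg]
      simp
    exact hx (α.1.map_eq_zero_iff.1 hx0)
  refine ⟨α, γ, hg', orth_ext fun x => ?_, orth_ext fun e => ?_⟩
  · rw [orth_mul_apply, hα2, hlam1, one_smul, orth_one_apply]
  · have h := hsq u e
    rw [hα2, hlam1, one_smul] at h
    rw [orth_mul_apply, orth_one_apply]
    exact d.t_injective hp.left_ne_zero h

end OS

end H98.TE
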