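import Cfsg.Agent.H98.TensEven.ShapeFour

/-!
In a small overgroup the radical of a singular column consists of Siegel elements only.
-/

set_option autoImplicit false
set_option linter.unusedSectionVars false

namespace H98.TE

open H43 H98.TO

variable {F : Type*} [Field F] [Finite F]
  {L : Type*} [AddCommGroup L] [Module F L] [FiniteDimensional F L]
  {S : Type*} [AddCommGroup S] [Module F S] [FiniteDimensional F S]
  {V : Type*} [AddCommGroup V] [Module F V] [FiniteDimensional F V]

namespace OS

variable {d : OS F L S V} {H : Subgroup (orthGroup d.Q)}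

/-- Elements fixing a column pointwise and trivial above it have a middle part. -/
theorem exists_qel {u : L} (hu : d.QL u = 0) (hu0 : u ≠ 0) {y : orthGroup d.Q}
    (hfix : ∀ e, y.1 (d.t u e) = d.t u e) (hmod : ∀ z, d.C u z = 0 → y.1 z - z ∈ d.W u) :
    ∃ T, d.Qel u y T := by
  obtain ⟨u', hp⟩ := exists_hypPair d.ndL hu hu0
  refine ⟨d.t.compr₂ (d.C u' ∘ₗ (y.1.toLinearMap - LinearMap.id)), hfix, fun x hx e => ?_⟩
  obtain ⟨z, hz⟩ := hmod (d.t x e) (by rw [d.C_t, polB_comm, hx, zero_smul])
  have : d.C u' (y.1 (d.t x e) - d.t x e) = z := by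
    rw [← hz, d.C_t, hp.pair, one_smul]
  show y.1 (d.t x e) = d.t x e + d.t u (d.C u' (y.1 (d.t x e) - d.t x e))
  rw [this, hz]; abel

/-- Scalar middle parts are those of Siegel elements. -/
theorem Qel.exists_scalar_sg {u : L} (hu : d.QL u = 0) (hu0 : u ≠ 0) {y : orthGroup d.Q}
    {T : L →ₗ[F] S →ₗ[F] S} (hy : d.Qel u y T)
    (hall : ∀ x, polB d.QL u x = 0 → ∃ r : F, ∀ e, T x e = r • e) :
    ∃ w, polB d.QL u w = 0 ∧ d.Qel u (y * (d.sg u w)⁻¹) 0 := by
  obtain ⟨u', hp⟩ := exists_hypPair d.ndL hu hu0
  -- the linear functional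
  haveI : Nontrivial S := Module.nontrivial_of_finrank_pos (R := F) (by have := d.three; omega)
  obtain ⟨e₁, he₁⟩ := exists_ne (0 : S)
  obtain ⟨e₂, he₂⟩ := exists_polB_eq d.ndS he₁ 1
  let ψ : L →ₗ[F] F := (polB d.QS).flip e₂ ∘ₗ T.flip e₁ ∘ₗ pairProj d.QL u u'
  set w₀ := ((polB d.QL).toDual d.ndL).symm (-ψ) with hw₀
  have hψ : ∀ x, polB d.QL w₀ x = -ψ x := fun x => by
    rw [hw₀, LinearMap.BilinForm.apply_toDual_symm_apply (hB := d.ndL)]; rfl
  set w := w₀ - polB d.QL u w₀ • u' with hw
  have huw : polB d.QL u w = 0 := by rw [hw, map_sub, map_smul, hp.pair, smul_eq_mul, mul_one, sub_self]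
  have hψu : ψ u = 0 := by
    show polB d.QS (T (pairProj d.QL u u' u) e₁) e₂ = 0
    rw [pairProj_apply, hp.pair, polB_self_zero hu]
    simp
  have hTw : ∀ x, polB d.QL u x = 0 → ∀ e, T x e = -(polB d.QL x w • e) := by
    intro x hx e
    obtain ⟨r, hr⟩ := hall x hx
    have h0 : polB d.QL u w₀ = 0 := by rw [polB_comm, hψ, hψu, neg_zero]
    have h1 : polB d.QL x w = -r := by
      rw [hw, h0, zero_smul, sub_zero, polB_comm, hψ]
      show -polB d.QS (T (pairProj d.QL u u' x) e₁) e₂ = -r
      rw [pairProj_apply, polB_comm x u, hx, map_sub, map_sub, map_smul, map_smul, LinearMap.sub_apply,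
        LinearMap.sub_apply, LinearMap.smul_apply, LinearMap.smul_apply, hy.T_self hu hu0, hr]
      simp [he₂]
    rw [h1, hr, neg_smul, neg_neg]
  exact ⟨w, huw, (hy.mul (d.sg_qel u w hu huw).inv).congr_T fun x hx e => by simp [hTw x hx e]⟩

/-- The radical of a singular column of a small overgroup consists of Siegel elements. -/
theorem q_shape (hH : d.Over H) (hS : d.Small H) {u : L} (hu : d.QL u = 0) (hu0 : u ≠ 0)
    {y : orthGroup d.Q} (hm : y ∈ H) {T : L →ₗ[F] S →ₗ[F] S} (hy : d.Qel u y T) :
    ∃ w, polB d.QL u w = 0 ∧ y = d.sg u w := by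
  classical
  obtain ⟨u', hp⟩ := exists_hypPair d.ndL hu hu0
  -- self-adjointness
  have hsym : ∀ x, polB d.QL u x = 0 → ∀ a b, polB d.QS (T x a) b = polB d.QS a (T x b) := by
    intro x hx a b
    have h := hy.adjoint_of_comm (d.sg_qel u x hu hx) hu hu0 hx (R := -LinearMap.id) (fun a b => by simp)
      (fun z _ e => by simp) (Qel.comm_of_small hS hu hu0 hy (d.sg_qel u x hu hx) hm (hH.sg_mem hu hx)) a b
    simpa using h
  have hall : ∀ x, polB d.QL u x = 0 → ∃ r : F, ∀ e, T x e = r • e := by
    rcases eq_or_ne (Module.finrank F L) 4 with h4 | h4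
    · exact four_scalar hH hS hu hu0 hm hy h4
    have hfive := d.five h4
    -- singular middle vectors act by scalars
    have hsc : ∀ n, d.QL n = 0 → polB d.QL u n = 0 → polB d.QL u' n = 0 → ∃ r : F, ∀ e, T n e = r • e := by
      intro n hn hun hu'n
      rcases eq_or_ne n 0 with rfl | hn0
      · exact ⟨0, fun e => by simp⟩
      obtain ⟨n', hpn, hn'⟩ := exists_hypPair_orth d.ndL hn (W := Submodule.span F {u, u'}) (c := n) (by
          intro hmem
          obtain ⟨α, β, rfl⟩ := Submodule.mem_span_pair.1 hmem
          simp only [map_add, map_smul, smul_eq_mul, polB_self, hu, hp.right, hp.pair, hp.symm.pair, mul_zero,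
            mul_one, zero_add, add_zero] at hun hu'n
          simp [hun, hu'n] at hn0)
        (fun z hz => by
          obtain ⟨α, β, rfl⟩ := Submodule.mem_span_pair.1 hz
          simp [hun, hu'n])
      -- an anisotropic vector orthogonal to both pairs
      obtain ⟨m, hm1, hm2, hm3, hmQ⟩ : ∃ m, polB d.QL u m = 0 ∧ polB d.QL u' m = 0 ∧ polB d.QL n m = 0 ∧
          d.QL m ≠ 0 := by
        by_contra hcon
        push Not at hcon
        set U := (polB d.QL).orthogonal (Submodule.span F ({u, u', n} : Set L)) with hU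
        have hsing : ∀ z ∈ U, d.QL z = 0 := fun z hz => by
          rw [hU, mem_orth_span] at hz
          exact hcon z (hz u (by simp)) (hz u' (by simp)) (hz n (by simp))
        have h1 := two_mul_finrank_singular_le d.ndL U hsing
        have h2 := finrank_orth_add d.ndL (Submodule.span F ({u, u', n} : Set L))
        rw [← hU] at h2
        have h3 : Module.finrank F (Submodule.span F ({u, u', n} : Set L)) ≤ 3 := by
          have := finrank_span_finset_le_card (R := F) ({u, u', n} : Finset L)
          rw [Set.finrank] at this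
          exact le_trans (le_of_eq (by congr 2 <;> simp)) (this.trans Finset.card_le_three)
        have := hfive
        have h4 : 2 ≤ Module.finrank F U := by omega
        -- a totally singular orthogonal of `u, u', n` would be too large
        have hn_mem : n ∈ U := by
          rw [hU, mem_orth_span]
          intro y hy
          rcases hy with rfl | rfl | rfl
          · exact hun
          · exact hu'n
          · exact polB_self_zero hn
        have hu_mem : ∀ z ∈ U, polB d.QL z u = 0 := fun z hz => by
          rw [hU, mem_orth_span] at hz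
          rw [polB_comm]; exact hz u (by simp)
        have h5 : u ∉ U := fun h => by
          rw [hU, mem_orth_span] at h
          have := h u' (by simp)
          rw [hp.symm.pair] at this
          exact one_ne_zero this
        have hsing' : ∀ z ∈ U ⊔ F ∙ u, d.QL z = 0 := fun z hz => by
          obtain ⟨a, ha, b, hb, rfl⟩ := Submodule.mem_sup.1 hz
          obtain ⟨k, rfl⟩ := Submodule.mem_span_singleton.1 hb
          rw [qmap_add_smul, hsing a ha, hu, hu_mem a ha]; ring
        have h6 := two_mul_finrank_singular_le d.ndL _ hsing'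
        have h8 : Module.finrank F U < Module.finrank F (U ⊔ F ∙ u : Submodule F L) :=
          Submodule.finrank_lt_finrank_of_lt (lt_of_le_of_ne le_sup_left fun h => h5 (by
            rw [h]; exact Submodule.mem_sup_right (Submodule.mem_span_singleton_self u)))
        omega
      have hm3' : polB d.QL n (-m) = 0 := by rw [map_neg, hm3, neg_zero]
      have hfixu : ∀ m', polB d.QL u m' = 0 → polB d.QL n m' = 0 → (eichler d.QL n m').1 u = u := fun m' a b =>
        eichler_fix hn b hun a
      have hEp := hH.liftL_mem (eichler_mem_comm d.ndL d.two d.threeL hn hm3)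
      have hEm := hH.liftL_mem (eichler_mem_comm d.ndL d.two d.threeL hn hm3')
      have hyp := hy.conj_L (eichler d.QL n m) (hfixu m hm1 hm3)
        (T' := T ∘ₗ (eichler d.QL n m)⁻¹.1.toLinearMap) (fun x _ e => rfl)
      have hym := hy.conj_L (eichler d.QL n (-m)) (hfixu _ (by rw [map_neg, hm1, neg_zero]) hm3')
        (T' := T ∘ₗ (eichler d.QL n (-m))⁻¹.1.toLinearMap) (fun x _ e => rfl)
      set R : S →ₗ[F] S := (-(2 * d.QL m)) • T n with hRdef
      have hy2 := ((hyp.mul hym).mul (hy.mul hy).inv).congr_T
        (T' := ((polB d.QL).flip n).smulRight R) fun x _ e => by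
          show T ((eichler d.QL n m)⁻¹.1 x) e + T ((eichler d.QL n (-m))⁻¹.1 x) e + -(T x e + T x e) =
            polB d.QL x n • R e
          rw [eichler_inv hn hm3, eichler_inv hn hm3', neg_neg, eichler_apply hn hm3, eichler_apply hn hm3', hRdef]
          simp only [map_add, map_sub, map_smul, map_neg, qmap_neg, LinearMap.add_apply, LinearMap.sub_apply,
            LinearMap.smul_apply, LinearMap.neg_apply]
          module
      have hm2' : (d.liftL (eichler d.QL n m) * y * (d.liftL (eichler d.QL n m))⁻¹ *
          (d.liftL (eichler d.QL n (-m)) * y * (d.liftL (eichler d.QL n (-m)))⁻¹)) * (y * y)⁻¹ ∈ H :=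
        mul_mem (mul_mem (mul_mem (mul_mem hEp hm) (inv_mem hEp)) (mul_mem (mul_mem hEm hm) (inv_mem hEm)))
          (inv_mem (mul_mem hm hm))
      have hRs : ∀ a b, polB d.QS (R a) b = polB d.QS a (R b) := fun a b => by
        simp [hRdef, hsym n hun]
      refine scalar_of_comm d.ndS d.two d.three d.sameS (T n) (hsym n hun) fun ν μ hν hνμ x => ?_
      have hνμ' : polB d.QS ν (-μ) = 0 := by rw [map_neg, hνμ, neg_zero]
      set g := eichler d.QS ν μ with hg
      have hc := hH.liftS_mem (eichler_mem_comm d.ndS d.two d.three hν hνμ)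
      set T' : L →ₗ[F] S →ₗ[F] S := T.compr₂ g.1.toLinearMap |>.compl₂ (g⁻¹).1.toLinearMap with hT'def
      have hT'e : ∀ x e, T' x e = g.1 (T x ((g⁻¹).1 e)) := fun x e => rfl
      have hy' := hy.conj_S g (T' := T') fun x _ e => rfl
      have hm' : d.liftS g * y * (d.liftS g)⁻¹ ∈ H := mul_mem (mul_mem hc hm) (inv_mem hc)
      have hR' : ∀ x, polB d.QL u x = 0 → ∀ e,
          ((polB d.QL).flip n).smulRight R x e = polB d.QL x n • R e := fun x _ e => rfl
      have hcomm := Qel.comm_of_small hS hu hu0 hy' hy2 hm' hm2'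
      have hT's : ∀ a b, polB d.QS (T' n a) b = polB d.QS a (T' n b) := fun a b => by
        rw [hT'e, hT'e]
        conv_lhs => rw [← orth_apply_inv_self g b, orth_polB_map, hsym n hun]
        conv_rhs => rw [← orth_apply_inv_self g a, orth_polB_map]
      have hκ : (2 : F) * d.QL m ≠ 0 := mul_ne_zero d.two hmQ
      have h := hy'.adjoint_of_comm hy2 hu hu0 hun hRs hR' hcomm
      have e : T' n (T n x) = T n (T' n x) := by
        refine d.S_ext fun b => ?_
        have := h x b
        simp only [hRdef, LinearMap.smul_apply, LinearMap.neg_apply, map_smul, map_neg, smul_eq_mul,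
          neg_inj, neg_smul, neg_mul] at this
        rw [mul_right_inj' hκ] at this
        rw [this, hsym n hun, hT's]
      have hgi : g⁻¹ = eichler d.QS ν (-μ) := by rw [hg, eichler_inv hν hνμ]
      rw [hT'e, hT'e, hgi] at e
      exact e.symm
    -- all middle vectors act by scalars
    set A := (polB d.QL).orthogonal (Submodule.span F {u, u'}) with hA
    have hnd := hp.restrict_nondeg d.ndL
    have hAd : 3 ≤ Module.finrank F A := by
      rw [hA]; have := finrank_orth_pair d.ndL u u'; have := hfive; omega
    let Sc : Submodule F (S →ₗ[F] S) := F ∙ LinearMap.id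
    have hz : Sc.mkQ ∘ₗ T ∘ₗ A.subtype = 0 := by
      refine hom_zero_of_singular (Q := d.QL.restrict A) hnd d.two hAd _ fun n hn => ?_
      obtain ⟨n, hnA⟩ := n
      obtain ⟨h1, h2⟩ := mem_orth_pair.1 hnA
      obtain ⟨r, hr⟩ := hsc n hn h1 h2
      simp only [LinearMap.comp_apply, Submodule.subtype_apply, Submodule.mkQ_apply, Submodule.Quotient.mk_eq_zero]
      exact Submodule.mem_span_singleton.2 ⟨r, LinearMap.ext fun e => by rw [hr]; rfl⟩
    intro x hx
    have hp' : pairProj d.QL u u' x ∈ A := mem_orth_pair.2 ⟨pairProj_left hp x, pairProj_right hp x⟩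
    have := LinearMap.congr_fun hz ⟨_, hp'⟩
    simp only [LinearMap.comp_apply, Submodule.subtype_apply, Submodule.mkQ_apply, Submodule.Quotient.mk_eq_zero,
      LinearMap.zero_apply] at this
    obtain ⟨r, hr⟩ := Submodule.mem_span_singleton.1 this
    refine ⟨r, fun e => ?_⟩
    have e1 : x = pairProj d.QL u u' x + polB d.QL x u' • u := by
      rw [pairProj_apply, polB_comm x u, hx]; simp
    conv_lhs => rw [e1, map_add, map_smul, LinearMap.add_apply, LinearMap.smul_apply, hy.T_self hu hu0, ← hr]
    simp
  obtain ⟨w, huw, hw⟩ := hy.exists_scalar_sg hu hu0 hall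
  have h := hS u _ hu hu0 (mul_mem hm (inv_mem (hH.sg_mem hu huw))) hw
  exact ⟨w, huw, by rwa [mul_inv_eq_one] at h⟩

end OS

end H98.TE
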