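import Cfsg.Agent.H98.TensEven.Over

/-!
The middle parts of the radical of a singular column when the first factor is four-dimensional without singular
planes and the second three-dimensional.
-/

set_option autoImplicit false
set_option linter.unusedSectionVars false

namespace H98.TE

open H43 H98.TO

section three

variable {F : Type*} [Field F] [Finite F] {W : Type*} [AddCommGroup W] [Module F W] [FiniteDimensional F W]
  {Q : QuadraticForm F W}

/-- Self-adjoint maps of a three-dimensional space fixed up to scalars by a root group. -/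
theorem shape_three (hQ : (polB Q).Nondegenerate) (h2 : (2 : F) ≠ 0) (h3 : Module.finrank F W = 3)
    (hq : ∃ t : F, t ≠ 0 ∧ t * t ≠ 1) {ν ν' : W} (hp : HypPair Q ν ν') (T : W →ₗ[F] W)
    (hT : ∀ x y, polB Q (T x) y = polB Q x (T y))
    (hfix : ∀ m, polB Q ν m = 0 → ∃ r : F, ∀ x,
      (eichler Q ν m).1 (T x) = T ((eichler Q ν m).1 x) + r • (eichler Q ν m).1 x) :
    ∀ x, T x = polB Q (T ν) ν' • x + (polB Q (T ν') ν' * polB Q x ν) • ν := by
  obtain ⟨b, hb, hb', hQb⟩ := exists_aniso_orth_pair hQ (by omega) hp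
  have hbν : polB Q b ν = 0 := by rw [polB_comm]; exact hb
  have hbν' : polB Q b ν' = 0 := by rw [polB_comm]; exact hb'
  have hνν := polB_self_zero (Q := Q) hp.left
  have key : ∀ s : F, ∃ r : F,
      polB Q (T ν) ν * (s * (2 * Q b)) = 0 ∧ r = -(s * polB Q (T ν) b) ∧
        polB Q (T ν') ν' = polB Q (T (ν' + s • b - (s * s * Q b) • ν)) (ν' + s • b - (s * s * Q b) • ν) := by
    intro s
    have hm : polB Q ν (s • b) = 0 := by rw [map_smul, hb, smul_zero]
    obtain ⟨r, hr⟩ := hfix (s • b) hm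
    have hg : (eichler Q ν (s • b)).1 ν' = ν' + s • b - (s * s * Q b) • ν := by
      rw [eichler_apply hp.left hm, hp.symm.pair, map_smul, hb', qmap_smul]
      module
    have hgν : (eichler Q ν (s • b)).1 ν = ν := eichler_fix hp.left hm hνν hm
    have e1 := hr ν
    rw [hgν, eichler_apply hp.left hm] at e1
    have e1b := congrArg (fun v => polB Q v b) e1
    have e1c := congrArg (fun v => polB Q v ν') e1
    simp only [map_add, map_sub, map_smul, LinearMap.add_apply, LinearMap.sub_apply, LinearMap.smul_apply,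
      smul_eq_mul, polB_self, hb, hbν', qmap_smul, mul_zero, add_zero, sub_zero, hp.pair, mul_one] at e1b e1c
    have h11 : polB Q (T ν) ν * (s * (2 * Q b)) = 0 := by linear_combination e1b
    have h11' : s * (s * Q b * polB Q (T ν) ν) = 0 := by
      have : (2 : F) * (s * (s * Q b * polB Q (T ν) ν)) = 0 := by linear_combination s * h11
      exact (mul_eq_zero.1 this).resolve_left h2
    refine ⟨r, h11, by linear_combination -e1c - h11', ?_⟩
    have e2 := congrArg (fun v => polB Q v ((eichler Q ν (s • b)).1 ν')) (hr ν')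
    simp only [orth_polB_map, map_add, map_smul, LinearMap.add_apply, LinearMap.smul_apply, smul_eq_mul, polB_self,
      orth_qmap] at e2
    rw [hp.right, mul_zero, mul_zero, add_zero, hg] at e2
    exact e2
  have h11 : polB Q (T ν) ν = 0 := by
    obtain ⟨r, h, -, -⟩ := key 1
    rw [one_mul] at h
    exact (mul_eq_zero.1 h).resolve_right (mul_ne_zero h2 hQb)
  have e : ∀ s : F, 2 * s * polB Q (T ν') b + s * s * polB Q (T b) b - 2 * (s * s * Q b) * polB Q (T ν) ν'
      - 2 * (s * s * s * Q b) * polB Q (T ν) b = 0 := by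
    intro s
    obtain ⟨-, -, -, h⟩ := key s
    simp only [map_add, map_sub, map_smul, LinearMap.add_apply, LinearMap.sub_apply, LinearMap.smul_apply,
      smul_eq_mul, h11, hT b ν, hT ν' ν, hT b ν', polB_comm b (T ν), polB_comm ν' (T ν), polB_comm b (T ν')] at h
    linear_combination -h
  have hodd : ∀ s : F, s ≠ 0 → polB Q (T ν') b = s * s * Q b * polB Q (T ν) b := by
    intro s hs
    have h4 : (2 * 2 * s) * (polB Q (T ν') b - s * s * Q b * polB Q (T ν) b) = 0 := by
      linear_combination e s - e (-s)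
    exact sub_eq_zero.1 ((mul_eq_zero.1 h4).resolve_left (mul_ne_zero (mul_ne_zero h2 h2) hs))
  have h12 : polB Q (T ν) b = 0 := by
    obtain ⟨t, ht, ht1⟩ := hq
    have e1 : (t * t - 1) * (Q b * polB Q (T ν) b) = 0 := by linear_combination hodd 1 one_ne_zero - hodd t ht
    exact (mul_eq_zero.1 ((mul_eq_zero.1 e1).resolve_left (sub_ne_zero.2 ht1))).resolve_left hQb
  have h23 : polB Q (T ν') b = 0 := by rw [hodd 1 one_ne_zero, h12, mul_zero]
  have h22 : polB Q (T b) b = 2 * Q b * polB Q (T ν) ν' := by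
    have := e 1
    rw [h23, h12] at this
    linear_combination this
  -- the pairings determine the map
  have hA : ∀ z, polB Q ν z = 0 → polB Q ν' z = 0 → ∃ c : F, z = c • b := by
    intro z hz hz'
    set A := (polB Q).orthogonal (Submodule.span F ({ν, ν'} : Set W))
    have hAd : Module.finrank F A = 1 := by
      have := finrank_orth_add hQ (Submodule.span F ({ν, ν'} : Set W))
      have e : Module.finrank F (Submodule.span F ({ν, ν'} : Set W)) = 2 := by
        rw [show ({ν, ν'} : Set W) = Set.range ![ν, ν'] by simp [Matrix.range_cons, Set.pair_comm],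
          finrank_span_eq_card hp.linearIndependent]
        simp
      rw [e, h3] at this
      exact Nat.add_right_cancel (m := 2) this
    obtain ⟨c, hc⟩ := (finrank_eq_one_iff_of_nonzero' (⟨b, mem_orth_pair.2 ⟨hb, hb'⟩⟩ : A) (fun h => hQb (by
      rw [show b = 0 from congrArg Subtype.val h]; exact QuadraticMap.map_zero _))).1 hAd ⟨z, mem_orth_pair.2 ⟨hz, hz'⟩⟩
    exact ⟨c, (congrArg Subtype.val hc).symm⟩
  intro x
  refine sub_eq_zero.1 (hQ.1 _ fun y => ?_)
  obtain ⟨c, hc⟩ := hA _ (pairProj_left hp x) (pairProj_right hp x)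
  obtain ⟨d, hd⟩ := hA _ (pairProj_left hp y) (pairProj_right hp y)
  have hx := decomp_pair (Q := Q) ν ν' x
  have hy := decomp_pair (Q := Q) ν ν' y
  rw [hc] at hx
  rw [hd] at hy
  generalize polB Q x ν' = x1 at hx ⊢
  rw [hy]
  generalize polB Q y ν' = y1
  generalize polB Q y ν = y2
  generalize hx2 : polB Q x ν = x2 at hx ⊢
  rw [hx]
  simp only [map_add, map_sub, map_smul, LinearMap.add_apply, LinearMap.sub_apply, LinearMap.smul_apply,
    smul_eq_mul, hT b ν, hT ν' ν, hT b ν', polB_comm b (T ν), polB_comm ν' (T ν), polB_comm b (T ν'),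
    h11, h12, h22, h23, hνν, hp.pair, hp.symm.pair, polB_self_zero hp.right, hb, hb', hbν, hbν', polB_self]
  ring

end three

variable {F : Type*} [Field F] [Finite F]
  {L : Type*} [AddCommGroup L] [Module F L] [FiniteDimensional F L]
  {S : Type*} [AddCommGroup S] [Module F S] [FiniteDimensional F S]
  {V : Type*} [AddCommGroup V] [Module F V] [FiniteDimensional F V]

namespace OS

variable {d : OS F L S V} {H : Subgroup (orthGroup d.Q)}

/-- The middle parts of a small overgroup are self-adjoint. -/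
theorem qel_sym (hH : d.Over H) (hS : d.Small H) {u : L} (hu : d.QL u = 0) (hu0 : u ≠ 0)
    {y : orthGroup d.Q} (hm : y ∈ H) {T : L →ₗ[F] S →ₗ[F] S} (hy : d.Qel u y T) {x : L}
    (hx : polB d.QL u x = 0) (a b : S) : polB d.QS (T x a) b = polB d.QS a (T x b) := by
  have h := hy.adjoint_of_comm (d.sg_qel u x hu hx) hu hu0 hx (R := -LinearMap.id) (fun a b => by simp)
    (fun z _ e => by simp) (Qel.comm_of_small hS hu hu0 hy (d.sg_qel u x hu hx) hm (hH.sg_mem hu hx)) a b
  simpa using h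

/-- The middle parts are scalar. -/
theorem four_scalar (hH : d.Over H) (hS : d.Small H) {u : L} (hu : d.QL u = 0) (hu0 : u ≠ 0)
    {y : orthGroup d.Q} (hm : y ∈ H) {T : L →ₗ[F] S →ₗ[F] S} (hy : d.Qel u y T)
    (hl : Module.finrank F L = 4) :
    ∀ x, polB d.QL u x = 0 → ∃ r : F, ∀ e, T x e = r • e := by
  classical
  haveI := Fintype.ofFinite F
  obtain ⟨hs3, hts, hq⟩ := d.small hl
  obtain ⟨p, hpc⟩ := CharP.exists F
  haveI := hpc
  haveI : Fact p.Prime := ⟨CharP.char_is_prime F p⟩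
  obtain ⟨u', hp⟩ := exists_hypPair d.ndL hu hu0
  set A := (polB d.QL).orthogonal (Submodule.span F ({u, u'} : Set L)) with hA
  have haniso : ∀ z ∈ A, z ≠ 0 → d.QL z ≠ 0 := fun z hz hz0 hQz => by
    obtain ⟨z1, z2⟩ := mem_orth_pair.1 hz
    obtain ⟨s, rfl⟩ := Submodule.mem_span_singleton.1 (hts u z hu hQz z1 hu0)
    rw [map_smul, hp.symm.pair, smul_eq_mul, mul_one] at z2
    exact hz0 (by rw [z2, zero_smul])
  -- reduction to the middle plane
  suffices hmid : ∀ a ∈ A, ∃ r : F, ∀ e, T a e = r • e by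
    intro x hx
    obtain ⟨r, hr⟩ := hmid (pairProj d.QL u u' x) (mem_orth_pair.2 ⟨pairProj_left hp x, pairProj_right hp x⟩)
    refine ⟨r, fun e => ?_⟩
    have e1 : x = pairProj d.QL u u' x + polB d.QL x u' • u := by
      rw [pairProj_apply, polB_comm x u, hx]; simp
    conv_lhs => rw [e1, map_add, map_smul, LinearMap.add_apply, LinearMap.smul_apply, hy.T_self hu hu0, hr]
    simp
  let Sc : Submodule F (S →ₗ[F] S) := F ∙ LinearMap.id
  let res : (L →ₗ[F] S →ₗ[F] S) → (A →ₗ[F] (S →ₗ[F] S) ⧸ Sc) := fun T => Sc.mkQ ∘ₗ T ∘ₗ A.subtype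
  let 𝒜 : AddSubgroup (A →ₗ[F] (S →ₗ[F] S) ⧸ Sc) :=
    { carrier := {τ | ∃ y ∈ H, ∃ T, d.Qel u y T ∧ res T = τ}
      zero_mem' := ⟨1, one_mem _, 0, Qel.one u, by simp [res]⟩
      add_mem' := fun {τ τ'} h h' => by
        obtain ⟨y, hy, T, hT, rfl⟩ := h
        obtain ⟨y', hy', T', hT', rfl⟩ := h'
        exact ⟨y * y', mul_mem hy hy', T + T', hT.mul hT', by simp [res, LinearMap.add_comp, LinearMap.comp_add]⟩
      neg_mem' := fun {τ} h => by
        obtain ⟨y, hy, T, hT, rfl⟩ := h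
        exact ⟨y⁻¹, inv_mem hy, -T, hT.inv, by simp [res, LinearMap.neg_comp, LinearMap.comp_neg]⟩ }
  suffices h0 : 𝒜 = ⊥ by
    intro a ha
    have h1 : res T ∈ 𝒜 := ⟨y, hm, T, hy, rfl⟩
    rw [h0, AddSubgroup.mem_bot] at h1
    have h2 := LinearMap.congr_fun h1 ⟨a, ha⟩
    simp only [res, LinearMap.comp_apply, Submodule.subtype_apply, Submodule.mkQ_apply, LinearMap.zero_apply,
      Submodule.Quotient.mk_eq_zero] at h2
    obtain ⟨r, hr⟩ := Submodule.mem_span_singleton.1 h2
    exact ⟨r, fun e => by rw [← hr]; rfl⟩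
  by_contra hne
  obtain ⟨ν, hν0, hν⟩ := exists_sing d.ndS d.three
  obtain ⟨ν', hpν⟩ := exists_hypPair d.ndS hν hν0
  -- the root group at `ν` acts on the residues
  let CM : orthGroup d.QS → ((S →ₗ[F] S) →ₗ[F] (S →ₗ[F] S)) := fun g =>
    LinearMap.llcomp F S S S g.1.toLinearMap ∘ₗ LinearMap.lcomp F S (g⁻¹).1.toLinearMap
  have hCM : ∀ g X e, CM g X e = g.1 (X ((g⁻¹).1 e)) := fun g X e => rfl
  have hCMSc : ∀ g, Sc ≤ Sc.comap (CM g) := fun g X hX => by
    obtain ⟨r, rfl⟩ := Submodule.mem_span_singleton.1 hX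
    refine Submodule.mem_span_singleton.2 ⟨r, LinearMap.ext fun e => ?_⟩
    rw [hCM]
    simp
  let CQ : orthGroup d.QS → ((S →ₗ[F] S) ⧸ Sc →ₗ[F] (S →ₗ[F] S) ⧸ Sc) := fun g =>
    Sc.mapQ Sc (CM g) (hCMSc g)
  have hCQ1 : ∀ q, CQ 1 q = q := fun q => by
    obtain ⟨X, rfl⟩ := Submodule.mkQ_surjective _ q
    simp only [CQ, Submodule.mkQ_apply, Submodule.mapQ_apply]
    rw [show CM 1 X = X from LinearMap.ext fun e => by rw [hCM, inv_one]; rfl]
  have hCQmul : ∀ g g' q, CQ (g * g') q = CQ g (CQ g' q) := fun g g' q => by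
    obtain ⟨X, rfl⟩ := Submodule.mkQ_surjective _ q
    simp only [CQ, Submodule.mkQ_apply, Submodule.mapQ_apply]
    rw [show CM (g * g') X = CM g (CM g' X) from LinearMap.ext fun e => by
      rw [hCM, hCM, hCM, mul_inv_rev, orth_mul_apply, orth_mul_apply]]
  have hcomm : ∀ m, polB d.QS ν m = 0 → eichler d.QS ν m ∈ commutator (orthGroup d.QS) := fun m hm =>
    eichler_mem_comm d.ndS d.two d.three hν hm
  have hinv : ∀ g ∈ commutator (orthGroup d.QS), ∀ τ ∈ 𝒜, CQ g ∘ₗ τ ∈ 𝒜 := by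
    rintro g hg _ ⟨y, hy, T, hT, rfl⟩
    refine ⟨_, mul_mem (mul_mem (hH.liftS_mem hg) hy) (inv_mem (hH.liftS_mem hg)), CM g ∘ₗ T,
      hT.conj_S g fun x _ e => hCM g (T x) e, LinearMap.ext fun a => ?_⟩
    simp [res, CQ]
  set M := LinearMap.ker (polB d.QS ν) with hM
  letI : MulAction (Multiplicative M) 𝒜 :=
    { smul := fun m τ => ⟨CQ (eichler d.QS ν (m.toAdd : S)) ∘ₗ τ.1,
        hinv _ (hcomm _ m.toAdd.2) _ τ.2⟩
      one_smul := fun τ => Subtype.ext (LinearMap.ext fun a => by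
        show CQ (eichler d.QS ν (0 : S)) (τ.1 a) = τ.1 a
        rw [eichler_zero hν, hCQ1])
      mul_smul := fun m m' τ => Subtype.ext (LinearMap.ext fun a => by
        show CQ (eichler d.QS ν ((m.toAdd : S) + (m'.toAdd : S))) (τ.1 a) =
          CQ (eichler d.QS ν (m.toAdd : S)) (CQ (eichler d.QS ν (m'.toAdd : S)) (τ.1 a))
        rw [← hCQmul, eichler_mul hν m.toAdd.2 m'.toAdd.2]) }
  haveI : Finite S := Module.finite_of_finite F
  have hpg : IsPGroup p (Multiplicative M) := by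
    obtain ⟨k, -, hk⟩ := FiniteField.card F p
    refine IsPGroup.of_card (n := k * Module.finrank F M) ?_
    rw [Nat.card_congr Multiplicative.toAdd, Module.natCard_eq_pow_finrank (K := F), Nat.card_eq_fintype_card,
      hk, ← pow_mul]
  haveI : Finite (A →ₗ[F] (S →ₗ[F] S) ⧸ Sc) := Module.finite_of_finite F
  have hpA : p ∣ Nat.card 𝒜 := by
    obtain ⟨⟨τ, hτ⟩, hτ0⟩ := 𝒜.ne_bot_iff_exists_ne_zero.1 hne
    have e : addOrderOf (⟨τ, hτ⟩ : 𝒜) = p := addOrderOf_eq_prime
      (Subtype.ext (by rw [AddSubgroup.coe_nsmul, ← Nat.cast_smul_eq_nsmul F]; simp)) hτ0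
    rw [← e]; exact addOrderOf_dvd_natCard _
  obtain ⟨⟨τ, hτA⟩, hfix, hτ0⟩ := hpg.exists_fixed_point_of_prime_dvd_card_of_fixed_point (α := 𝒜) hpA (a := 0)
    (fun m => Subtype.ext (LinearMap.comp_zero _))
  obtain ⟨y, hyH, T, hT, hτ⟩ := hτA
  -- the fixed residue
  have hshape : ∀ a ∈ A, ∀ e, T a e = polB d.QS (T a ν) ν' • e +
      (polB d.QS (T a ν') ν' * polB d.QS e ν) • ν := by
    intro a ha
    obtain ⟨ha1, -⟩ := mem_orth_pair.1 ha
    refine shape_three d.ndS d.two hs3 hq hpν (T a) (qel_sym hH hS hu hu0 hyH hT ha1) fun m hm => ?_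
    have h1 := congrArg Subtype.val (hfix (Multiplicative.ofAdd (⟨m, hm⟩ : M)))
    have h2 := LinearMap.congr_fun (show CQ (eichler d.QS ν m) ∘ₗ τ = τ from h1) ⟨a, ha⟩
    rw [← hτ] at h2
    simp only [res, CQ, LinearMap.comp_apply, Submodule.subtype_apply, Submodule.mkQ_apply,
      Submodule.mapQ_apply, Submodule.Quotient.eq] at h2
    obtain ⟨r, hr⟩ := Submodule.mem_span_singleton.1 h2
    refine ⟨r, fun x => ?_⟩
    have h3 := LinearMap.congr_fun hr ((eichler d.QS ν m).1 x)
    rw [LinearMap.sub_apply, hCM, orth_inv_apply_self] at h3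
    have h3' : r • (eichler d.QS ν m).1 x = (eichler d.QS ν m).1 (T a x) - T a ((eichler d.QS ν m).1 x) := h3
    rw [h3', add_sub_cancel]
  -- its two functionals
  let P := pairProj d.QL u u'
  set m₀ := ((polB d.QL).toDual d.ndL).symm
    ((polB d.QS).flip ν' ∘ₗ T.flip ν ∘ₗ P) with hm₀
  set n₀ := ((polB d.QL).toDual d.ndL).symm
    ((polB d.QS).flip ν' ∘ₗ T.flip ν' ∘ₗ P) with hn₀
  have hm₀a : ∀ x, polB d.QL m₀ x = polB d.QS (T (P x) ν) ν' := fun x => by
    rw [hm₀, LinearMap.BilinForm.apply_toDual_symm_apply (hB := d.ndL)]; rfl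
  have hn₀a : ∀ x, polB d.QL n₀ x = polB d.QS (T (P x) ν') ν' := fun x => by
    rw [hn₀, LinearMap.BilinForm.apply_toDual_symm_apply (hB := d.ndL)]; rfl
  have hPu : P u = 0 := by
    show pairProj d.QL u u' u = 0
    rw [pairProj_apply, hp.pair, polB_self_zero hu]
    simp
  have hPu' : P u' = 0 := by
    show pairProj d.QL u u' u' = 0
    rw [pairProj_apply, hp.symm.pair, polB_self_zero hp.right]
    simp
  have hn₀A : n₀ ∈ A := mem_orth_pair.2
    ⟨by rw [polB_comm, hn₀a, hPu]; simp, by rw [polB_comm, hn₀a, hPu']; simp⟩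
  have hum₀ : polB d.QL u m₀ = 0 := by rw [polB_comm, hm₀a, hPu]; simp
  let N : S →ₗ[F] S := ((polB d.QS).flip ν).smulRight ν
  have hTx : ∀ x, polB d.QL u x = 0 → ∀ e, T x e = polB d.QL x m₀ • e + polB d.QL x n₀ • N e := by
    intro x hx e
    have e1 : x = P x + polB d.QL x u' • u := by
      show x = pairProj d.QL u u' x + polB d.QL x u' • u
      rw [pairProj_apply, polB_comm x u, hx]; simp
    rw [polB_comm x m₀, polB_comm x n₀, hm₀a, hn₀a]
    conv_lhs => rw [e1, map_add, map_smul, LinearMap.add_apply, LinearMap.smul_apply, hT.T_self hu hu0, smul_zero,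
      add_zero, hshape _ (mem_orth_pair.2 ⟨pairProj_left hp x, pairProj_right hp x⟩)]
    show _ + _ = _ + _ • (polB d.QS e ν • ν)
    rw [smul_smul]
  have hn₀0 : n₀ ≠ 0 := by
    intro h0
    refine hτ0 (Subtype.ext (LinearMap.ext fun a => ?_)).symm
    show τ a = 0
    rw [← hτ]
    simp only [res, LinearMap.comp_apply, Submodule.subtype_apply, Submodule.mkQ_apply,
      Submodule.Quotient.mk_eq_zero]
    refine Submodule.mem_span_singleton.2 ⟨polB d.QL (a : L) m₀, LinearMap.ext fun e => ?_⟩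
    rw [hTx _ (mem_orth_pair.1 a.2).1 e, h0, map_zero, zero_smul, add_zero]
    rfl
  obtain ⟨hun₀, -⟩ := mem_orth_pair.1 hn₀A
  -- a conjugate with another root
  obtain ⟨g, hg, r, hr, hgν⟩ := move d.ndS d.two d.three hν hν0 hpν.right hpν.symm.left_ne_zero
  have hy1 := (hT.mul (d.sg_qel u m₀ hu hum₀)).congr_T (T' := ((polB d.QL).flip n₀).smulRight N) fun x hx e => by
    simp [hTx x hx e]
  have hy1H := mul_mem hyH (hH.sg_mem hu hum₀)
  let R : S →ₗ[F] S := CM g N
  have hy2 := hy1.conj_S g (T' := ((polB d.QL).flip n₀).smulRight R) fun x _ e => by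
    simp [R, hCM]
  have hy2H := mul_mem (mul_mem (hH.liftS_mem hg) hy1H) (inv_mem (hH.liftS_mem hg))
  have hRe : ∀ e, R e = polB d.QS e (g.1 ν) • g.1 ν := fun e => by
    show g.1 (polB d.QS ((g⁻¹).1 e) ν • ν) = _
    rw [map_smul, ← orth_polB_map g, orth_apply_inv_self]
  have hRs : ∀ a b, polB d.QS (R a) b = polB d.QS a (R b) := fun a b => by
    simp [hRe, polB_comm a (g.1 ν), polB_comm b (g.1 ν), mul_comm]
  have h := hy1.adjoint_of_comm hy2 hu hu0 hun₀ hRs (fun x _ e => rfl)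
    (Qel.comm_of_small hS hu hu0 hy1 hy2 hy1H hy2H) ν ν'
  simp only [LinearMap.smulRight_apply, LinearMap.flip_apply, LinearMap.smul_apply, N, hRe, map_smul, smul_eq_mul,
    hgν, polB_self, hν, hpν.pair, hpν.symm.pair, hpν.right, mul_zero, mul_one, zero_mul, zero_smul, map_zero,
    LinearMap.zero_apply] at h
  have hQ := haniso n₀ hn₀A hn₀0
  simp [hr] at h
  rcases h with h | h
  · rw [polB_self] at h
    exact mul_ne_zero d.two hQ h
  · exact one_ne_zero (hpν.symm.pair.symm.trans h)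

end OS

end H98.TE
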